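import Cfsg.Agent.Lib.Spor.MclCent.Sound

/-!
The order of a group with a certified enumeration of double cosets.
-/

set_option autoImplicit false
set_option linter.unusedSectionVars false
set_option linter.style.haveILetI false

namespace Cfsg.Agent.Spor.DCoset

/-- the sizes of the listed subgroups multiply to the order -/
def Cert.sizeOK (mu : ℕ → ℕ → ℕ) (c : Cert) (N : ℕ) : Bool :=
  Nat.beq c.hLists.length (c.tree.length + 1) &&
    ((List.range c.hLists.length).all fun i =>
      let e := c.hLists.getD i (0, [])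
      Nat.beq i 0 || (c.hOK mu i e.2 && (Cert.vals e.2).dedup.length == e.2.length && Nat.beq (e.1 * e.2.length) N)) &&
    Nat.beq (c.hLists.getD 0 (0, [])).1 1 &&
    (Cert.vals c.dList).dedup.length == c.dList.length && Nat.beq (c.pts.length * c.dList.length) N

/-- the number of cosets -/
def Cert.total (c : Cert) : ℕ := (c.hLists.map Prod.fst).sum

/-- the whole check -/
structure Cert.OK (mu : ℕ → ℕ → ℕ) (c : Cert) (N : ℕ) : Prop where
  inv : c.invOK mu = true
  facts : ∀ k < c.facts.length, c.factOK mu k = true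
  pts : c.ptsOK mu = true
  dl : c.dOK mu = true
  cg : c.cgOK mu = true
  cov : c.covAll mu = true
  size : c.sizeOK mu N = true

variable {A : Type*} [Group A] [Finite A] {mu : ℕ → ℕ → ℕ} {c : Cert} {R : Rep A mu c}
  {Γ : Type*} [Group Γ] (S : Sys R Γ) {N : ℕ}

/-- every element of a finite group is reached by products of generators -/
theorem gen_induction {P : A → Prop} (h1 : P 1) (hm : ∀ a (k : Fin c.gens.length), P a → P (a * R.gen k)) :
    ∀ a, P a := by
  intro a
  have ha : a ∈ Subgroup.closure (Set.range fun k : Fin c.gens.length => R.gen k) := by rw [R.gen_top]; trivial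
  rw [← Subgroup.mem_toSubmonoid, Subgroup.closure_toSubmonoid_of_finite] at ha
  induction ha using Submonoid.closure_induction_right with
  | one => exact h1
  | mul_right x _ y hy ih =>
    obtain ⟨k, rfl⟩ := hy
    exact hm x k ih

section
variable (h : c.ptsOK mu = true)
include h

/-- a point as an element -/
theorem pts_spec : (∀ k < c.pts.length, c.pts.getD k 0 = R.cd (R.wel (c.pw.getD k []))) ∧
    (∀ k < c.pts.length, R.wel (c.pw.getD k []) * R.wel (c.reps.getD k []) = R.wel (c.reps.getD k []) * R.wel c.u) ∧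
    (∀ k < c.pts.length, ∀ g < c.gens.length, ∃ l < c.pts.length,
      R.gen g * R.wel (c.pw.getD k []) = R.wel (c.pw.getD l []) * R.gen g) ∧
    ∃ k < c.pts.length, R.wel (c.pw.getD k []) = R.wel c.u := by
  simp only [Cert.ptsOK, Bool.and_eq_true, List.all_eq_true, List.mem_range, Nat.blt_eq, Nat.beq_eq,
    List.elem_iff] at h
  obtain ⟨⟨⟨hw, hrep⟩, hmv⟩, hu⟩ := h
  have hp : ∀ k < c.pts.length, c.pts.getD k 0 = R.cd (R.wel (c.pw.getD k [])) := fun k hk => by
    rw [R.cd_wel]; exact hw k hk
  refine ⟨hp, fun k hk => R.eq_of_cd ?_, fun k hk g hg => ?_, ?_⟩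
  · rw [R.cd_mul, R.cd_mul, ← hp k hk, R.cd_wel, R.cd_wel]; exact hrep k hk
  · obtain ⟨hl, e⟩ := hmv k hk g hg
    refine ⟨_, hl, R.eq_of_cd ?_⟩
    rw [R.cd_mul, R.cd_mul, R.cd_gen, ← hp k hk, ← hp _ hl]; exact e
  · obtain ⟨k, hk, e⟩ := List.mem_iff_getElem.1 hu
    refine ⟨k, hk, R.eq_of_cd ?_⟩
    rw [← hp k hk, List.getD_eq_getElem _ _ hk, e, R.cd_wel]

theorem conj_point (a : A) : ∃ k < c.pts.length, R.wel (c.pw.getD k []) * a = a * R.wel c.u := by
  obtain ⟨hp, hrep, hmv, hu⟩ := pts_spec (R := R) h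
  have hall : ∀ b : A, ∀ k < c.pts.length, ∃ l < c.pts.length,
      b * R.wel (c.pw.getD k []) = R.wel (c.pw.getD l []) * b := by
    refine gen_induction (R := R) (fun k hk => ⟨k, hk, by simp⟩) fun b g hb k hk => ?_
    obtain ⟨l, hl, e⟩ := hmv k hk g g.2
    obtain ⟨l', hl', e'⟩ := hb l hl
    exact ⟨l', hl', by rw [mul_assoc, e, ← mul_assoc, e', mul_assoc]⟩
  obtain ⟨k, hk, e⟩ := hu
  obtain ⟨l, hl, e'⟩ := hall a k hk
  exact ⟨l, hl, by rw [← e', e]⟩

end

theorem twist_all (h : c.OK mu N) (hN : Nat.card A = N) (hpts : c.pts.Nodup) {x : A} (hx : Commute x (R.wel c.u)) :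
    ∃ y : A, S.φ x * S.σ = S.σ * S.φ y := by
  classical
  haveI := Fintype.ofFinite A
  set U := R.wel c.u with hU
  let T : Subgroup A :=
    { carrier := {x | Commute x U ∧ ∃ y : A, S.φ x * S.σ = S.σ * S.φ y}
      one_mem' := ⟨Commute.one_left _, 1, by simp⟩
      mul_mem' := fun {a b} ⟨ha, y, hy⟩ ⟨hb, z, hz⟩ => ⟨ha.mul_left hb, y * z, by
        rw [map_mul, map_mul, mul_assoc, hz, ← mul_assoc, hy, mul_assoc]⟩
      inv_mem' := fun {a} ⟨ha, y, hy⟩ => ⟨ha.inv_left, y⁻¹, by
        rw [map_inv, map_inv, inv_mul_eq_iff_eq_mul, ← mul_assoc, hy, mul_assoc, mul_inv_cancel, mul_one]⟩ }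
  let C : Subgroup A := Subgroup.centralizer {U}
  have hTC : T ≤ C := fun a ha => Subgroup.mem_centralizer_singleton_iff.2 ha.1
  -- the listed elements
  have hd := h.dl
  simp only [Cert.dOK, List.all_eq_true, List.mem_range] at hd
  have hcg := h.cg
  simp only [Cert.cgOK, List.all_eq_true, Nat.beq_eq] at hcg
  have hv : ∀ k < c.dList.length, ∃ z ∈ T, R.cd z = (c.dList.getD k (0, 0, 0)).2.2 := by
    intro k
    induction k using Nat.strong_induction_on with
    | _ k ih =>
      intro hk
      have e := hd k hk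
      rcases Nat.eq_zero_or_pos k with rfl | hk0
      · simp only [Nat.beq_refl, cond_true, Nat.beq_eq] at e
        exact ⟨1, T.one_mem, by rw [R.cd_one]; exact e.symm⟩
      · rw [show Nat.beq k 0 = false from Bool.eq_false_iff.2 fun e => hk0.ne' (Nat.eq_of_beq_eq_true e)] at e
        simp only [cond_false, Bool.and_eq_true, Nat.blt_eq, Nat.beq_eq] at e
        obtain ⟨⟨h1, h2⟩, h3⟩ := e
        obtain ⟨z, hz, hzc⟩ := ih _ h1 (h1.trans hk)
        have hm : c.cg.getD (c.dList.getD k (0, 0, 0)).2.1 ([], []) ∈ c.cg := by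
          rw [List.getD_eq_getElem _ _ h2]; exact List.getElem_mem h2
        refine ⟨z * R.wel (c.cg.getD (c.dList.getD k (0, 0, 0)).2.1 ([], [])).1,
          T.mul_mem hz ⟨R.eq_of_cd ?_, _, S.twist _ hm⟩, ?_⟩
        · rw [R.cd_mul, R.cd_mul, R.cd_wel, hU, R.cd_wel]; exact hcg _ hm
        · rw [R.cd_mul, hzc, R.cd_wel, h3]
  have hs := h.size
  simp only [Cert.sizeOK, Bool.and_eq_true, beq_iff_eq, Nat.beq_eq] at hs
  obtain ⟨⟨-, hnd⟩, hprod⟩ := hs
  choose z hz hzv using hv
  have hTcard : c.dList.length ≤ Nat.card T := by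
    have hsub : (Cert.vals c.dList).toFinset ⊆ (Finset.univ : Finset T).image fun t : T => R.cd (t : A) := by
      intro v hv
      obtain ⟨e, he, rfl⟩ := List.mem_map.1 (List.mem_toFinset.1 hv)
      obtain ⟨k, hk, rfl⟩ := List.mem_iff_getElem.1 he
      exact Finset.mem_image.2 ⟨⟨z k hk, hz k hk⟩, Finset.mem_univ _, by
        rw [hzv k hk, List.getD_eq_getElem _ _ hk]⟩
    rw [← hnd, ← List.card_toFinset, Nat.card_eq_fintype_card]
    exact (Finset.card_le_card hsub).trans Finset.card_image_le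
  -- the orbit
  obtain ⟨hp, hrep, -, -⟩ := pts_spec (R := R) h.pts
  have horb : c.pts.length * Nat.card C ≤ Nat.card A := by
    have : Function.Injective fun kc : Fin c.pts.length × C => R.wel (c.reps.getD kc.1 []) * (kc.2 : A) := by
      rintro ⟨k, a⟩ ⟨l, b⟩ e
      simp only at e
      have ha : (a : A) * U = U * a := Subgroup.mem_centralizer_singleton_iff.1 a.2
      have hb : (b : A) * U = U * b := Subgroup.mem_centralizer_singleton_iff.1 b.2
      have h1 : R.wel (c.pw.getD k []) * (R.wel (c.reps.getD k []) * (a : A)) =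
          R.wel (c.reps.getD k []) * (a : A) * U := by rw [← mul_assoc, hrep k k.2, mul_assoc, ← ha, mul_assoc]
      have h2 : R.wel (c.pw.getD l []) * (R.wel (c.reps.getD l []) * (b : A)) =
          R.wel (c.reps.getD l []) * (b : A) * U := by rw [← mul_assoc, hrep l l.2, mul_assoc, ← hb, mul_assoc]
      rw [← e, ← h1] at h2
      have h3 := hp l l.2
      rw [mul_right_cancel h2, ← hp k k.2, List.getD_eq_getElem _ _ l.2, List.getD_eq_getElem _ _ k.2] at h3
      obtain rfl : k = l := Fin.ext ((hpts.getElem_inj_iff).1 h3.symm)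
      exact Prod.ext rfl (Subtype.ext (mul_left_cancel e))
    have := Nat.card_le_card_of_injective _ this
    rwa [Nat.card_prod, Nat.card_fin] at this
  have hpos : 0 < c.pts.length := by
    obtain ⟨k, hk, -⟩ := conj_point (R := R) h.pts 1
    omega
  have hCT : C = T := (Subgroup.eq_of_le_of_card_ge hTC (le_of_mul_le_mul_left (a := c.pts.length) (by
    calc c.pts.length * Nat.card C ≤ N := horb.trans hN.le
      _ = c.pts.length * c.dList.length := hprod.symm
      _ ≤ c.pts.length * Nat.card T := Nat.mul_le_mul_left _ hTcard) hpos)).symm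
  have : x ∈ T := hCT ▸ Subgroup.mem_centralizer_singleton_iff.2 hx
  exact this.2

/-- every edge is present -/
theorem edge_all (h : c.OK mu N) (hN : Nat.card A = N) (hpts : c.pts.Nodup) (i : ℕ) (hi : i ≤ c.tree.length)
    (a : A) : ∃ (j : ℕ) (b : A), j ≤ c.tree.length ∧ S.Edge i a j b := by
  set U := R.wel c.u with hU
  obtain ⟨hp, -, -, -⟩ := pts_spec (R := R) h.pts
  have hcov := h.cov
  simp only [Cert.covAll, Bool.and_eq_true, List.all_eq_true, List.mem_range, Nat.beq_eq] at hcov
  have hi' : i < c.cov.length := by rw [hcov.1]; omega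
  have hcv := hcov.2 i hi'
  set l := c.cov.getD i [] with hl
  simp only [Cert.covOK, Bool.and_eq_true, List.all_eq_true, List.mem_range, List.elem_iff, List.mem_map] at hcv
  obtain ⟨hall, hone⟩ := hcv
  have hH := S.facts_hold h.inv h.facts
  have main : ∀ n, n < l.length → ∀ k, (l.getD n (0, Src.par n 0)).1 = k → ∀ x : A, R.cd x = c.pts.getD k 0 →
      ∃ (a : A) (j : ℕ) (b : A), j ≤ c.tree.length ∧ S.Edge i a j b ∧ a * U = x * a := by
    intro n
    induction n using Nat.strong_induction_on with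
    | _ n ih =>
      intro hn k hk x hx
      have e := hone n hn
      simp only [Cert.covOne] at e
      generalize hg : l.getD n (0, Src.par n 0) = q at e hk
      obtain ⟨k', src⟩ := q
      obtain rfl : k' = k := hk
      cases src with
      | edge g =>
        simp only at e
        cases hlk : c.look mu c.facts.length g with
        | none => simp [hlk] at e
        | some t =>
          obtain ⟨i', a', j, b'⟩ := t
          simp only [hlk, Bool.and_eq_true, Nat.beq_eq, Nat.ble_eq] at e
          obtain ⟨⟨rfl, hj⟩, heq⟩ := e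
          obtain ⟨y, z, hy, hz, he⟩ := S.look_sound hH hlk
          simp only at hy hz he
          refine ⟨y, j, z, hj, he, R.eq_of_cd ?_⟩
          rw [R.cd_mul, R.cd_mul, hy, hx, hU, R.cd_wel]
          exact heq
      | par p f =>
        simp only [Bool.and_eq_true, Nat.blt_eq] at e
        obtain ⟨⟨⟨hpn, hf⟩, hk0⟩, e⟩ := e
        cases hff : c.fact f with
        | E i' a' j' b' => simp [hff] at e
        | H i' g =>
          simp only [hff, Bool.and_eq_true, Nat.beq_eq] at e
          obtain ⟨rfl, heq⟩ := e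
          have hh := hH f hf
          rw [hff] at hh
          obtain ⟨y, hy, hym⟩ := hh
          set k0 := (l.getD p (0, Src.par p 0)).1
          obtain ⟨a1, j, b, hj, he, ha1⟩ := ih p hpn (hpn.trans hn) k0 rfl (y⁻¹ * x * y) (by
            rw [hp k0 hk0] at heq ⊢
            rw [← hx, ← hy, ← R.cd_mul, ← R.cd_mul] at heq
            rw [mul_assoc, ← R.eq_of_cd heq, inv_mul_cancel_left])
          refine ⟨y * a1, j, b, hj, S.edge_left hym he, ?_⟩
          rw [mul_assoc, ha1]
          group
  obtain ⟨k, hk, hka⟩ := conj_point (R := R) h.pts a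
  obtain ⟨q, hq, hqk⟩ := hall k hk
  obtain ⟨n, hn, rfl⟩ := List.mem_iff_getElem.1 hq
  obtain ⟨a', j, b, hj, he, ha'⟩ := main n hn k (by rw [List.getD_eq_getElem _ _ hn]; exact hqk)
    (R.wel (c.pw.getD k [])) (hp k hk).symm
  have hcomm : Commute (a'⁻¹ * a) U := by
    show a'⁻¹ * a * U = U * (a'⁻¹ * a)
    rw [mul_assoc, ← hka, ← mul_assoc, ← mul_assoc,
      show a'⁻¹ * R.wel (c.pw.getD k []) = U * a'⁻¹ by
        rw [inv_mul_eq_iff_eq_mul, ← mul_assoc, ha', mul_inv_cancel_right]]
  obtain ⟨y, hy⟩ := twist_all S h hN hpts hcomm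
  exact ⟨j, b * y, hj, by simpa using S.edge_twist he hy⟩

theorem index_le (h : c.OK mu N) (hN : Nat.card A = N) {i : ℕ} (hi : i ≤ c.tree.length) :
    (S.stab i).index ≤ (c.hLists.getD i (0, [])).1 := by
  classical
  haveI := Fintype.ofFinite A
  have hs := h.size
  simp only [Cert.sizeOK, Bool.and_eq_true, Bool.or_eq_true, List.all_eq_true, List.mem_range, beq_iff_eq,
    Nat.beq_eq] at hs
  obtain ⟨⟨⟨⟨hlen, hall⟩, h0⟩, -⟩, -⟩ := hs
  rcases hall i (by omega) with rfl | ⟨⟨hok, hnd⟩, hprod⟩
  · rw [h0, S.stab_zero, Subgroup.index_top]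
  set l := (c.hLists.getD i (0, [])).2
  set sz := (c.hLists.getD i (0, [])).1
  simp only [Cert.hOK, List.all_eq_true, List.mem_range] at hok
  have hH := S.facts_hold h.inv h.facts
  have hv : ∀ k < l.length, ∃ z ∈ S.stab i, R.cd z = (l.getD k (0, 0, 0)).2.2 := by
    intro k
    induction k using Nat.strong_induction_on with
    | _ k ih =>
      intro hk
      have e := hok k hk
      rcases Nat.eq_zero_or_pos k with rfl | hk0
      · simp only [Nat.beq_refl, cond_true, Nat.beq_eq] at e
        exact ⟨1, one_mem _, by rw [R.cd_one]; exact e.symm⟩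
      · rw [show Nat.beq k 0 = false from Bool.eq_false_iff.2 fun e => hk0.ne' (Nat.eq_of_beq_eq_true e)] at e
        simp only [cond_false, Bool.and_eq_true, Nat.blt_eq] at e
        obtain ⟨⟨h1, h2⟩, h3⟩ := e
        obtain ⟨z, hz, hzc⟩ := ih _ h1 (h1.trans hk)
        cases hff : c.fact (l.getD k (0, 0, 0)).2.1 with
        | E i' a' j' b' => rw [hff] at h3; exact absurd h3 Bool.false_ne_true
        | H i' g =>
          simp only [hff, Bool.and_eq_true, Nat.beq_eq] at h3
          obtain ⟨rfl, h4⟩ := h3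
          have hh := hH _ h2
          rw [hff] at hh
          obtain ⟨y, hy, hym⟩ := hh
          exact ⟨z * y, mul_mem hz hym, by rw [R.cd_mul, hzc, hy, h4]⟩
  choose z hz hzv using hv
  have hcard : l.length ≤ Nat.card (S.stab i) := by
    have hsub : (Cert.vals l).toFinset ⊆ (Finset.univ : Finset (S.stab i)).image fun t : S.stab i => R.cd (t : A) := by
      intro v hv
      obtain ⟨e, he, rfl⟩ := List.mem_map.1 (List.mem_toFinset.1 hv)
      obtain ⟨k, hk, rfl⟩ := List.mem_iff_getElem.1 he
      exact Finset.mem_image.2 ⟨⟨z k hk, hz k hk⟩, Finset.mem_univ _, by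
        rw [hzv k hk, List.getD_eq_getElem _ _ hk]⟩
    rw [← hnd, ← List.card_toFinset, Nat.card_eq_fintype_card]
    exact (Finset.card_le_card hsub).trans Finset.card_image_le
  refine Nat.le_of_mul_le_mul_right ?_ (Nat.card_pos (α := S.stab i))
  calc (S.stab i).index * Nat.card (S.stab i) = N := by rw [mul_comm, Subgroup.card_mul_index, hN]
    _ = sz * l.length := hprod.symm
    _ ≤ sz * Nat.card (S.stab i) := Nat.mul_le_mul_left _ hcard

/-- **The bound**: the generated group has at most as many elements as the cosets counted allow. -/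
theorem card_le [Finite Γ] (h : c.OK mu N) (hN : Nat.card A = N) (hpts : c.pts.Nodup) :
    Nat.card (Subgroup.closure (Set.range S.φ ∪ {S.σ})) ≤ N * c.total := by
  classical
  haveI := Fintype.ofFinite A
  let n := c.tree.length + 1
  let T := Σ i : Fin n, A × (A ⧸ S.stab i)
  let f : T → Γ := fun t => S.φ t.2.1 * (S.g t.1 * S.φ (t.2.2.out)⁻¹)
  have hY : ∀ (i : Fin n) (α a : A), S.φ α * (S.g i * S.φ a) ∈ Set.range f := by
    intro i α a
    obtain ⟨h0, hh0⟩ := QuotientGroup.mk_out_eq_mul (S.stab i) a⁻¹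
    obtain ⟨β, hβ⟩ := (h0⁻¹).2
    refine ⟨⟨i, α * β⁻¹, QuotientGroup.mk a⁻¹⟩, ?_⟩
    show S.φ (α * β⁻¹) * (S.g i * S.φ (Quotient.out (QuotientGroup.mk a⁻¹ : A ⧸ S.stab i))⁻¹) = _
    rw [hh0, mul_inv_rev, inv_inv, map_mul, map_mul, ← mul_assoc (S.g i)]
    simp only [InvMemClass.coe_inv] at hβ
    rw [hβ, map_inv S.φ β]
    group
  have hclosed : ∀ x ∈ Set.range S.φ ∪ {S.σ}, ∀ y ∈ Set.range f, y * x ∈ Set.range f := by
    rintro x hx _ ⟨⟨i, α, q⟩, rfl⟩
    rcases hx with ⟨a, rfl⟩ | hx
    · show S.φ α * (S.g i * S.φ q.out⁻¹) * S.φ a ∈ _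
      rw [mul_assoc, mul_assoc, ← map_mul]
      exact hY i α _
    · obtain rfl := Set.mem_singleton_iff.1 hx
      obtain ⟨j, b, hj, γ, hγ⟩ := edge_all S h hN hpts i (Nat.lt_succ_iff.1 i.2) q.out⁻¹
      show S.φ α * (S.g i * S.φ q.out⁻¹) * S.σ ∈ _
      rw [mul_assoc, hγ, ← mul_assoc, ← map_mul]
      exact hY ⟨j, Nat.lt_succ_of_le hj⟩ _ _
  have hmem : ∀ x ∈ Subgroup.closure (Set.range S.φ ∪ {S.σ}), x ∈ Set.range f := by
    intro x hx
    rw [← Subgroup.mem_toSubmonoid, Subgroup.closure_toSubmonoid_of_finite] at hx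
    induction hx using Submonoid.closure_induction_right with
    | one =>
      have := hY ⟨0, Nat.succ_pos _⟩ 1 1
      simpa [S.g_zero] using this
    | mul_right x _ y hy ih => exact hclosed y hy x ih
  have h1 : Nat.card (Subgroup.closure (Set.range S.φ ∪ {S.σ})) ≤ Nat.card T := by
    refine le_trans ?_ (Nat.card_le_card_of_surjective (Set.rangeFactorization f) Set.rangeFactorization_surjective)
    exact Nat.card_le_card_of_injective (fun x => (⟨x.1, hmem x.1 x.2⟩ : Set.range f)) fun a b e =>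
      Subtype.ext (congrArg Subtype.val e :)
  refine h1.trans ?_
  rw [Nat.card_sigma, Cert.total]
  simp only [Nat.card_prod, hN, ← Subgroup.index_eq_card]
  rw [← Finset.mul_sum]
  refine Nat.mul_le_mul_left _ ?_
  have hlen : c.hLists.length = n := by
    have := h.size
    simp only [Cert.sizeOK, Bool.and_eq_true, Nat.beq_eq] at this
    exact this.1.1.1.1
  calc ∑ i : Fin n, (S.stab i).index ≤ ∑ i : Fin n, (c.hLists.getD i (0, [])).1 :=
        Finset.sum_le_sum fun i _ => index_le S h hN (Nat.lt_succ_iff.1 i.2)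
    _ = (c.hLists.map Prod.fst).sum := by
        rw [Fin.sum_univ_eq_sum_range fun k => (c.hLists.getD k (0, [])).1, ← hlen,
          Finset.sum_eq_multiset_sum, Finset.range_val, Multiset.range, Multiset.map_coe, Multiset.sum_coe]
        refine congrArg List.sum (List.ext_getElem (by simp) fun k h1 h2 => ?_)
        rw [List.getElem_map, List.getElem_map, List.getElem_range, List.getD_eq_getElem]

end Cfsg.Agent.Spor.DCoset
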