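import Cfsg.Agent.Lib.Spor.MclCent.Bound
import Cfsg.Agent.Lib.Spor.MclCent.CertData
import Cfsg.Agent.Lib.Local.FS.SmallCertEngine

/-!
The certificate for the McLaughlin group checks.
-/

set_option autoImplicit false
set_option maxRecDepth 100000
set_option maxHeartbeats 0

namespace Cfsg.Agent.Spor.MclCent

open DCoset

/-- multiplication of the codes of inverse permutations -/
def mu (p q : ℕ) : ℕ := Local.FS.McLSmall.pmul q p

theorem cert_inv : mclCert.invOK mu = true := by decide +kernel
theorem cert_facts : ((List.range mclCert.facts.length).all fun k => mclCert.factOK mu k) = true := by decide +kernel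
theorem cert_pts : mclCert.ptsOK mu = true := by decide +kernel
theorem cert_d : mclCert.dOK mu = true := by decide +kernel
theorem cert_cg : mclCert.cgOK mu = true := by decide +kernel
theorem cert_cov : mclCert.covAll mu = true := by decide +kernel
theorem cert_size : mclCert.sizeOK mu 40320 = true := by decide +kernel
theorem cert_nodup : (mclCert.pts.dedup.length == mclCert.pts.length) = true := by decide +kernel
theorem cert_total : (mclCert.total == 22275) = true := by decide +kernel

theorem cert_ok : mclCert.OK mu 40320 where
  inv := cert_inv
  facts k hk := List.all_eq_true.1 cert_facts k (List.mem_range.2 hk)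
  pts := cert_pts
  dl := cert_d
  cg := cert_cg
  cov := cert_cov
  size := cert_size

theorem pts_nodup : mclCert.pts.Nodup := by
  have h := List.dedup_sublist mclCert.pts
  exact h.eq_of_length (beq_iff_eq.1 cert_nodup) ▸ List.nodup_dedup _

end Cfsg.Agent.Spor.MclCent
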