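import Cfsg.Agent.Lib.Spor.MclCent.DCent
import Cfsg.Agent.Lib.Char.ZStar

/-!
Unless the group is the product of the centralizer and the odd core, it has one class of involutions, trivial odd
core, and an element interchanging the involutions of the four group.
-/

set_option autoImplicit false
set_option maxRecDepth 100000
set_option linter.style.haveILetI false
set_option linter.unusedSectionVars false

namespace Cfsg.Agent.Spor.MclCent

open DCoset
open Local.FS.McLSmall (K idC)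
open Local.FS.McLSmall.Cent (Cz tC tz)

attribute [local irreducible] mu idC mclCert sLit tLit cdK Nat.beq

theorem uA_ne : uA ≠ tC ∧ uA ≠ 1 ∧ uA * uA = 1 ∧ uA * tC ≠ 1 := by
  obtain ⟨hl, -⟩ := linkV_facts
  exact hl
where
  linkV_facts : (uA ≠ tC ∧ uA ≠ 1 ∧ uA * uA = 1 ∧ uA * tC ≠ 1) ∧ True := by
    have hv := sideV_ok.v
    have hl := linkV_ok
    simp only [linkV, Bool.and_eq_true, Nat.beq_eq] at hl
    have h2 : sideV.vs.getD 2 0 = evC mclCert.u := hl.1.1.2
    simp only [Side.vOK, Bool.and_eq_true, List.all_eq_true, List.mem_range, Nat.beq_eq, Nat.blt_eq, beq_iff_eq] at hv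
    obtain ⟨⟨⟨⟨⟨hlen, hw⟩, h0⟩, h1⟩, hnd⟩, hmt⟩ := hv
    have hn : sideV.vs.Nodup := (List.dedup_sublist _).eq_of_length (by rw [hnd, hlen]) ▸ List.nodup_dedup _
    have hu : cdA uA = sideV.vs.getD 2 0 := by rw [h2, uA, cdA_wA]
    have hne : ∀ i j : ℕ, i < 16 → j < 16 → sideV.vs.getD i 0 = sideV.vs.getD j 0 → i = j := fun i j hi hj e => by
      rw [List.getD_eq_getElem _ _ (hlen.symm ▸ hi), List.getD_eq_getElem _ _ (hlen.symm ▸ hj)] at e
      exact (hn.getElem_inj_iff).1 e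
    have hut : uA ≠ tC := fun e => absurd (hne 2 1 (by norm_num) (by norm_num) (by rw [← hu, h1, e, cdA_tC]))
      (by norm_num)
    have hu1 : uA ≠ 1 := fun e => absurd (hne 2 0 (by norm_num) (by norm_num) (by rw [← hu, h0, e, cdA_one]))
      (by norm_num)
    obtain ⟨⟨hm, he⟩, -⟩ := hmt 2 (by norm_num) 2 (by norm_num)
    have hm0 : sideV.mt 2 2 = 0 := by decide +kernel
    refine ⟨⟨hut, hu1, eqA ?_, fun e => hut ?_⟩, trivial⟩
    · rw [cdA_mul, hu, he, hm0, h0, cdA_one]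
    · calc uA = uA * tC * tC := by rw [mul_assoc, tC_sq, mul_one]
        _ = tC := by rw [e, one_mul]

variable {G : Type*} [Group G] [Finite G] (E : Emb G)

theorem odd_normal_bot (N : Subgroup ↥Cz) [hN : N.Normal] (hodd : Odd (Nat.card ↥N)) : N = ⊥ := by
  classical
  obtain ⟨hc, ⟨e⟩, -⟩ := Local.FS.McLSmall.Cent.centralizer_cover
  let π : ↥Cz →* ↥(alternatingGroup (Fin 8)) := e.toMonoidHom.comp (QuotientGroup.mk' _)
  haveI : (N.map π).Normal := Subgroup.Normal.map hN π (e.surjective.comp (QuotientGroup.mk'_surjective _))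
  haveI : IsSimpleGroup ↥(alternatingGroup (Fin 8)) := alternatingGroup.isSimpleGroup (by simp)
  have hbot : N.map π = ⊥ := (Subgroup.Normal.eq_bot_or_eq_top inferInstance).resolve_right fun h => by
    have h1 : Nat.card ↥(N.map π) ∣ Nat.card ↥N := N.card_map_dvd π
    rw [h, Subgroup.card_top, Local.FS.McLSmall.Cent.card_alt8] at h1
    obtain ⟨k, hk⟩ := h1
    obtain ⟨j, hj⟩ := hodd
    omega
  have hle : N ≤ Subgroup.center ↥Cz := fun n hn => by
    have : π n = 1 := Subgroup.mem_bot.1 (hbot ▸ ⟨n, hn, rfl⟩)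
    exact (QuotientGroup.eq_one_iff n).1 (e.injective (this.trans (map_one e).symm))
  have hd := Subgroup.card_dvd_of_le hle
  rw [hc, Nat.dvd_prime Nat.prime_two] at hd
  rcases hd with h | h
  · exact Subgroup.card_eq_one.1 h
  · rw [h] at hodd; exact absurd hodd (by decide)

/-- if the involution is isolated the group is the product of the centralizer and the odd core -/
theorem isolated_case (hiso : ¬ ∃ g : G, Commute E.t (g * E.t * g⁻¹) ∧ g * E.t * g⁻¹ ≠ E.t) :
    Subgroup.centralizer ({E.t} : Set G) ⊔ Cfsg.oddCore G = ⊤ := by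
  push Not at hiso
  have ht : orderOf E.t = 2 := orderOf_eq_prime (by rw [pow_two, E.t_sq]) E.t_ne
  have hz := Char.zStar_isolated (z := E.t) ⟨ht, hiso⟩
  haveI : (Cfsg.oddCore G).Normal := inferInstanceAs (Cfsg.pPrimeCore 2 G).Normal
  rw [eq_top_iff]
  intro g _
  set o := E.t * g * E.t⁻¹ * g⁻¹ with ho
  have hinv : E.t⁻¹ = E.t := inv_eq_of_mul_eq_one_right E.t_sq
  have hto : E.t * o * E.t⁻¹ = o⁻¹ := by
    simp only [ho, mul_inv_rev, inv_inv, hinv]
    calc E.t * (E.t * g * E.t * g⁻¹) * E.t = E.t * E.t * (g * E.t * g⁻¹ * E.t) := by group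
      _ = g * (E.t * (g⁻¹ * E.t)) := by rw [E.t_sq]; group
  have hoO : o ∈ Cfsg.oddCore G := hz g
  have hodd : Odd (orderOf o) := by
    have h := Char.card_oddCore_odd G
    exact h.of_dvd_nat (Subgroup.orderOf_dvd_natCard (Cfsg.oddCore G) hoO)
  obtain ⟨k, hk⟩ := hodd
  set p := o ^ (k + 1) with hp
  have hp2 : p * p = o := by
    rw [hp, ← pow_add, show k + 1 + (k + 1) = orderOf o + 1 by omega, pow_succ, pow_orderOf_eq_one, one_mul]
  have htp : E.t * p * E.t⁻¹ = p⁻¹ := by rw [hp, ← conj_pow, hto, inv_pow]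
  have hcomm : p * g ∈ Subgroup.centralizer ({E.t} : Set G) := by
    rw [Subgroup.mem_centralizer_singleton_iff]
    have e : E.t * (p * g) * E.t⁻¹ = p * g := by
      calc E.t * (p * g) * E.t⁻¹ = (E.t * p * E.t⁻¹) * (E.t * g * E.t⁻¹ * g⁻¹) * g := by group
        _ = p⁻¹ * (p * p) * g := by rw [htp, hp2, ← ho]
        _ = p * g := by group
    exact (mul_inv_eq_iff_eq_mul.1 e).symm
  have : g = p⁻¹ * (p * g) := by group
  rw [this]
  exact mul_mem (Subgroup.mem_sup_right (inv_mem (pow_mem hoO _))) (Subgroup.mem_sup_left hcomm)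

/-- The hypothesis that the involution is not isolated. -/
structure Fused (E : Emb G) : Prop where
  fused : ∃ g : G, Commute E.t (g * E.t * g⁻¹) ∧ g * E.t * g⁻¹ ≠ E.t

variable (hF : Fused E)
include hF

theorem conj_u : IsConj E.t (E.φ uA) := by
  obtain ⟨g, hc, hne⟩ := hF.fused
  obtain ⟨a, ha⟩ := E.mem_range hc.symm
  have h2 : a * a = 1 := E.inj (by
    rw [map_mul, ha, map_one, show g * E.t * g⁻¹ * (g * E.t * g⁻¹) = g * (E.t * E.t) * g⁻¹ by group, E.t_sq]
    simp)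
  have h1 : a ≠ 1 := fun e => by
    rw [e, map_one] at ha
    exact E.t_ne (conj_eq_one_iff.1 ha.symm)
  rcases invol_A h2 h1 with rfl | h
  · exact absurd (ha.symm.trans E.map_t) hne
  · exact (isConj_iff.2 ⟨g, ha.symm⟩ : IsConj E.t (E.φ a)).trans (E.φ.map_isConj h).symm

theorem conj_all {a : ↥Cz} (h2 : a * a = 1) (h1 : a ≠ 1) : IsConj E.t (E.φ a) := by
  rcases invol_A h2 h1 with rfl | h
  · rw [E.map_t]
  · exact (conj_u E hF).trans (E.φ.map_isConj h)

/-- one class of involutions -/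
theorem one_class {y : G} (h2 : y * y = 1) (h1 : y ≠ 1) : IsConj E.t y := by
  have hy : y⁻¹ = y := inv_eq_of_mul_eq_one_right h2
  have ht : E.t⁻¹ = E.t := inv_eq_of_mul_eq_one_right E.t_sq
  set d := E.t * y with hd
  have htd : E.t * d * E.t⁻¹ = d⁻¹ := by
    rw [hd, mul_inv_rev, hy, ht, ← mul_assoc, E.t_sq, one_mul]
  rcases Nat.even_or_odd (orderOf d) with hev | hodd
  · obtain ⟨k, hk⟩ := hev
    set z := d ^ k with hz
    have hpos := orderOf_pos d
    have hz1 : z ≠ 1 := pow_ne_one_of_lt_orderOf (by omega) (by omega)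
    have hz2 : z * z = 1 := by rw [hz, ← pow_add, ← hk, pow_orderOf_eq_one]
    have hzt : Commute z E.t := by
      have e : E.t * z * E.t⁻¹ = z := by
        rw [hz, ← conj_pow, htd, inv_pow]
        exact inv_eq_of_mul_eq_one_right hz2
      exact (mul_inv_eq_iff_eq_mul.1 e).symm
    have hzy : Commute z y := by
      have hzd : Commute z d := (Commute.refl d).pow_left k
      have e : y = E.t * d := by rw [hd, ← mul_assoc, E.t_sq, one_mul]
      rw [e]; exact hzt.mul_right hzd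
    obtain ⟨a, ha⟩ := E.mem_range hzt
    obtain ⟨h, hh⟩ := isConj_iff.1 (conj_all E hF (a := a) (E.inj (by rw [map_mul, ha, hz2, map_one]))
      fun e => hz1 (by rw [← ha, e, map_one]))
    rw [ha] at hh
    have hc : Commute (h⁻¹ * y * h) E.t := by
      show h⁻¹ * y * h * E.t = E.t * (h⁻¹ * y * h)
      calc h⁻¹ * y * h * E.t = h⁻¹ * (y * (h * E.t * h⁻¹)) * h := by group
        _ = h⁻¹ * (h * E.t * h⁻¹ * y) * h := by rw [hh, hzy.eq]
        _ = _ := by group
    obtain ⟨b, hb⟩ := E.mem_range hc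
    refine (conj_all E hF (a := b) (E.inj ?_) fun e => ?_).trans (isConj_iff.2 ⟨h, by rw [hb]; group⟩)
    · rw [map_mul, hb, map_one, show h⁻¹ * y * h * (h⁻¹ * y * h) = h⁻¹ * (y * y) * h by group, h2]
      simp
    · rw [e, map_one] at hb
      refine h1 ?_
      calc y = h * (h⁻¹ * y * h) * h⁻¹ := by group
        _ = 1 := by rw [← hb]; simp
  · obtain ⟨k, hk⟩ := hodd
    set p := d ^ k with hp
    refine isConj_iff.2 ⟨p, ?_⟩
    have htp : E.t * p * E.t⁻¹ = p⁻¹ := by rw [hp, ← conj_pow, htd, inv_pow]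
    have e1 : E.t * p = p⁻¹ * E.t := mul_inv_eq_iff_eq_mul.1 htp
    have e2 : p * E.t = E.t * p⁻¹ := by
      calc p * E.t = p * (E.t * p) * p⁻¹ := by group
        _ = E.t * p⁻¹ := by rw [e1]; group
    have hp2 : p⁻¹ * p⁻¹ = d := by
      rw [← mul_inv_rev, hp, ← pow_add, inv_eq_iff_mul_eq_one, ← pow_succ, show k + k + 1 = orderOf d by omega,
        pow_orderOf_eq_one]
    rw [e2, mul_assoc, hp2, hd, ← mul_assoc, E.t_sq, one_mul]

theorem fix_core {x : G} (h2 : x * x = 1) (h1 : x ≠ 1) {o : G} (ho : o ∈ Cfsg.oddCore G) (hc : Commute o x) : o = 1 := by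
  haveI : (Cfsg.oddCore G).Normal := inferInstanceAs (Cfsg.pPrimeCore 2 G).Normal
  have hNodd : Odd (Nat.card ↥((Cfsg.oddCore G).comap E.φ)) := by
    refine (Char.card_oddCore_odd G).of_dvd_nat ?_
    rw [← Subgroup.card_map_of_injective (f := E.φ) (K := (Cfsg.oddCore G).comap E.φ) E.inj]
    exact Subgroup.card_dvd_of_le (Subgroup.map_comap_le _ _)
  have hbot : (Cfsg.oddCore G).comap E.φ = ⊥ := odd_normal_bot _ hNodd
  obtain ⟨h, hh⟩ := isConj_iff.1 (one_class E hF h2 h1)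
  have ho' : h⁻¹ * o * h ∈ Cfsg.oddCore G := by
    simpa using Subgroup.Normal.conj_mem inferInstance o ho h⁻¹
  have hc' : Commute (h⁻¹ * o * h) E.t := by
    show h⁻¹ * o * h * E.t = E.t * (h⁻¹ * o * h)
    calc h⁻¹ * o * h * E.t = h⁻¹ * (o * (h * E.t * h⁻¹)) * h := by group
      _ = h⁻¹ * (h * E.t * h⁻¹ * o) * h := by rw [hh, hc.eq]
      _ = _ := by group
  obtain ⟨a, ha⟩ := E.mem_range hc'
  have : a ∈ (Cfsg.oddCore G).comap E.φ := by rw [Subgroup.mem_comap, ha]; exact ho'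
  rw [hbot, Subgroup.mem_bot] at this
  rw [this, map_one] at ha
  calc o = h * (h⁻¹ * o * h) * h⁻¹ := by group
    _ = 1 := by rw [← ha]; simp

theorem core_bot : Cfsg.oddCore G = ⊥ := by
  haveI : (Cfsg.oddCore G).Normal := inferInstanceAs (Cfsg.pPrimeCore 2 G).Normal
  obtain ⟨hut, hu1, hu2, hutne⟩ := uA_ne
  have inverts : ∀ x : G, x * x = 1 → x ≠ 1 → ∀ o ∈ Cfsg.oddCore G, x * o * x = o⁻¹ := by
    intro x h2 h1 o ho
    let f : ↥(Cfsg.oddCore G) → ↥(Cfsg.oddCore G) := fun p => ⟨(p : G)⁻¹ * (x * p * x), mul_mem (inv_mem p.2) (by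
      have := Subgroup.Normal.conj_mem inferInstance (p : G) p.2 x
      rwa [inv_eq_of_mul_eq_one_right h2] at this)⟩
    have hf : Function.Injective f := fun p q e => by
      have e' : (p : G)⁻¹ * (x * p * x) = (q : G)⁻¹ * (x * q * x) := congrArg Subtype.val e
      refine Subtype.ext (mul_inv_eq_one.1 (fix_core E hF h2 h1 (mul_mem q.2 (inv_mem p.2)) ?_)).symm
      have e2 : (q : G) * (p : G)⁻¹ * (x * p * x) = x * q * x := by rw [mul_assoc, e', mul_inv_cancel_left]
      show (q : G) * (p : G)⁻¹ * x = x * ((q : G) * (p : G)⁻¹)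
      calc (q : G) * (p : G)⁻¹ * x = (q : G) * (p : G)⁻¹ * (x * p * x) * (x * (p : G)⁻¹) := by
            rw [show (q : G) * (p : G)⁻¹ * (x * p * x) * (x * (p : G)⁻¹) =
              (q : G) * (p : G)⁻¹ * x * p * (x * x) * (p : G)⁻¹ by group, h2]
            group
        _ = x * q * (x * x) * (p : G)⁻¹ := by rw [e2]; group
        _ = _ := by rw [h2]; group
    obtain ⟨p, hp⟩ := Finite.surjective_of_injective hf ⟨o, ho⟩
    have hpo : (p : G)⁻¹ * (x * p * x) = o := congrArg Subtype.val hp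
    rw [← hpo]
    calc x * ((p : G)⁻¹ * (x * p * x)) * x = x * (p : G)⁻¹ * x * p * (x * x) := by group
      _ = _ := by rw [h2, mul_one, mul_inv_rev, inv_inv, mul_inv_rev, mul_inv_rev, inv_eq_of_mul_eq_one_right h2]; group
  rw [eq_bot_iff]
  intro o ho
  have i1 := inverts E.t E.t_sq E.t_ne o ho
  have i2 := inverts (E.φ uA) (by rw [← map_mul, hu2, map_one]) (fun e => hu1 (E.inj (e.trans (map_one _).symm))) o ho
  have h12 : (uA * tC) * (uA * tC) = 1 := by
    rw [mul_assoc uA, ← mul_assoc tC uA, ← tC_central uA, mul_assoc uA tC tC, tC_sq, mul_one, hu2]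
  have i3 := inverts (E.φ (uA * tC)) (by rw [← map_mul, h12, map_one])
    (fun e => hutne (E.inj (e.trans (map_one _).symm))) o ho
  rw [map_mul, E.map_t] at i3
  have e : E.φ uA * E.t * o * (E.φ uA * E.t) = o := by
    calc E.φ uA * E.t * o * (E.φ uA * E.t) = E.φ uA * E.t * o * (E.t * E.φ uA) := by rw [(E.comm_t uA).eq]
      _ = E.φ uA * (E.t * o * E.t) * E.φ uA := by group
      _ = (E.φ uA * o * E.φ uA)⁻¹ := by
        rw [i1, mul_inv_rev, mul_inv_rev]
        have hu : (E.φ uA)⁻¹ = E.φ uA := inv_eq_of_mul_eq_one_right (by rw [← map_mul, hu2, map_one])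
        rw [hu]; group
      _ = o := by rw [i2, inv_inv]
  rw [e] at i3
  have hoo : o ^ 2 = 1 := by rw [pow_two]; nth_rewrite 1 [i3]; rw [inv_mul_cancel]
  have hodd : Odd (orderOf o) := (Char.card_oddCore_odd G).of_dvd_nat (Subgroup.orderOf_dvd_natCard _ ho)
  have hd : orderOf o ∣ 2 := orderOf_dvd_of_pow_eq_one hoo
  refine Subgroup.mem_bot.2 (orderOf_eq_one_iff.1 ?_)
  rcases (Nat.dvd_prime Nat.prime_two).1 hd with h | h
  · exact h
  · rw [h] at hodd; exact absurd hodd (by decide)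

/-- an element interchanging the two involutions -/
theorem exists_swap : ∃ g : G, g * E.t * g⁻¹ = E.φ uA ∧ g * E.φ uA * g⁻¹ = E.t := by
  obtain ⟨-, hu1, hu2, -⟩ := uA_ne
  obtain ⟨g0, hg0⟩ := isConj_iff.1 (conj_u E hF)
  have hc : Commute (g0⁻¹ * E.t * g0) E.t := by
    show g0⁻¹ * E.t * g0 * E.t = E.t * (g0⁻¹ * E.t * g0)
    calc g0⁻¹ * E.t * g0 * E.t = g0⁻¹ * (E.t * (g0 * E.t * g0⁻¹)) * g0 := by group
      _ = g0⁻¹ * (g0 * E.t * g0⁻¹ * E.t) * g0 := by rw [hg0, (E.comm_t uA).eq]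
      _ = _ := by group
  obtain ⟨a, ha⟩ := E.mem_range hc
  have h2 : a * a = 1 := E.inj (by
    rw [map_mul, ha, map_one, show g0⁻¹ * E.t * g0 * (g0⁻¹ * E.t * g0) = g0⁻¹ * (E.t * E.t) * g0 by group, E.t_sq]
    simp)
  have h1 : a ≠ 1 := fun e => by
    rw [e, map_one] at ha
    refine E.t_ne ?_
    calc E.t = g0 * (g0⁻¹ * E.t * g0) * g0⁻¹ := by group
      _ = 1 := by rw [← ha]; simp
  rcases invol_A h2 h1 with rfl | h
  · rw [E.map_t] at ha
    exfalso
    refine uA_ne.1 (E.inj ?_)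
    rw [E.map_t, ← hg0]
    calc g0 * E.t * g0⁻¹ = g0 * (g0⁻¹ * E.t * g0) * g0⁻¹ := by rw [← ha]
      _ = E.t := by group
  · obtain ⟨b, hb⟩ := isConj_iff.1 h
    refine ⟨g0 * E.φ b, ?_, ?_⟩
    · calc g0 * E.φ b * E.t * (g0 * E.φ b)⁻¹ = g0 * (E.φ b * E.t * (E.φ b)⁻¹) * g0⁻¹ := by group
        _ = g0 * E.t * g0⁻¹ := by rw [(E.comm_t b).eq, mul_inv_cancel_right]
        _ = _ := hg0
    · calc g0 * E.φ b * E.φ uA * (g0 * E.φ b)⁻¹ = g0 * (E.φ (b * uA * b⁻¹)) * g0⁻¹ := by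
            rw [map_mul, map_mul, map_inv]; group
        _ = g0 * (g0⁻¹ * E.t * g0) * g0⁻¹ := by rw [hb, ha]
        _ = _ := by group

end Cfsg.Agent.Spor.MclCent
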