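import Cfsg.Agent.Lib.Spor.DoubleAlt.Cover

/-!
A non-split double cover of `A_n`, `8 ≤ n`, is unique up to isomorphism.
-/

set_option autoImplicit false
set_option linter.style.haveILetI false

open Equiv Equiv.Perm
open scoped commutatorElement

namespace Cfsg.Agent.Spor.DoubleAlt

open Cfsg.Agent.Char

universe u

variable {n : ℕ} {H : Type u} [Group H] [Finite H]

/-- A non-split double cover of `A_n` is the Clifford group. -/
theorem cover_iso_model (hn : 8 ≤ n) (hH : IsNonsplitDoubleCover H (alternatingGroup (Fin n))) :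
    Nonempty (H ≃* spGamma n) := by
  classical
  obtain ⟨hc, ⟨e⟩, hns⟩ := hH
  let π : H →* Perm (Fin n) :=
    ((alternatingGroup (Fin n)).subtype.comp e.toMonoidHom).comp (QuotientGroup.mk' (Subgroup.center H))
  have hker : π.ker = Subgroup.center H := by
    ext g
    rw [MonoidHom.mem_ker]
    show (alternatingGroup (Fin n)).subtype (e (QuotientGroup.mk' (Subgroup.center H) g)) = 1 ↔ _
    rw [← map_one (alternatingGroup (Fin n)).subtype, (Subgroup.subtype_injective _).eq_iff,
      MulEquiv.map_eq_one_iff, ← MonoidHom.mem_ker, QuotientGroup.ker_mk']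
  have hr : π.range = alternatingGroup (Fin n) := by
    show MonoidHom.range (((alternatingGroup (Fin n)).subtype.comp e.toMonoidHom).comp
      (QuotientGroup.mk' _)) = _
    rw [MonoidHom.range_comp, MonoidHom.range_eq_top.2 (QuotientGroup.mk'_surjective _),
      ← MonoidHom.range_eq_map, MonoidHom.range_comp, MonoidHom.range_eq_top.2 e.surjective,
      ← MonoidHom.range_eq_map, Subgroup.range_subtype]
  have hn5 : 5 ≤ n := by omega
  -- the cover is perfect
  have hmapC := exists_commutator_lift hn5 π hr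
  have hsupC : commutator H ⊔ Subgroup.center H = ⊤ := by
    rw [eq_top_iff]
    intro x _
    obtain ⟨k, hk, hkx⟩ : π x ∈ (commutator H).map π := by rw [hmapC, ← hr]; exact ⟨x, rfl⟩
    have : k⁻¹ * x ∈ Subgroup.center H := by
      rw [← hker, MonoidHom.mem_ker, map_mul, map_inv, hkx, inv_mul_cancel]
    have h := mul_mem (Subgroup.mem_sup_left hk : k ∈ commutator H ⊔ Subgroup.center H)
      (Subgroup.mem_sup_right this)
    rwa [mul_inv_cancel_left] at h
  have hperf : commutator H = ⊤ := by
    rw [← hsupC, left_eq_sup]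
    by_contra hle
    refine hns (commutator H) (Subgroup.isComplement'_of_disjoint_and_mul_eq_univ ?_ ?_)
    · rw [Subgroup.disjoint_def]
      intro x hxc hx
      by_contra hx1
      refine hle fun y hy => ?_
      obtain ⟨p, q, -, hpq⟩ := Nat.card_eq_two_iff.1 hc
      have hmem : ∀ v : Subgroup.center H, v = p ∨ v = q := fun v => by
        have hv : v ∈ ({p, q} : Set _) := hpq ▸ Set.mem_univ v
        simpa using hv
      rcases eq_or_ne y 1 with rfl | hy1
      · exact one_mem _
      suffices y = x from this ▸ hx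
      have e1 : (⟨x, hxc⟩ : Subgroup.center H) ≠ 1 := fun h => hx1 (congrArg Subtype.val h)
      have e2 : (⟨y, hy⟩ : Subgroup.center H) ≠ 1 := fun h => hy1 (congrArg Subtype.val h)
      suffices (⟨y, hy⟩ : Subgroup.center H) = ⟨x, hxc⟩ from congrArg Subtype.val this
      rcases hmem ⟨x, hxc⟩ with h | h <;> rcases hmem ⟨y, hy⟩ with h' | h' <;>
        rcases hmem 1 with h'' | h'' <;> simp_all
    · rw [← Subgroup.mul_normal, sup_comm, hsupC, Subgroup.coe_top]
  -- the model
  obtain ⟨hfin, zΓ, hzval, hzc, hzo, hzd, hN, ⟨eΓ⟩⟩ := spGamma_cover n (by omega)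
  haveI := hfin
  let ρ := spPerm n
  have hρker : ∀ y : spGamma n, ρ y = 1 → y ∈ Subgroup.center (spGamma n) := fun y hy => by
    rcases spPerm_ker hy with h | h
    · rw [show y = 1 from Subtype.ext h]; exact one_mem _
    · rw [show y = zΓ from Subtype.ext (h.trans hzval.symm)]; exact hzc
  have hperfΓ : commutator (spGamma n) = ⊤ := by
    rw [eq_top_iff]
    intro y _
    obtain ⟨k, hk, hky⟩ : ρ y ∈ (commutator (spGamma n)).map ρ := by
      rw [exists_commutator_lift hn5 ρ spPerm_range, ← spPerm_range]; exact ⟨y, rfl⟩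
    have h1 : ρ (k⁻¹ * y) = 1 := by rw [map_mul, map_inv, hky, inv_mul_cancel]
    have h2 : k⁻¹ * y ∈ commutator (spGamma n) := by
      rcases spPerm_ker h1 with h | h
      · rw [show k⁻¹ * y = 1 from Subtype.ext h]; exact one_mem _
      · rw [show k⁻¹ * y = zΓ from Subtype.ext (h.trans hzval.symm)]; exact hzd
    have := mul_mem hk h2
    rwa [mul_inv_cancel_left] at this
  -- the fibre product
  let P : Subgroup (H × spGamma n) :=
    (π.comp (MonoidHom.fst H (spGamma n))).eqLocus (ρ.comp (MonoidHom.snd H (spGamma n)))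
  let πP : P →* Perm (Fin n) := (π.comp (MonoidHom.fst H (spGamma n))).comp P.subtype
  let f1 : P →* H := (MonoidHom.fst H (spGamma n)).comp P.subtype
  let f2 : P →* spGamma n := (MonoidHom.snd H (spGamma n)).comp P.subtype
  have hP : ∀ w : P, π (f1 w) = ρ (f2 w) := fun w => w.2
  have hf1 : Function.Surjective f1 := fun a => by
    obtain ⟨b, hb⟩ : π a ∈ ρ.range := by rw [spPerm_range, ← hr]; exact ⟨a, rfl⟩
    exact ⟨⟨(a, b), hb.symm⟩, rfl⟩
  have hf2 : Function.Surjective f2 := fun b => by
    obtain ⟨a, ha⟩ : ρ b ∈ π.range := by rw [hr, ← spPerm_range]; exact ⟨b, rfl⟩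
    exact ⟨⟨(a, b), ha⟩, rfl⟩
  have hPc : ∀ w : P, πP w = 1 → w ∈ Subgroup.center P := fun w hw => by
    refine Subgroup.mem_center_iff.2 fun v => Subtype.ext (Prod.ext ?_ ?_)
    · exact Subgroup.mem_center_iff.1 (hker ▸ MonoidHom.mem_ker.2 hw) (f1 v)
    · exact Subgroup.mem_center_iff.1 (hρker (f2 w) ((hP w).symm.trans hw)) (f2 v)
  set K : Subgroup P := commutator P with hK
  have hPr : πP.range = alternatingGroup (Fin n) := by
    show MonoidHom.range (π.comp f1) = _
    rw [MonoidHom.range_comp, MonoidHom.range_eq_top.2 hf1, ← MonoidHom.range_eq_map, hr]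
  have hKmap : K.map πP = alternatingGroup (Fin n) := exists_commutator_lift hn5 πP hPr
  have hcov : ∀ w : P, ∃ k ∈ K, k⁻¹ * w ∈ Subgroup.center P := fun w => by
    obtain ⟨k, hk, hkw⟩ : πP w ∈ K.map πP := by rw [hKmap, ← hPr]; exact ⟨w, rfl⟩
    exact ⟨k, hk, hPc _ (by rw [map_mul, map_inv, hkw, inv_mul_cancel])⟩
  have hKK : ⁅K, K⁆ = K := le_antisymm
    (Subgroup.commutator_mono le_top le_top |>.trans_eq (commutator_def P).symm)
    (commutator_le_of_cover K hcov)
  have hKtop : commutator K = ⊤ := by
    refine Subgroup.map_injective K.subtype_injective ?_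
    rw [commutator_def, Subgroup.map_commutator, ← MonoidHom.range_eq_map, Subgroup.range_subtype, hKK]
  let πK : K →* Perm (Fin n) := πP.comp K.subtype
  have hKr : πK.range = alternatingGroup (Fin n) := by
    show (πP.comp K.subtype).range = _
    rw [MonoidHom.range_comp, Subgroup.range_subtype, hKmap]
  have hstem := stem_alt_kernel_le_two πK hn5 (Or.inr hn) hKr (fun w hw => by
    refine Subgroup.mem_center_iff.2 fun v => Subtype.ext ?_
    exact Subgroup.mem_center_iff.1 (hPc (w : P) hw) (v : P)) (hKtop ▸ le_top)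
  have hKcard : Nat.card K ≤ Nat.card H := by
    have h1 := πK.ker.card_mul_index
    rw [Subgroup.index_ker, hKr] at h1
    have h2 := π.ker.card_mul_index
    rw [Subgroup.index_ker, hr, hker, hc] at h2
    rw [← h1, ← h2]
    exact Nat.mul_le_mul_right _ hstem
  let g1 : K →* H := f1.comp K.subtype
  let g2 : K →* spGamma n := f2.comp K.subtype
  have hg1 : Function.Surjective g1 := by
    rw [← MonoidHom.range_eq_top, MonoidHom.range_comp, Subgroup.range_subtype, hK, commutator_def,
      Subgroup.map_commutator, ← MonoidHom.range_eq_map, MonoidHom.range_eq_top.2 hf1, ← commutator_def,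
      hperf]
  have hg2 : Function.Surjective g2 := by
    rw [← MonoidHom.range_eq_top, MonoidHom.range_comp, Subgroup.range_subtype, hK, commutator_def,
      Subgroup.map_commutator, ← MonoidHom.range_eq_map, MonoidHom.range_eq_top.2 hf2, ← commutator_def,
      hperfΓ]
  have hbij : Function.Bijective g1 := by
    letI := Fintype.ofFinite K
    letI := Fintype.ofFinite H
    rw [Fintype.bijective_iff_surjective_and_card]
    refine ⟨hg1, ?_⟩
    rw [← Nat.card_eq_fintype_card, ← Nat.card_eq_fintype_card]
    exact le_antisymm hKcard (Nat.card_le_card_of_surjective g1 hg1)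
  have hcardΓ : Nat.card (spGamma n) = Nat.card H := by
    rw [Subgroup.card_eq_card_quotient_mul_card_subgroup (Subgroup.zpowers zΓ), Nat.card_zpowers, hzo,
      Nat.card_congr eΓ.toEquiv, Subgroup.card_eq_card_quotient_mul_card_subgroup (Subgroup.center H), hc,
      Nat.card_congr e.toEquiv]
  let eg1 := MulEquiv.ofBijective g1 hbij
  refine ⟨eg1.symm.trans (MulEquiv.ofBijective g2 ?_)⟩
  haveI : Finite (spGamma n) := hfin
  letI := Fintype.ofFinite K
  letI := Fintype.ofFinite (spGamma n)
  rw [Fintype.bijective_iff_surjective_and_card]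
  refine ⟨hg2, ?_⟩
  rw [← Nat.card_eq_fintype_card, ← Nat.card_eq_fintype_card, hcardΓ, Nat.card_congr eg1.toEquiv]

end Cfsg.Agent.Spor.DoubleAlt
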