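import Cfsg.Agent.Lib.Spor.MclCent.Fusion

/-!
The centralizer of the four group inside the centralizer of the involution.
-/

set_option autoImplicit false
set_option maxRecDepth 100000
set_option linter.style.haveILetI false
set_option linter.unusedSectionVars false

namespace Cfsg.Agent.Spor.MclCent

open DCoset
open Local.FS.McLSmall (K idC)
open Local.FS.McLSmall.Cent (Cz tC tz)

attribute [local irreducible] mu idC mclCert sLit tLit cdK Nat.beq

/-- the twisted generators of the centralizer of the four group -/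
noncomputable def dGens : Set ↥Cz := {x | ∃ w ∈ mclCert.cg, wA w.1 = x}

theorem dGens_comm {x : ↥Cz} (hx : x ∈ dGens) : Commute x uA := by
  obtain ⟨w, hw, rfl⟩ := hx
  have h := cert_ok.cg
  simp only [Cert.cgOK, List.all_eq_true, Nat.beq_eq] at h
  refine eqA ?_
  rw [cdA_mul, cdA_mul, cdA_wA, uA, cdA_wA]
  exact h w hw

theorem dList_spec : ∀ k < mclCert.dList.length,
    ∃ z ∈ Subgroup.closure dGens, cdA z = (mclCert.dList.getD k (0, 0, 0)).2.2 := by
  have hd := cert_ok.dl
  simp only [Cert.dOK, List.all_eq_true, List.mem_range] at hd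
  intro k
  induction k using Nat.strong_induction_on with
  | _ k ih =>
    intro hk
    have e := hd k hk
    rcases Nat.eq_zero_or_pos k with rfl | hk0
    · simp only [Nat.beq_refl, cond_true, Nat.beq_eq] at e
      exact ⟨1, one_mem _, by rw [cdA_one]; exact e.symm⟩
    · rw [show Nat.beq k 0 = false from Bool.eq_false_iff.2 fun e => hk0.ne' (Nat.eq_of_beq_eq_true e)] at e
      simp only [cond_false, Bool.and_eq_true, Nat.blt_eq, Nat.beq_eq] at e
      obtain ⟨⟨h1, h2⟩, h3⟩ := e
      obtain ⟨z, hz, hzc⟩ := ih _ h1 (h1.trans hk)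
      refine ⟨z * wA (mclCert.cg.getD (mclCert.dList.getD k (0, 0, 0)).2.1 ([], [])).1,
        mul_mem hz (Subgroup.subset_closure ⟨_, ?_, rfl⟩), ?_⟩
      · rw [List.getD_eq_getElem _ _ h2]; exact List.getElem_mem h2
      · rw [cdA_mul, hzc, cdA_wA, evC, h3]

theorem closure_dGens : Subgroup.closure dGens = Subgroup.centralizer ({uA} : Set ↥Cz) := by
  classical
  haveI := Fintype.ofFinite ↥Cz
  have hle : Subgroup.closure dGens ≤ Subgroup.centralizer ({uA} : Set ↥Cz) :=
    (Subgroup.closure_le _).2 fun x hx => Subgroup.mem_centralizer_singleton_iff.2 (dGens_comm hx).eq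
  refine Subgroup.eq_of_le_of_card_ge hle ?_
  have hs := cert_size
  simp only [Cert.sizeOK, Bool.and_eq_true, beq_iff_eq, Nat.beq_eq] at hs
  obtain ⟨⟨-, hnd⟩, hprod⟩ := hs
  choose z hz hzv using dList_spec
  have hT : mclCert.dList.length ≤ Nat.card ↥(Subgroup.closure dGens) := by
    have hsub : (Cert.vals mclCert.dList).toFinset ⊆
        (Finset.univ : Finset ↥(Subgroup.closure dGens)).image fun x : ↥(Subgroup.closure dGens) => cdA (x : ↥Cz) := by
      intro v hv
      obtain ⟨e, he, rfl⟩ := List.mem_map.1 (List.mem_toFinset.1 hv)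
      obtain ⟨k, hk, rfl⟩ := List.mem_iff_getElem.1 he
      exact Finset.mem_image.2 ⟨⟨z k hk, hz k hk⟩, Finset.mem_univ _, by
        rw [hzv k hk, List.getD_eq_getElem _ _ hk]⟩
    rw [← hnd, ← List.card_toFinset, Nat.card_eq_fintype_card]
    exact (Finset.card_le_card hsub).trans Finset.card_image_le
  refine le_trans ?_ hT
  obtain ⟨hp, hrep, -, -⟩ := pts_spec (R := RA) cert_ok.pts
  have hinj : Function.Injective fun kc : Fin mclCert.pts.length × ↥(Subgroup.centralizer ({uA} : Set ↥Cz)) =>
      RA.wel (mclCert.reps.getD kc.1 []) * (kc.2 : ↥Cz) := by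
    rintro ⟨k, a⟩ ⟨l, b⟩ e
    simp only at e
    have ha : (a : ↥Cz) * uA = uA * a := Subgroup.mem_centralizer_singleton_iff.1 a.2
    have hb : (b : ↥Cz) * uA = uA * b := Subgroup.mem_centralizer_singleton_iff.1 b.2
    have h1 : RA.wel (mclCert.pw.getD k []) * (RA.wel (mclCert.reps.getD k []) * (a : ↥Cz)) =
        RA.wel (mclCert.reps.getD k []) * (a : ↥Cz) * uA := by
      rw [← mul_assoc, hrep k k.2, mul_assoc, mul_assoc, show RA.wel mclCert.u = uA from rfl, ha]
    have h2 : RA.wel (mclCert.pw.getD l []) * (RA.wel (mclCert.reps.getD l []) * (b : ↥Cz)) =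
        RA.wel (mclCert.reps.getD l []) * (b : ↥Cz) * uA := by
      rw [← mul_assoc, hrep l l.2, mul_assoc, mul_assoc, show RA.wel mclCert.u = uA from rfl, hb]
    rw [← e, ← h1] at h2
    have h3 := hp l l.2
    rw [mul_right_cancel h2, ← hp k k.2, List.getD_eq_getElem _ _ l.2, List.getD_eq_getElem _ _ k.2] at h3
    obtain rfl : k = l := Fin.ext ((pts_nodup.getElem_inj_iff).1 h3.symm)
    exact Prod.ext rfl (Subtype.ext (mul_left_cancel e))
  have h := Nat.card_le_card_of_injective _ hinj
  rw [Nat.card_prod, Nat.card_fin, card_Cz, ← hprod] at h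
  refine Nat.le_of_mul_le_mul_left h ?_
  rcases Nat.eq_zero_or_pos mclCert.pts.length with h0 | h0
  · rw [h0, zero_mul] at hprod; omega
  · exact h0

theorem mem_dList {c : ↥Cz} (hc : Commute c uA) : ∃ e ∈ mclCert.dList, e.2.2 = cdA c := by
  classical
  haveI := Fintype.ofFinite ↥Cz
  have hd := cert_ok.dl
  simp only [Cert.dOK, List.all_eq_true, List.mem_range] at hd
  have hs := cert_size
  simp only [Cert.sizeOK, Bool.and_eq_true, beq_iff_eq, Nat.beq_eq] at hs
  obtain ⟨⟨-, hnd⟩, hprod⟩ := hs
  have hmem : c ∈ Subgroup.centralizer ({uA} : Set ↥Cz) := Subgroup.mem_centralizer_singleton_iff.2 hc.eq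
  obtain ⟨hp, hrep, -, -⟩ := pts_spec (R := RA) cert_ok.pts
  choose z hz hzv using dList_spec
  let F : Finset ↥Cz := (Finset.univ : Finset (Fin mclCert.dList.length)).image fun k : Fin mclCert.dList.length => z k.1 k.2
  have hsub : F ⊆ (Finset.univ : Finset ↥Cz).filter (fun x => Commute x uA) := by
    intro x hx
    obtain ⟨k, -, rfl⟩ := Finset.mem_image.1 hx
    refine Finset.mem_filter.2 ⟨Finset.mem_univ _, ?_⟩
    have h := hz k k.2
    rw [closure_dGens] at h
    exact Subgroup.mem_centralizer_singleton_iff.1 h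
  have hn : (Cert.vals mclCert.dList).Nodup :=
    (List.dedup_sublist _).eq_of_length (by rw [hnd]; simp [Cert.vals]) ▸ List.nodup_dedup _
  have hFc : F.card = mclCert.dList.length := by
    rw [Finset.card_image_of_injective _ fun k l e => ?_, Finset.card_univ, Fintype.card_fin]
    have h4 := congrArg cdA e
    rw [hzv, hzv, List.getD_eq_getElem _ _ k.2, List.getD_eq_getElem _ _ l.2] at h4
    exact Fin.ext ((hn.getElem_inj_iff (hi := by simp [Cert.vals]) (hj := by simp [Cert.vals])).1
      (by simpa [Cert.vals] using h4))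
  have hCc : ((Finset.univ : Finset ↥Cz).filter fun x => Commute x uA).card ≤ mclCert.dList.length := by
    let Fc := (Finset.univ : Finset ↥Cz).filter fun x => Commute x uA
    have hinj : Set.InjOn (fun kc : Fin mclCert.pts.length × ↥Cz => RA.wel (mclCert.reps.getD kc.1 []) * kc.2)
        ↑((Finset.univ : Finset (Fin mclCert.pts.length)) ×ˢ Fc) := by
      rintro ⟨k, a⟩ ha ⟨l, b⟩ hb e
      have ha' : Commute a uA := (Finset.mem_filter.1 (Finset.mem_product.1 (Finset.mem_coe.1 ha)).2).2
      have hb' : Commute b uA := (Finset.mem_filter.1 (Finset.mem_product.1 (Finset.mem_coe.1 hb)).2).2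
      simp only at e
      have h1 : RA.wel (mclCert.pw.getD k []) * (RA.wel (mclCert.reps.getD k []) * a) =
          RA.wel (mclCert.reps.getD k []) * a * uA := by
        rw [← mul_assoc, hrep k k.2, mul_assoc, mul_assoc, show RA.wel mclCert.u = uA from rfl, ha'.eq]
      have h2 : RA.wel (mclCert.pw.getD l []) * (RA.wel (mclCert.reps.getD l []) * b) =
          RA.wel (mclCert.reps.getD l []) * b * uA := by
        rw [← mul_assoc, hrep l l.2, mul_assoc, mul_assoc, show RA.wel mclCert.u = uA from rfl, hb'.eq]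
      rw [← e, ← h1] at h2
      have h3 := hp l l.2
      rw [mul_right_cancel h2, ← hp k k.2, List.getD_eq_getElem _ _ l.2, List.getD_eq_getElem _ _ k.2] at h3
      obtain rfl : k = l := Fin.ext ((pts_nodup.getElem_inj_iff).1 h3.symm)
      exact Prod.ext rfl (mul_left_cancel e)
    have h := Finset.card_le_card_of_injOn _ (fun x _ => Finset.mem_univ _) hinj
    rw [Finset.card_product, Finset.card_univ, Finset.card_univ, Fintype.card_fin, ← Nat.card_eq_fintype_card,
      card_Cz, ← hprod] at h
    refine Nat.le_of_mul_le_mul_left h ?_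
    rcases Nat.eq_zero_or_pos mclCert.pts.length with h0 | h0
    · rw [h0, zero_mul] at hprod; omega
    · exact h0
  have heq := Finset.eq_of_subset_of_card_le hsub (by rw [hFc]; exact hCc)
  have hcF : c ∈ F := by
    rw [heq]; exact Finset.mem_filter.2 ⟨Finset.mem_univ _, hc⟩
  obtain ⟨k, -, rfl⟩ := Finset.mem_image.1 hcF
  exact ⟨_, List.getElem_mem k.2, by rw [hzv, List.getD_eq_getElem _ _ k.2]⟩

end Cfsg.Agent.Spor.MclCent
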