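import Mathlib

/-!
Certificates for enumerations of double cosets: a group is generated by the image of a finite group `A` and an
involution `σ`; relations of the form `φ z₁ σ φ z₂ σ ⋯ = 1` are used to fill a table of `A`-double cosets, which
bounds the order of the group generated.
-/

set_option autoImplicit false

namespace Cfsg.Agent.Spor.DCoset

/-- operations on a recorded edge -/
inductive Op where
  | S : Op
  | T (k : ℕ) : Op
  | L (f : ℕ) : Op

/-- a recorded fact -/
inductive Fact where
  | E (i a j b : ℕ) : Fact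
  | H (i a : ℕ) : Fact

/-- a reference to an edge -/
abbrev Look := ℕ × List Op

/-- the reason for a fact -/
inductive Why where
  | base (w : List ℕ) : Why
  | tree (q : ℕ) : Why
  | cycE (r i : ℕ) (a0 : List ℕ) (looks backs : List Look) : Why
  | cycH (r i : ℕ) (a0 : List ℕ) (looks : List Look) (h : List ℕ) : Why
  | con (l1 l2 : Look) (h : List ℕ) : Why

/-- the reason for a point to be covered -/
inductive Src where
  | edge (l : Look) : Src
  | par (p f : ℕ) : Src

/-- The data of a certificate. -/
structure Cert where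
  one : ℕ
  gens : List ℕ
  cg : List (List ℕ × List ℕ)
  tree : List (ℕ × List ℕ)
  rels : List (List (List ℕ × List ℕ))
  facts : List (Why × Fact)
  u : List ℕ
  reps : List (List ℕ)
  pts : List ℕ
  pw : List (List ℕ)
  moves : List (List ℕ)
  dList : List (ℕ × ℕ × ℕ)
  hLists : List (ℕ × List (ℕ × ℕ × ℕ))
  cov : List (List (ℕ × Src))

namespace Cert

variable (mu : ℕ → ℕ → ℕ) (c : Cert)

/-- value of a word -/
def ev (w : List ℕ) : ℕ := w.foldl (fun r k => mu r (c.gens.getD k c.one)) c.one

/-- a fact -/
def fact (k : ℕ) : Fact := (c.facts.getD k (Why.base [], Fact.H 0 0)).2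

/-- apply an operation -/
def opA (lim : ℕ) : Option (ℕ × ℕ × ℕ × ℕ) → Op → Option (ℕ × ℕ × ℕ × ℕ)
  | none, _ => none
  | some (i, a, j, b), Op.S => some (j, b, i, a)
  | some (i, a, j, b), Op.T k =>
    some (i, mu a (c.ev mu (c.cg.getD k ([], [])).1), j, mu b (c.ev mu (c.cg.getD k ([], [])).2))
  | some (i, a, j, b), Op.L f =>
    match Nat.blt f lim, c.fact f with
    | true, Fact.H i' h => bif Nat.beq i' i then some (i, mu h a, j, b) else none
    | _, _ => none

/-- the edge referred to -/
def look (lim : ℕ) (l : Look) : Option (ℕ × ℕ × ℕ × ℕ) :=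
  match Nat.blt l.1 lim, c.fact l.1 with
  | true, Fact.E i a j b => l.2.foldl (c.opA mu lim) (some (i, a, j, b))
  | _, _ => none

/-- read a word forwards -/
def fwd (lim : ℕ) : List Look → List (List ℕ × List ℕ) → ℕ × ℕ → Option ((ℕ × ℕ) × List (List ℕ × List ℕ))
  | [], zs, f => some (f, zs)
  | _ :: _, [], _ => none
  | l :: ls, z :: zs, f =>
    match c.look mu lim l with
    | some (i, a, j, b) => bif Nat.beq i f.1 && Nat.beq a (mu f.2 (c.ev mu z.1)) then fwd lim ls zs (j, b) else none
    | none => none

/-- read a reversed word backwards -/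
def bwd (lim : ℕ) : List Look → List (List ℕ × List ℕ) → ℕ × ℕ → Option (ℕ × ℕ)
  | [], [], f => some f
  | l :: ls, z :: zs, f =>
    match c.look mu lim l with
    | some (i, a, j, b) => bif Nat.beq i f.1 && Nat.beq a f.2 then bwd lim ls zs (j, mu b (c.ev mu z.2)) else none
    | none => none
  | _, _, _ => none

/-- the check of a single fact -/
def factOK (k : ℕ) : Bool :=
  match c.facts.getD k (Why.base [], Fact.H 0 0) with
  | (Why.base w, Fact.H i a) => Nat.beq i 0 && Nat.beq a (c.ev mu w)
  | (Why.tree q, Fact.E i a j b) =>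
    Nat.blt q c.tree.length && Nat.ble (c.tree.getD q (0, [])).1 q && Nat.beq i (c.tree.getD q (0, [])).1 &&
      Nat.beq a (c.ev mu (c.tree.getD q (0, [])).2) && Nat.beq j (q + 1) && Nat.beq b c.one
  | (Why.cycE r i0 a0 looks backs, Fact.E i a j b) =>
    Nat.blt r c.rels.length &&
    match c.fwd mu k looks (c.rels.getD r []) (i0, c.ev mu a0) with
    | some (f, z :: rest) =>
      match c.bwd mu k backs rest.reverse (i0, c.ev mu a0) with
      | some g => Nat.beq i f.1 && Nat.beq a (mu f.2 (c.ev mu z.1)) && Nat.beq j g.1 && Nat.beq b g.2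
      | none => false
    | _ => false
  | (Why.cycH r i0 a0 looks h, Fact.H i a) =>
    Nat.blt r c.rels.length &&
    match c.fwd mu k looks (c.rels.getD r []) (i0, c.ev mu a0) with
    | some (f, []) => Nat.beq f.1 i0 && Nat.beq i i0 && Nat.beq a (c.ev mu h) && Nat.beq (mu a (c.ev mu a0)) f.2
    | _ => false
  | (Why.con l1 l2 h, Fact.H i a) =>
    match c.look mu k l1, c.look mu k l2 with
    | some (i1, a1, j1, b1), some (i2, a2, j2, b2) =>
      Nat.beq i1 i2 && Nat.beq a1 a2 && Nat.beq j1 i && Nat.beq j2 i && Nat.beq a (c.ev mu h) && Nat.beq (mu a b1) b2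
    | _, _ => false
  | _ => false

/-- inverse words are right -/
def invOK : Bool := c.rels.all fun zs => zs.all fun z => Nat.beq (mu (c.ev mu z.1) (c.ev mu z.2)) c.one

/-- the points -/
def ptsOK : Bool :=
  ((List.range c.pts.length).all fun k => Nat.beq (c.pts.getD k 0) (c.ev mu (c.pw.getD k []))) &&
  ((List.range c.pts.length).all fun k => Nat.beq (mu (c.pts.getD k 0) (c.ev mu (c.reps.getD k [])))
    (mu (c.ev mu (c.reps.getD k [])) (c.ev mu c.u))) &&
  ((List.range c.pts.length).all fun k => (List.range c.gens.length).all fun g =>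
    Nat.blt ((c.moves.getD k []).getD g c.pts.length) c.pts.length &&
      Nat.beq (mu (c.gens.getD g c.one) (c.pts.getD k 0))
        (mu (c.pts.getD ((c.moves.getD k []).getD g c.pts.length) 0) (c.gens.getD g c.one))) &&
  c.pts.elem (c.ev mu c.u)

/-- the listed centralizer -/
def dOK : Bool :=
  (List.range c.dList.length).all fun k =>
    let e := c.dList.getD k (0, 0, 0)
    bif Nat.beq k 0 then Nat.beq e.2.2 c.one
    else Nat.blt e.1 k && Nat.blt e.2.1 c.cg.length &&
      Nat.beq e.2.2 (mu (c.dList.getD e.1 (0, 0, 0)).2.2 (c.ev mu (c.cg.getD e.2.1 ([], [])).1))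

/-- the twisted words commute with the involution -/
def cgOK : Bool := c.cg.all fun w => Nat.beq (mu (c.ev mu w.1) (c.ev mu c.u)) (mu (c.ev mu c.u) (c.ev mu w.1))

/-- the values of a listed subgroup -/
def vals (l : List (ℕ × ℕ × ℕ)) : List ℕ := l.map fun e => e.2.2

/-- a listed subgroup of one stabilizer -/
def hOK (i : ℕ) (l : List (ℕ × ℕ × ℕ)) : Bool :=
  (List.range l.length).all fun k =>
    let e := l.getD k (0, 0, 0)
    bif Nat.beq k 0 then Nat.beq e.2.2 c.one
    else Nat.blt e.1 k && Nat.blt e.2.1 c.facts.length &&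
      match c.fact e.2.1 with
      | Fact.H i' h => Nat.beq i' i && Nat.beq e.2.2 (mu (l.getD e.1 (0, 0, 0)).2.2 h)
      | _ => false

/-- one covered point -/
def covOne (i : ℕ) (l : List (ℕ × Src)) (n : ℕ) : Bool :=
  match l.getD n (0, Src.par n 0) with
  | (k, Src.edge e) =>
    match c.look mu c.facts.length e with
    | some (i', a, j, _) => Nat.beq i' i && Nat.ble j c.tree.length && Nat.beq (mu a (c.ev mu c.u)) (mu (c.pts.getD k 0) a)
    | none => false
  | (k, Src.par p f) =>
    Nat.blt p n && Nat.blt f c.facts.length && Nat.blt (l.getD p (0, Src.par p 0)).1 c.pts.length &&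
      match c.fact f with
      | Fact.H i' h => Nat.beq i' i &&
          Nat.beq (mu h (c.pts.getD (l.getD p (0, Src.par p 0)).1 0)) (mu (c.pts.getD k 0) h)
      | _ => false

/-- the covering of the edges at one orbit -/
def covOK (i : ℕ) (l : List (ℕ × Src)) : Bool :=
  ((List.range c.pts.length).all fun k => (l.map Prod.fst).elem k) && (List.range l.length).all fun n => c.covOne mu i l n

/-- all coverings -/
def covAll : Bool :=
  Nat.beq c.cov.length (c.tree.length + 1) &&
    (List.range c.cov.length).all fun i => c.covOK mu i (c.cov.getD i [])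

end Cert

/-- A representation of a group by natural numbers. -/
structure Rep (A : Type*) [Group A] (mu : ℕ → ℕ → ℕ) (c : Cert) where
  cd : A → ℕ
  cd_mul : ∀ a b : A, cd (a * b) = mu (cd a) (cd b)
  cd_one : cd 1 = c.one
  cd_inj : Function.Injective cd
  gen : ℕ → A
  cd_gen : ∀ k, cd (gen k) = c.gens.getD k c.one
  gen_top : Subgroup.closure (Set.range fun k : Fin c.gens.length => gen k) = ⊤

variable {A : Type*} [Group A] {mu : ℕ → ℕ → ℕ} {c : Cert} (R : Rep A mu c)

/-- the element of a word -/
def Rep.wel (w : List ℕ) : A := w.foldl (fun r k => r * R.gen k) 1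

theorem Rep.cd_wel (w : List ℕ) : R.cd (R.wel w) = c.ev mu w := by
  suffices ∀ r : A, R.cd (w.foldl (fun r k => r * R.gen k) r) =
      w.foldl (fun r k => mu r (c.gens.getD k c.one)) (R.cd r) by
    rw [Rep.wel, this, R.cd_one]; rfl
  induction w with
  | nil => intro r; rfl
  | cons k w ih => intro r; rw [List.foldl_cons, List.foldl_cons, ih, R.cd_mul, R.cd_gen]

theorem Rep.eq_of_cd {a b : A} (h : R.cd a = R.cd b) : a = b := R.cd_inj h

theorem Rep.invol_inv (h : c.invOK mu = true) {zs : List (List ℕ × List ℕ)} (hz : zs ∈ c.rels)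
    {z : List ℕ × List ℕ} (hzm : z ∈ zs) : R.wel z.2 = (R.wel z.1)⁻¹ := by
  refine (inv_eq_of_mul_eq_one_right (R.eq_of_cd ?_)).symm
  rw [R.cd_mul, R.cd_wel, R.cd_wel, R.cd_one]
  simp only [Cert.invOK, List.all_eq_true, Nat.beq_eq] at h
  exact h zs hz z hzm

end Cfsg.Agent.Spor.DCoset
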