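import Cfsg.Agent.Lib.Spor.MclCent.Model
import Cfsg.Agent.Lib.Spor.MclCent.GenData

/-!
The centralizer and the fifth element generate the McLaughlin group: the group generated has subgroups of orders
11, 125, 81 and 40320.
-/

set_option autoImplicit false
set_option maxRecDepth 100000
set_option maxHeartbeats 0
set_option linter.style.haveILetI false

namespace Cfsg.Agent.Spor.MclCent

open DCoset
open Local.FS.McLSmall (K idC)
open Local.FS.McLSmall.Cent (Cz card_K)

/-- value of a word in the five generators -/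
def ev5 (w : List ℕ) : ℕ :=
  w.foldl (fun r k => mu r (bif Nat.beq k 4 then sLit else mclCert.gens.getD k mclCert.one)) mclCert.one

/-- one listed subgroup -/
def subOK (e : ℕ × List (List ℕ × ℕ) × List (ℕ × ℕ × ℕ)) : Bool :=
  let l := e.2.2; let vals := l.map fun x => x.2.2; let g := e.2.1.map Prod.snd
  e.2.1.all (fun w => Nat.beq (ev5 w.1) w.2) &&
  l.length == e.1 && vals.dedup.length == e.1 &&
  ((List.range l.length).all fun k =>
    let x := l.getD k (0, 0, 0)
    bif Nat.beq k 0 then Nat.beq x.2.2 mclCert.one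
    else Nat.blt x.1 k && Nat.blt x.2.1 g.length && Nat.beq x.2.2 (mu (l.getD x.1 (0, 0, 0)).2.2 (g.getD x.2.1 0))) &&
  l.all fun x => g.all fun y => vals.elem (mu x.2.2 y)

theorem subs_ok : (oddSubs.all subOK && (oddSubs.map Prod.fst == [11, 125, 81])) = true := by decide +kernel

attribute [local irreducible] mu idC mclCert sLit oddSubs cdK Nat.beq

/-- the subgroup generated by the centralizer and the fifth element -/
noncomputable def Y : Subgroup ↥K := Subgroup.closure (Set.range Cz.subtype ∪ {sK})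

theorem ev5_mem (w : List ℕ) : ∃ g ∈ Y, cdK g = ev5 w := by
  suffices ∀ g ∈ Y, ∃ g' ∈ Y, cdK g' =
      w.foldl (fun r k => mu r (bif Nat.beq k 4 then sLit else mclCert.gens.getD k mclCert.one)) (cdK g) by
    have h := this 1 (one_mem _)
    rwa [cdK_one, ← gen_facts.2.2.2.1] at h
  induction w with
  | nil => exact fun g hg => ⟨g, hg, rfl⟩
  | cons k w ih =>
    intro g hg
    rw [List.foldl_cons]
    rcases Bool.eq_false_or_eq_true (Nat.beq k 4) with h | h <;> rw [h]
    · rw [cond_true]
      have := ih (g * sK) (mul_mem hg (Subgroup.subset_closure (Or.inr rfl)))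
      rwa [cdK_mul, show cdK sK = sLit from gen_facts.2.1] at this
    · rw [cond_false, ← cd_genA k, ← cdK_mul]
      exact ih _ (mul_mem hg (Subgroup.subset_closure (Or.inl ⟨genA k, rfl⟩)))

theorem dvd_of_sub {e : ℕ × List (List ℕ × ℕ) × List (ℕ × ℕ × ℕ)} (he : subOK e = true) (hn : 0 < e.1) :
    e.1 ∣ Nat.card ↥Y := by
  classical
  obtain ⟨n, ws, l⟩ := e
  simp only [subOK, Bool.and_eq_true, beq_iff_eq, List.all_eq_true, List.mem_range, List.elem_iff, Nat.beq_eq] at he
  obtain ⟨⟨⟨⟨hval, hlen⟩, hnd⟩, htree⟩, hcl⟩ := he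
  choose g hgY hgv using ev5_mem
  let P : Subgroup ↥K := Subgroup.closure {x | ∃ w ∈ ws, g w.1 = x}
  have hPY : P ≤ Y := (Subgroup.closure_le _).2 (by rintro x ⟨w, -, rfl⟩; exact hgY w.1)
  refine dvd_trans ?_ (Subgroup.card_dvd_of_le hPY)
  set V := l.map fun x => x.2.2 with hV
  have hin : ∀ k < l.length, ∃ z ∈ P, cdK z = (l.getD k (0, 0, 0)).2.2 := by
    intro k
    induction k using Nat.strong_induction_on with
    | _ k ih =>
      intro hk
      have e := htree k hk
      rcases Nat.eq_zero_or_pos k with rfl | hk0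
      · simp only [Nat.beq_refl, cond_true, Nat.beq_eq] at e
        exact ⟨1, one_mem _, by rw [cdK_one, ← gen_facts.2.2.2.1]; exact e.symm⟩
      · rw [show Nat.beq k 0 = false from Bool.eq_false_iff.2 fun e => hk0.ne' (Nat.eq_of_beq_eq_true e)] at e
        simp only [cond_false, Bool.and_eq_true, Nat.blt_eq, Nat.beq_eq, List.length_map] at e
        obtain ⟨⟨h1, h2⟩, h3⟩ := e
        obtain ⟨z, hz, hzc⟩ := ih _ h1 (h1.trans hk)
        refine ⟨z * g (ws.getD (l.getD k (0, 0, 0)).2.1 ([], 0)).1, mul_mem hz (Subgroup.subset_closure ⟨_, ?_, rfl⟩), ?_⟩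
        · rw [List.getD_eq_getElem _ _ h2]; exact List.getElem_mem _
        · rw [cdK_mul, hzc, hgv, h3,
            hval _ (by rw [List.getD_eq_getElem _ _ h2]; exact List.getElem_mem _)]
          congr 1
          exact (List.getD_map (l := ws) (d := ([], 0)) Prod.snd).symm
  have hmem : ∀ v ∈ V, ∃ z ∈ P, cdK z = v := fun v hv => by
    obtain ⟨x, hx, rfl⟩ := List.mem_map.1 hv
    obtain ⟨k, hk, rfl⟩ := List.mem_iff_getElem.1 hx
    obtain ⟨z, hz, hzv⟩ := hin k hk
    exact ⟨z, hz, by rw [hzv, List.getD_eq_getElem _ _ hk]⟩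
  have hall : ∀ x ∈ P, cdK x ∈ V := by
    intro x hx
    rw [← Subgroup.mem_toSubmonoid, Subgroup.closure_toSubmonoid_of_finite] at hx
    induction hx using Submonoid.closure_induction_right with
    | one =>
      have h0 : 0 < l.length := by
        rw [hlen]
        exact hn
      have e := htree 0 h0
      simp only [Nat.beq_refl, cond_true, Nat.beq_eq] at e
      rw [cdK_one, ← gen_facts.2.2.2.1, ← e, List.getD_eq_getElem _ _ h0]
      exact List.mem_map.2 ⟨_, List.getElem_mem h0, rfl⟩
    | mul_right x _ y hy ih =>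
      obtain ⟨w, hw, rfl⟩ := hy
      obtain ⟨e, he, hev⟩ := List.mem_map.1 ih
      rw [cdK_mul, ← hev, hgv, hval w hw]
      exact hcl e he _ (List.mem_map.2 ⟨w, hw, rfl⟩)
  haveI := Fintype.ofFinite ↥P
  have hcard : Nat.card ↥P = n := by
    have himg : (Finset.univ : Finset ↥P).image (fun x : ↥P => cdK (x : ↥K)) = V.toFinset := by
      ext v
      simp only [Finset.mem_image, Finset.mem_univ, true_and, List.mem_toFinset]
      constructor
      · rintro ⟨x, rfl⟩; exact hall _ x.2
      · intro hv; obtain ⟨z, hz, rfl⟩ := hmem v hv; exact ⟨⟨z, hz⟩, rfl⟩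
    have h := congrArg Finset.card himg
    rw [Finset.card_image_of_injective _ (fun a b h => Subtype.ext (cdK_inj h)), List.card_toFinset] at h
    rw [Nat.card_eq_fintype_card, ← Finset.card_univ, h, hnd]
  exact hcard.symm.dvd

theorem Y_top : Y = ⊤ := by
  by_contra hne
  have h := subs_ok
  simp only [Bool.and_eq_true, List.all_eq_true, beq_iff_eq] at h
  obtain ⟨hall, hfst⟩ := h
  have hd : ∀ n ∈ ([11, 125, 81] : List ℕ), n ∣ Nat.card ↥Y := fun n hn => by
    rw [← hfst] at hn
    obtain ⟨e, he, rfl⟩ := List.mem_map.1 hn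
    exact dvd_of_sub (hall e he) (Nat.pos_of_ne_zero fun h0 => by rw [hfst, h0] at hn; simp at hn)
  have hC : 40320 ∣ Nat.card ↥Y := by
    rw [← card_Cz]
    exact Subgroup.card_dvd_of_le fun c hc => Subgroup.subset_closure (Or.inl ⟨⟨c, hc⟩, rfl⟩)
  have h1 : Nat.lcm (Nat.lcm (Nat.lcm 11 125) 81) 40320 ∣ Nat.card ↥Y :=
    Nat.lcm_dvd (Nat.lcm_dvd (Nat.lcm_dvd (hd _ (by simp)) (hd _ (by simp))) (hd _ (by simp))) hC
  rw [show Nat.lcm (Nat.lcm (Nat.lcm 11 125) 81) 40320 = 99792000 by decide +kernel] at h1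
  obtain ⟨m, hm⟩ := h1
  have h2 := Y.card_mul_index
  rw [card_K, hm] at h2
  have h9 : Y.index ∣ 9 := ⟨m, by nlinarith⟩
  haveI : Y.normalCore.Normal := Subgroup.normalCore_normal Y
  haveI : IsSimpleGroup ↥K := simple_mcl_ref.2
  have hbot : Y.normalCore = ⊥ := (Subgroup.Normal.eq_bot_or_eq_top inferInstance).resolve_right fun e =>
    hne (top_le_iff.1 (e ▸ Y.normalCore_le))
  rw [Subgroup.normalCore_eq_ker] at hbot
  have h3 := Subgroup.card_dvd_of_injective _ ((MonoidHom.ker_eq_bot_iff _).1 hbot)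
  rw [card_K, Nat.card_perm, ← Subgroup.index_eq_card] at h3
  have hle : Y.index ≤ 9 := Nat.le_of_dvd (by norm_num) h9
  exact absurd (h3.trans (Nat.factorial_dvd_factorial hle)) (by decide +kernel)

end Cfsg.Agent.Spor.MclCent
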