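import Cfsg.Agent.Lib.Spor.MclCent.KGen
import Cfsg.Agent.Lib.Spor.MclCent.ThreeData

/-!
Every element of order three of the McLaughlin group commutes with an involution.
-/

set_option autoImplicit false
set_option maxRecDepth 100000
set_option maxHeartbeats 0
set_option linter.style.haveILetI false

namespace Cfsg.Agent.Spor.MclCent

open DCoset
open Local.FS.McLSmall (K idC)
open Local.FS.McLSmall.Cent (Cz card_K tz tz_sq tz_ne)

/-- an entry of a list of chunks -/
def at2 {α : Type} (L : List (List α)) (i : ℕ) (d : α) : α := (L.getD (i / 27) []).getD (i % 27) d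

/-- the value of a position -/
def tval (i : ℕ) : ℕ := (at2 threeTree i (0, 0, 0)).2.2

/-- the value of a generator -/
def tgen (k : ℕ) : ℕ := (threeGens.getD k ([], 0)).2

/-- the check of the tree and of the products with the generators -/
def treeOK3 (i : ℕ) : Bool :=
  let x := at2 threeTree i (0, 0, 0)
  (bif Nat.beq i 0 then Nat.beq x.2.2 mclCert.one
    else Nat.blt x.1 i && Nat.blt x.2.1 threeGens.length && Nat.beq x.2.2 (mu (tval x.1) (tgen x.2.1))) &&
  (List.range threeGens.length).all fun k =>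
    let j := (at2 threeSucc i []).getD k 0
    Nat.blt j 729 && Nat.beq (mu (tval i) (tgen k)) (tval j)

/-- the check of the witness of a position -/
def witOK (i : ℕ) : Bool :=
  let w := at2 threeWit i (0, 0, 0)
  let y := tval i
  Nat.beq i 0 ||
  bif Nat.beq w.2.1 4 then !(Nat.beq (mu (mu y y) y) mclCert.one)
  else bif Nat.beq w.2.1 5 then
    let r := threeRoots.getD w.2.2 ([], [])
    let v := mu (mu (ev5 r.1) tLit) (ev5 r.2)
    Nat.beq (mu (ev5 r.1) (ev5 r.2)) mclCert.one && Nat.beq (mu y v) (mu v y)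
  else
    let p := w.2.2
    Nat.blt p 729 && Nat.blt w.2.1 threeGens.length && Nat.blt (at2 threeWit p (0, 0, 0)).1 w.1 &&
      Nat.beq (mu (tgen w.2.1) y) (mu (tval p) (tgen w.2.1))

theorem gens3_ok : (threeGens.all fun w => Nat.beq (ev5 w.1) w.2) = true := by decide +kernel

theorem tree3_ok : ((List.range 729).all treeOK3) = true := by decide +kernel

theorem wit_ok : ((List.range 729).all witOK) = true := by decide +kernel

theorem ord_ok : ((List.range 729).all fun k => Nat.blt (at2 threeOrd k 0) 729 &&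
    (Nat.beq k 0 || Nat.blt (tval (at2 threeOrd (k - 1) 0)) (tval (at2 threeOrd k 0)))) = true := by decide +kernel

attribute [local irreducible] mu idC mclCert sLit tLit cdK Nat.beq at2 tval tgen ev5 threeGens threeTree threeSucc threeWit
  threeOrd threeRoots

/-- the elements of the five generators -/
theorem exists_gen3 (k : ℕ) (hk : k < threeGens.length) : ∃ g : ↥K, cdK g = tgen k := by
  obtain ⟨g, -, hg⟩ := ev5_mem (threeGens.getD k ([], 0)).1
  have h := List.all_eq_true.1 gens3_ok _ (show threeGens.getD k ([], 0) ∈ threeGens by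
    rw [List.getD_eq_getElem _ _ hk]; exact List.getElem_mem _)
  exact ⟨g, hg.trans (by rw [Nat.beq_eq] at h; rw [h, tgen])⟩

/-- the subgroup generated -/
noncomputable def P3 : Subgroup ↥K :=
  Subgroup.closure (Set.range fun k : Fin threeGens.length => (exists_gen3 k k.2).choose)

theorem exists_tval : ∀ i < 729, ∃ z ∈ P3, cdK z = tval i := by
  intro i
  induction i using Nat.strong_induction_on with
  | _ i ih =>
    intro hi
    have h := List.all_eq_true.1 tree3_ok i (List.mem_range.2 hi)
    simp only [treeOK3, Bool.and_eq_true] at h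
    rcases Nat.eq_zero_or_pos i with rfl | h0
    · refine ⟨1, one_mem _, ?_⟩
      have h1 := h.1
      simp only [Nat.beq_refl, cond_true, Nat.beq_eq] at h1
      rw [cdK_one, ← gen_facts.2.2.2.1, tval, h1]
    · have h1 := h.1
      rw [show Nat.beq i 0 = false from Bool.eq_false_iff.2 fun e => h0.ne' (Nat.eq_of_beq_eq_true e)] at h1
      simp only [cond_false, Bool.and_eq_true, Nat.blt_eq, Nat.beq_eq] at h1
      obtain ⟨⟨hp, hk⟩, e⟩ := h1
      obtain ⟨z, hz, hzv⟩ := ih _ hp (hp.trans hi)
      refine ⟨z * (exists_gen3 _ hk).choose, mul_mem hz (Subgroup.subset_closure ⟨⟨_, hk⟩, rfl⟩), ?_⟩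
      rw [cdK_mul, hzv, (exists_gen3 _ hk).choose_spec, ← e, tval]

theorem mem_P3 {x : ↥K} (hx : x ∈ P3) : ∃ i < 729, cdK x = tval i := by
  rw [P3, ← Subgroup.mem_toSubmonoid, Subgroup.closure_toSubmonoid_of_finite] at hx
  induction hx using Submonoid.closure_induction_right with
  | one =>
    obtain ⟨z, -, hz⟩ := exists_tval 0 (by norm_num)
    have h := List.all_eq_true.1 tree3_ok 0 (List.mem_range.2 (by norm_num))
    simp only [treeOK3, Bool.and_eq_true, Nat.beq_refl, cond_true, Nat.beq_eq] at h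
    exact ⟨0, by norm_num, by rw [cdK_one, ← gen_facts.2.2.2.1, tval, h.1]⟩
  | mul_right x _ y hy ih =>
    obtain ⟨k, rfl⟩ := hy
    obtain ⟨i, hi, e⟩ := ih
    have h := List.all_eq_true.1 tree3_ok i (List.mem_range.2 hi)
    simp only [treeOK3, Bool.and_eq_true, List.all_eq_true, List.mem_range, Nat.blt_eq, Nat.beq_eq] at h
    obtain ⟨hj, e'⟩ := h.2 k k.2
    exact ⟨_, hj, by rw [cdK_mul, e, (exists_gen3 k k.2).choose_spec, e']⟩

theorem card_P3 : Nat.card ↥P3 = 729 := by
  apply le_antisymm
  · refine le_of_le_of_eq (Nat.card_le_card_of_injective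
      (fun x : ↥P3 => (⟨(mem_P3 x.2).choose, (mem_P3 x.2).choose_spec.1⟩ : Fin 729)) fun a b e => ?_) (by simp)
    have ha := (mem_P3 a.2).choose_spec.2
    have hb := (mem_P3 b.2).choose_spec.2
    have e' : (mem_P3 a.2).choose = (mem_P3 b.2).choose := congrArg Fin.val e
    exact Subtype.ext (eqK (ha.trans ((congrArg tval e').trans hb.symm)))
  · have h := ord_ok
    simp only [List.all_eq_true, List.mem_range, Bool.and_eq_true, Bool.or_eq_true, Nat.blt_eq, Nat.beq_eq] at h
    let f : Fin 729 → ↥P3 := fun k =>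
      ⟨(exists_tval _ (h k k.2).1).choose, (exists_tval _ (h k k.2).1).choose_spec.1⟩
    have hf : ∀ k, cdK (f k : ↥K) = tval (at2 threeOrd k 0) := fun k => (exists_tval _ (h k k.2).1).choose_spec.2
    have hmono : StrictMono fun k : Fin 729 => cdK (f k : ↥K) := by
      refine (Fin.strictMono_iff_lt_succ (n := 728)).2 fun j => ?_
      rw [hf, hf, Fin.val_succ, Fin.val_castSucc]
      rcases (h (j + 1) (by omega)).2 with h' | h'
      · omega
      · simpa using h'
    have := Nat.card_le_card_of_injective f fun a b e => hmono.injective (congrArg (fun x : ↥P3 => cdK (x : ↥K)) e)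
    simpa using this

theorem tval_inj {i : ℕ} (hi : i < 729) (h : tval i = tval 0) : i = 0 := by
  by_contra hne
  classical
  have hlt : Nat.card ↥P3 < 729 := by
    let F := fun x : ↥P3 => cdK (x : ↥K)
    have hFi : Function.Injective F := fun a b e => Subtype.ext (eqK e)
    haveI := Fintype.ofFinite ↥P3
    rw [Nat.card_eq_fintype_card, ← Finset.card_univ, ← Finset.card_image_of_injective _ hFi]
    refine lt_of_le_of_lt (Finset.card_le_card (t := ((Finset.range 729).erase i).image tval) fun v hv => ?_) ?_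
    · obtain ⟨x, -, rfl⟩ := Finset.mem_image.1 hv
      obtain ⟨j, hj, e⟩ := mem_P3 x.2
      rcases eq_or_ne j i with rfl | hji
      · exact Finset.mem_image.2 ⟨0, by simp [Ne.symm hne], (e.trans h).symm⟩
      · exact Finset.mem_image.2 ⟨j, by simp [hji, hj], e.symm⟩
    · refine lt_of_le_of_lt Finset.card_image_le ?_
      rw [Finset.card_erase_of_mem (Finset.mem_range.2 hi), Finset.card_range]
      norm_num
  exact hlt.ne card_P3

theorem wit_comm : ∀ r, ∀ i < 729, (at2 threeWit i (0, 0, 0)).1 = r → i ≠ 0 → ∀ y : ↥K, cdK y = tval i → y ^ 3 = 1 →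
    ∃ v : ↥K, v * v = 1 ∧ v ≠ 1 ∧ Commute y v := by
  intro r
  induction r using Nat.strong_induction_on with
  | _ r ih =>
    intro i hi hr hi0 y hy hy3
    have h := List.all_eq_true.1 wit_ok i (List.mem_range.2 hi)
    unfold witOK at h
    simp only [Bool.or_eq_true, Nat.beq_eq, hi0, false_or] at h
    have hy' : mu (mu (tval i) (tval i)) (tval i) = mclCert.one := by
      rw [← hy, ← cdK_mul, ← cdK_mul, gen_facts.2.2.2.1, ← cdK_one, ← hy3, pow_succ, pow_two]
    cases h4 : Nat.beq (at2 threeWit i (0, 0, 0)).2.1 4 with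
    | true =>
      rw [h4] at h
      simp only [cond_true, Bool.not_eq_eq_eq_not, Bool.not_true] at h
      rw [hy'] at h
      simp at h
    | false =>
      rw [h4] at h
      simp only [cond_false] at h
      cases h5 : Nat.beq (at2 threeWit i (0, 0, 0)).2.1 5 with
      | true =>
        rw [h5] at h
        simp only [cond_true, Bool.and_eq_true, Nat.beq_eq] at h
        obtain ⟨g, -, hg⟩ := ev5_mem (threeRoots.getD (at2 threeWit i (0, 0, 0)).2.2 ([], [])).1
        obtain ⟨g', -, hg'⟩ := ev5_mem (threeRoots.getD (at2 threeWit i (0, 0, 0)).2.2 ([], [])).2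
        have hgi : g' = g⁻¹ := eq_inv_of_mul_eq_one_right (eqK (by
          rw [cdK_mul, hg, hg', h.1, cdK_one, gen_facts.2.2.2.1]))
        subst hgi
        refine ⟨g * tz * g⁻¹, ?_, fun e => tz_ne (conj_eq_one_iff.1 e), eqK ?_⟩
        · calc g * tz * g⁻¹ * (g * tz * g⁻¹) = g * (tz * tz) * g⁻¹ := by group
            _ = 1 := by rw [tz_sq]; group
        · simp only [cdK_mul, hy, hg, hg', gen_facts.2.2.2.2.1]
          exact h.2
      | false =>
        rw [h5] at h
        simp only [cond_false, Bool.and_eq_true, Nat.blt_eq, Nat.beq_eq] at h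
        obtain ⟨⟨⟨hp, hk⟩, hlt⟩, e⟩ := h
        obtain ⟨g, hg⟩ := exists_gen3 _ hk
        have hz : cdK (g * y * g⁻¹) = tval (at2 threeWit i (0, 0, 0)).2.2 := by
          obtain ⟨z, -, hz⟩ := exists_tval _ hp
          rw [← hz]
          refine congrArg cdK ?_
          have : g * y = z * g := eqK (by rw [cdK_mul, cdK_mul, hg, hy, hz, e])
          rw [this, mul_inv_cancel_right]
        have hp0 : (at2 threeWit i (0, 0, 0)).2.2 ≠ 0 := fun e0 => by
          have h0 := List.all_eq_true.1 tree3_ok 0 (List.mem_range.2 (by norm_num))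
          simp only [treeOK3, Bool.and_eq_true, Nat.beq_refl, cond_true, Nat.beq_eq] at h0
          have h1 : g * y * g⁻¹ = 1 := eqK (by rw [hz, e0, cdK_one, ← gen_facts.2.2.2.1, tval, h0.1])
          have h2 : y = 1 := conj_eq_one_iff.1 h1
          exact hi0 (tval_inj hi (by rw [← hy, h2, cdK_one, ← gen_facts.2.2.2.1, tval, h0.1]))
        obtain ⟨v, hv2, hv1, hv⟩ := ih _ (hr ▸ hlt) _ hp rfl hp0 (g * y * g⁻¹) hz (by
          rw [conj_pow, hy3]; group)
        refine ⟨g⁻¹ * v * g, ?_, fun e => hv1 ?_, ?_⟩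
        · calc g⁻¹ * v * g * (g⁻¹ * v * g) = g⁻¹ * (v * v) * g := by group
            _ = 1 := by rw [hv2]; group
        · calc v = g * (g⁻¹ * v * g) * g⁻¹ := by group
            _ = 1 := by rw [e]; group
        · show y * (g⁻¹ * v * g) = g⁻¹ * v * g * y
          calc y * (g⁻¹ * v * g) = g⁻¹ * (g * y * g⁻¹ * v) * g := by group
            _ = g⁻¹ * (v * (g * y * g⁻¹)) * g := by rw [hv.eq]
            _ = _ := by group

/-- Every element of order three commutes with an involution. -/
theorem three_comm (y : ↥K) (hy : y ^ 3 = 1) (hy1 : y ≠ 1) : ∃ v : ↥K, v * v = 1 ∧ v ≠ 1 ∧ Commute y v := by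
  haveI : Fact (Nat.Prime 3) := ⟨by norm_num⟩
  let P : Sylow 3 ↥K := Sylow.ofCard P3 (by
    rw [card_P3, card_K]
    have : Nat.factorization 898128000 3 = 6 := by
      rw [show (898128000 : ℕ) = 3 ^ 6 * 1232000 by norm_num, Nat.factorization_mul (by norm_num) (by norm_num),
        Finsupp.add_apply, Nat.Prime.factorization_pow Nat.prime_three,
        Nat.factorization_eq_zero_of_not_dvd (show ¬ 3 ∣ 1232000 by norm_num)]
      simp
    rw [this]; norm_num)
  have hp : IsPGroup 3 (Subgroup.zpowers y) := IsPGroup.of_card (n := 1) (by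
    rw [Nat.card_zpowers, pow_one, orderOf_eq_prime (p := 3) hy hy1])
  obtain ⟨Q, hQ⟩ := hp.exists_le_sylow
  obtain ⟨c, hc⟩ := MulAction.exists_smul_eq ↥K Q P
  have hmem : c * y * c⁻¹ ∈ P3 := by
    show c * y * c⁻¹ ∈ (P : Subgroup ↥K)
    rw [← hc, Sylow.coe_subgroup_smul]
    exact ⟨y, hQ (Subgroup.mem_zpowers y), rfl⟩
  obtain ⟨i, hi, hiv⟩ := mem_P3 hmem
  have hi0 : i ≠ 0 := fun e => by
    have h0 := List.all_eq_true.1 tree3_ok 0 (List.mem_range.2 (by norm_num))
    simp only [treeOK3, Bool.and_eq_true, Nat.beq_refl, cond_true, Nat.beq_eq] at h0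
    exact hy1 (conj_eq_one_iff.1 (eqK (g := c * y * c⁻¹) (h := 1) (by
      rw [hiv, e, cdK_one, ← gen_facts.2.2.2.1, tval, h0.1])))
  obtain ⟨v, hv2, hv1, hv⟩ := wit_comm _ i hi rfl hi0 _ hiv (by rw [conj_pow, hy]; group)
  refine ⟨c⁻¹ * v * c, ?_, fun e => hv1 ?_, ?_⟩
  · calc c⁻¹ * v * c * (c⁻¹ * v * c) = c⁻¹ * (v * v) * c := by group
      _ = 1 := by rw [hv2]; group
  · calc v = c * (c⁻¹ * v * c) * c⁻¹ := by group
      _ = 1 := by rw [e]; group
  · show y * (c⁻¹ * v * c) = c⁻¹ * v * c * y
    calc y * (c⁻¹ * v * c) = c⁻¹ * (c * y * c⁻¹ * v) * c := by group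
      _ = c⁻¹ * (v * (c * y * c⁻¹)) * c := by rw [hv.eq]
      _ = _ := by group

end Cfsg.Agent.Spor.MclCent
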