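import Cfsg.Agent.Lib.Spor.MclCent.Rels
import Cfsg.Agent.Lib.Spor.MclCent.KGen
import Cfsg.Agent.Lib.Spor.MclCent.Three

/-!
The group with the given centralizer of an involution, in the fused case, is the McLaughlin group: it has a subgroup of
this type which contains the centralizers of its involutions, and such a subgroup cannot be proper.
-/

set_option autoImplicit false
set_option maxRecDepth 100000
set_option maxHeartbeats 1000000
set_option linter.style.haveILetI false
set_option linter.unusedSectionVars false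

namespace Cfsg.Agent.Spor.MclCent

open DCoset
open Local.FS.McLSmall (K)
open Local.FS.McLSmall.Cent (Cz card_K tz tC conj_tz tz_sq tz_ne)

attribute [local irreducible] mu mclCert sLit tLit cdK Nat.beq

variable {G : Type*} [Group G] [Finite G] (E : Emb G)

/-- The number of involutions, if they are all conjugate. -/
theorem card_invol {Γ : Type*} [Group Γ] [Finite Γ] (t : Γ) (ht : t * t = 1) (ht1 : t ≠ 1)
    (h : ∀ y : Γ, y * y = 1 → y ≠ 1 → IsConj t y) :
    Nat.card {y : Γ // y * y = 1 ∧ y ≠ 1} = (Subgroup.centralizer ({t} : Set Γ)).index := by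
  rw [Subgroup.index_eq_card]
  refine (Nat.card_eq_of_bijective (fun q : Γ ⧸ Subgroup.centralizer ({t} : Set Γ) =>
    (⟨q.out * t * q.out⁻¹, ?_, fun e => ht1 (conj_eq_one_iff.1 e)⟩ : {y : Γ // y * y = 1 ∧ y ≠ 1})) ⟨?_, ?_⟩).symm
  · calc q.out * t * q.out⁻¹ * (q.out * t * q.out⁻¹) = q.out * (t * t) * q.out⁻¹ := by group
      _ = 1 := by rw [ht]; group
  · intro a b e
    have e' : a.out * t * a.out⁻¹ = b.out * t * b.out⁻¹ := congrArg Subtype.val e
    rw [← QuotientGroup.out_eq' a, ← QuotientGroup.out_eq' b, QuotientGroup.eq, Subgroup.mem_centralizer_singleton_iff]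
    calc a.out⁻¹ * b.out * t = a.out⁻¹ * (b.out * t * b.out⁻¹) * b.out := by group
      _ = t * (a.out⁻¹ * b.out) := by rw [← e']; group
  · rintro ⟨y, hy, hy1⟩
    obtain ⟨g, rfl⟩ := isConj_iff.1 (h y hy hy1)
    refine ⟨QuotientGroup.mk g, Subtype.ext ?_⟩
    obtain ⟨⟨c, hc⟩, e⟩ := QuotientGroup.mk_out_eq_mul (Subgroup.centralizer ({t} : Set Γ)) g
    show (QuotientGroup.mk g : Γ ⧸ _).out * t * (QuotientGroup.mk g : Γ ⧸ _).out⁻¹ = _
    rw [e]
    calc g * c * t * (g * c)⁻¹ = g * (c * t) * c⁻¹ * g⁻¹ := by group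
      _ = g * t * g⁻¹ := by rw [Subgroup.mem_centralizer_singleton_iff.1 hc]; group

/-- The group contains the McLaughlin group with the given centralizer. -/
theorem exists_model (hF : Fused E) :
    ∃ f : ↥K →* G, Function.Injective f ∧ ∀ a : ↥Cz, f (a : ↥K) = E.φ a := by
  obtain ⟨S, hS⟩ := exists_sys E hF
  let T : Sys RA (G × ↥K) :=
    { φ := S.φ.prod sysK.φ
      σ := (S.σ, sysK.σ)
      sq := Prod.ext S.sq sysK.sq
      twist := fun w hw => Prod.ext (S.twist w hw) (sysK.twist w hw)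
      rel := fun zs hzs => by
        refine Prod.ext ?_ ?_
        · refine (map_list_prod (MonoidHom.fst G ↥K) _).trans ?_
          rw [List.map_map]
          exact S.rel zs hzs
        · refine (map_list_prod (MonoidHom.snd G ↥K) _).trans ?_
          rw [List.map_map]
          exact sysK.rel zs hzs }
  set H := Subgroup.closure (Set.range T.φ ∪ {T.σ}) with hH
  have hle : Nat.card ↥H ≤ 898128000 := by
    refine (card_le T cert_ok card_Cz pts_nodup).trans ?_
    rw [show mclCert.total = 22275 from beq_iff_eq.1 cert_total]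
  let π : ↥H →* ↥K := (MonoidHom.snd G ↥K).comp H.subtype
  have hsurj : Function.Surjective π := by
    rw [← MonoidHom.range_eq_top, eq_top_iff, ← Y_top, Y, Subgroup.closure_le]
    rintro x (⟨a, rfl⟩ | hx)
    · exact ⟨⟨T.φ a, Subgroup.subset_closure (Or.inl ⟨a, rfl⟩)⟩, rfl⟩
    · obtain rfl := Set.mem_singleton_iff.1 hx
      exact ⟨⟨T.σ, Subgroup.subset_closure (Or.inr rfl)⟩, rfl⟩
  haveI : IsSimpleGroup ↥K := simple_mcl_ref.2
  have hbij : Function.Bijective π := by
    refine (Nat.bijective_iff_surjective_and_card _).2 ⟨hsurj, ?_⟩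
    exact le_antisymm (hle.trans_eq card_K.symm) (Nat.card_le_card_of_surjective π hsurj)
  let e := MulEquiv.ofBijective π hbij
  refine ⟨((MonoidHom.fst G ↥K).comp H.subtype).comp e.symm.toMonoidHom, ?_, ?_⟩
  swap
  · intro a
    have : e.symm (a : ↥K) = ⟨T.φ a, Subgroup.subset_closure (Or.inl ⟨a, rfl⟩)⟩ := by
      rw [MulEquiv.symm_apply_eq]; rfl
    show (e.symm (a : ↥K) : G × ↥K).1 = _
    rw [this, ← hS]
    rfl
  · refine (MonoidHom.ker_eq_bot_iff _).1 ((Subgroup.Normal.eq_bot_or_eq_top inferInstance).resolve_right fun h => ?_)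
    have h1 : tz ∈ (((MonoidHom.fst G ↥K).comp H.subtype).comp e.symm.toMonoidHom).ker := h ▸ Subgroup.mem_top _
    have h2 : e.symm tz = ⟨T.φ tC, Subgroup.subset_closure (Or.inl ⟨tC, rfl⟩)⟩ := by
      rw [MulEquiv.symm_apply_eq]; rfl
    have h3 : (e.symm tz : G × ↥K).1 = 1 := h1
    rw [h2] at h3
    refine E.t_ne ?_
    rw [← E.map_t, ← hS]
    exact h3

section
variable {E} (f : ↥K →* G) (hf : Function.Injective f) (hφ : ∀ a : ↥Cz, f (a : ↥K) = E.φ a)
include hf hφ

/-- Two involutions of the image which are conjugate are conjugate by the image. -/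
theorem mem_of_conj {v g : G} (hv : v * v = 1) (hv1 : v ≠ 1) (hvX : v ∈ f.range) (hgv : g * v * g⁻¹ ∈ f.range) :
    g ∈ f.range := by
  have hcl : ∀ w : G, w * w = 1 → w ≠ 1 → w ∈ f.range → ∃ x ∈ f.range, x * E.t * x⁻¹ = w := by
    rintro w hw hw1 ⟨k, rfl⟩
    have hk : orderOf k = 2 := orderOf_eq_prime (p := 2) (hf (by rw [pow_two, map_mul, hw, map_one]))
      fun e => hw1 (by rw [e, map_one])
    obtain ⟨x, hx⟩ := isConj_iff.1 (conj_tz k hk)
    refine ⟨f x, ⟨x, rfl⟩, ?_⟩
    rw [← hx, map_mul, map_mul, map_inv, show f tz = E.t from (hφ tC).trans E.map_t]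
  obtain ⟨x, hx, hxv⟩ := hcl v hv hv1 hvX
  obtain ⟨y, hy, hyv⟩ := hcl (g * v * g⁻¹)
    (by calc g * v * g⁻¹ * (g * v * g⁻¹) = g * (v * v) * g⁻¹ := by group
          _ = 1 := by rw [hv]; group) (fun e => hv1 (conj_eq_one_iff.1 e)) hgv
  have hc : Commute (y⁻¹ * g * x) E.t := by
    show y⁻¹ * g * x * E.t = E.t * (y⁻¹ * g * x)
    calc y⁻¹ * g * x * E.t = y⁻¹ * (g * (x * E.t * x⁻¹) * g⁻¹) * g * x := by group
      _ = y⁻¹ * (y * E.t * y⁻¹) * g * x := by rw [hxv, hyv]
      _ = _ := by group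
  obtain ⟨a, ha⟩ := E.mem_range hc
  have : g = y * f (a : ↥K) * x⁻¹ := by rw [hφ, ha]; group
  rw [this]
  exact mul_mem (mul_mem hy ⟨_, rfl⟩) (inv_mem hx)

/-- An involution outside cannot invert an element with an even centralizer inside. -/
theorem no_comm {u v x : G} (hu : u * u = 1) (hu1 : u ≠ 1) (huX : u ∉ f.range) (hv : v * v = 1) (hv1 : v ≠ 1)
    (hvX : v ∈ f.range) (hux : u * x * u = x⁻¹) (hvx : Commute v x) (hodd : Odd (orderOf x)) : x = 1 := by
  have hui : u⁻¹ = u := inv_eq_of_mul_eq_one_right hu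
  have hvi : v⁻¹ = v := inv_eq_of_mul_eq_one_right hv
  have hcX : ∀ c : G, c * v = v * c → c ∈ f.range := fun c hc => mem_of_conj f hf hφ hv hv1 hvX (by
    rw [hc, mul_inv_cancel_right]; exact hvX)
  set r := u * v with hr
  have hvr : v * r * v = r⁻¹ := by
    rw [hr, mul_inv_rev, hui, hvi, mul_assoc, mul_assoc u, hv, mul_one]
  have hvpow : ∀ j : ℕ, v * r ^ j * v = (r⁻¹) ^ j := fun j => by
    have := conj_pow (a := v) (b := r) (i := j)
    rw [hvi, hvr] at this
    exact this.symm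
  rcases Nat.even_or_odd (orderOf r) with ⟨k, hk⟩ | ⟨k, hk⟩
  · exfalso
    have hpos := orderOf_pos r
    have hz1 : r ^ k ≠ 1 := fun e => by
      have := Nat.le_of_dvd (by omega) (orderOf_dvd_of_pow_eq_one e)
      omega
    have hz2 : r ^ k * r ^ k = 1 := by rw [← pow_add, ← hk, pow_orderOf_eq_one]
    have hzi : (r ^ k)⁻¹ = r ^ k := inv_eq_of_mul_eq_one_right hz2
    have hzv : r ^ k * v = v * r ^ k := by
      have h := hvpow k
      rw [inv_pow, hzi] at h
      calc r ^ k * v = v * r ^ k * v * v := by rw [h]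
        _ = _ := by rw [mul_assoc _ v v, hv, mul_one]
    have hzX : r ^ k ∈ f.range := hcX _ hzv
    have hzu : r ^ k * u = u * r ^ k := by
      calc r ^ k * u = r ^ k * r * v := by rw [hr, mul_assoc, mul_assoc u, hv, mul_one]
        _ = r * (r ^ k * v) := by rw [← pow_succ, pow_succ', mul_assoc]
        _ = u * (v * v) * r ^ k := by rw [hzv, hr]; group
        _ = _ := by rw [hv, mul_one]
    exact huX (mem_of_conj f hf hφ hz2 hz1 hzX (by rw [← hzu, mul_inv_cancel_right]; exact hzX))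
  · have hj : r ^ (k + 1) * v * (r ^ (k + 1))⁻¹ = u := by
      calc r ^ (k + 1) * v * (r ^ (k + 1))⁻¹ = r ^ (k + 1) * (v * (r⁻¹) ^ (k + 1) * v) * v := by
            rw [mul_assoc _ _ v, mul_assoc _ v v, hv, mul_one, inv_pow]; group
        _ = r ^ (k + 1) * r ^ (k + 1) * v := by
            rw [← hvpow]
            calc _ = r ^ (k + 1) * (v * v) * r ^ (k + 1) * (v * v) * v := by group
              _ = _ := by rw [hv, mul_one, mul_one]
        _ = r ^ orderOf r * (r * v) := by rw [← pow_add, ← mul_assoc, ← pow_succ, hk]; ring_nf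
        _ = u := by rw [pow_orderOf_eq_one, one_mul, hr, mul_assoc, hv, mul_one]
    have hconj : ∀ j : ℕ, (r ^ j)⁻¹ * x * r ^ j = x ∨ (r ^ j)⁻¹ * x * r ^ j = x⁻¹ := by
      have h1 : r⁻¹ * x * r = x⁻¹ := by
        calc r⁻¹ * x * r = v⁻¹ * (u * x * u) * v := by rw [hr, mul_inv_rev, hui]; group
          _ = _ := by rw [hux, mul_assoc, hvx.inv_right.symm.eq, ← mul_assoc, inv_mul_cancel, one_mul]
      intro j
      induction j with
      | zero => left; simp
      | succ j ih =>
        have e : (r ^ (j + 1))⁻¹ * x * r ^ (j + 1) = r⁻¹ * ((r ^ j)⁻¹ * x * r ^ j) * r := by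
          rw [pow_succ]; group
        rcases ih with h | h <;> rw [e, h]
        · exact Or.inr h1
        · left
          calc r⁻¹ * x⁻¹ * r = (r⁻¹ * x * r)⁻¹ := by group
            _ = x := by rw [h1, inv_inv]
    have hxu : x * u = u * x := by
      set g := r ^ (k + 1)
      have hc : (g⁻¹ * x * g) * v = v * (g⁻¹ * x * g) := by
        rcases hconj (k + 1) with h | h <;> rw [h]
        · exact hvx.symm.eq
        · exact hvx.inv_right.symm.eq
      calc x * u = g * ((g⁻¹ * x * g) * v) * g⁻¹ := by rw [← hj]; group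
        _ = u * x := by rw [hc, ← hj]; group
    have h2 : x ^ 2 = 1 := by
      rw [← hxu, mul_assoc, hu, mul_one] at hux
      rw [pow_two]
      exact mul_eq_one_iff_eq_inv.2 hux
    have h3 : orderOf x ∣ 2 := orderOf_dvd_of_pow_eq_one h2
    rcases (Nat.dvd_prime Nat.prime_two).1 h3 with h | h
    · exact orderOf_eq_one_iff.1 h
    · rw [h] at hodd; exact absurd hodd (by decide)

/-- Few elements of the image are inverted by an involution outside. -/
theorem card_inverted {u : G} (hu : u * u = 1) (hu1 : u ≠ 1) (huX : u ∉ f.range) :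
    Nat.card {x : G // x ∈ f.range ∧ u * x * u = x⁻¹} ≤ 9625 := by
  classical
  have hui : u⁻¹ = u := inv_eq_of_mul_eq_one_right hu
  set D : Subgroup G := f.range ⊓ f.range.comap (MulAut.conj u).toMonoidHom with hD
  have hmem : ∀ x : G, x ∈ D ↔ x ∈ f.range ∧ u * x * u ∈ f.range := fun x => by
    rw [hD, Subgroup.mem_inf, Subgroup.mem_comap, MulEquiv.coe_toMonoidHom, MulAut.conj_apply, hui]
  have huu : ∀ x : G, u * (u * x * u) * u = x := fun x => by
    calc u * (u * x * u) * u = (u * u) * x * (u * u) := by group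
      _ = x := by rw [hu, one_mul, mul_one]
  have hθ : ∀ x ∈ D, u * x * u ∈ D := fun x hx => (hmem _).2 ⟨((hmem x).1 hx).2, by
    rw [huu]; exact ((hmem x).1 hx).1⟩
  have hDodd : Odd (Nat.card ↥D) := by
    rw [← Nat.not_even_iff_odd, even_iff_two_dvd]
    intro h
    haveI : Fact (Nat.Prime 2) := ⟨Nat.prime_two⟩
    obtain ⟨⟨v, hv⟩, hvo⟩ := exists_prime_orderOf_dvd_card' 2 h
    rw [Subgroup.orderOf_mk] at hvo
    have hv2 : v * v = 1 := by rw [← pow_two, ← hvo, pow_orderOf_eq_one]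
    have hv1 : v ≠ 1 := fun e => by rw [e, orderOf_one] at hvo; omega
    exact huX (mem_of_conj f hf hφ hv2 hv1 ((hmem v).1 hv).1 (by rw [hui]; exact ((hmem v).1 hv).2))
  have hinD : ∀ x : G, x ∈ f.range → u * x * u = x⁻¹ → x ∈ D := fun x hx e =>
    (hmem x).2 ⟨hx, e ▸ inv_mem hx⟩
  have hord : ∀ x ∈ D, Odd (orderOf x) := fun x hx => by
    have h : orderOf x ∣ Nat.card ↥D := Subgroup.orderOf_dvd_natCard D hx
    exact hDodd.of_dvd_nat h
  have hthree : ∀ x : G, x ∈ f.range → u * x * u = x⁻¹ → ¬ 3 ∣ orderOf x := by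
    intro x hx e h3
    obtain ⟨m, hm⟩ := h3
    have hm0 : 0 < m := by have := orderOf_pos x; omega
    have hy : orderOf (x ^ m) = 3 := by
      rw [orderOf_pow' x hm0.ne', hm, Nat.gcd_eq_right ⟨3, mul_comm _ _⟩, Nat.mul_div_cancel _ hm0]
    obtain ⟨k, hk⟩ := pow_mem hx m
    have hk3 : k ^ 3 = 1 := hf (by rw [map_pow, hk, map_one, ← hy, pow_orderOf_eq_one])
    have hk1 : k ≠ 1 := fun e1 => by rw [e1, map_one] at hk; rw [← hk, orderOf_one] at hy; omega
    obtain ⟨v, hv2, hv1, hv⟩ := three_comm k hk3 hk1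
    have hinv : u * x ^ m * u = (x ^ m)⁻¹ := by
      have := conj_pow (a := u) (b := x) (i := m)
      rw [hui, e, inv_pow] at this
      exact this.symm
    have := no_comm f hf hφ hu hu1 huX (v := f v) (by rw [← map_mul, hv2, map_one])
      (fun e1 => hv1 (hf (e1.trans (map_one f).symm))) ⟨v, rfl⟩ hinv (by
        show f v * x ^ m = x ^ m * f v
        rw [← hk, ← map_mul, ← map_mul, hv.eq]) (by rw [hy]; decide)
    rw [this, orderOf_one] at hy
    omega
  let θ : MulAut ↥D :=
    { toFun := fun x => ⟨u * x * u, hθ x x.2⟩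
      invFun := fun x => ⟨u * x * u, hθ x x.2⟩
      left_inv := fun x => Subtype.ext (huu x)
      right_inv := fun x => Subtype.ext (huu x)
      map_mul' := fun a b => Subtype.ext (by
        show u * (↑a * ↑b) * u = u * a * u * (u * b * u)
        calc u * ((a : G) * b) * u = u * a * (u * u) * b * u := by rw [hu]; group
          _ = _ := by group) }
  have hθ2 : θ * θ = 1 := MulEquiv.ext fun x => Subtype.ext (huu x)
  haveI : Fact (Nat.Prime 3) := ⟨Nat.prime_three⟩
  haveI : Fact (Nat.Prime 2) := ⟨Nat.prime_two⟩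
  haveI := Fintype.ofFinite (Sylow 3 ↥D)
  have hSodd : ¬ 2 ∣ Fintype.card (Sylow 3 ↥D) := fun h => by
    rw [Fintype.card_eq_nat_card] at h
    have P : Sylow 3 ↥D := default
    have h' : Nat.card (Sylow 3 ↥D) ∣ Nat.card ↥D := by
      rw [P.card_eq_index_normalizer]; exact Subgroup.index_dvd_card _
    have := h.trans h'
    rw [← even_iff_two_dvd] at this
    exact Nat.not_even_iff_odd.2 hDodd this
  obtain ⟨P, hP⟩ := Equiv.Perm.exists_fixed_point_of_prime (p := 2) (n := 1) hSodd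
    (σ := MulAction.toPermHom (MulAut ↥D) (Sylow 3 ↥D) θ) (by rw [pow_one, pow_two, ← map_mul, hθ2, map_one])
  have hPθ : ∀ p ∈ (P : Subgroup ↥D), θ p ∈ (P : Subgroup ↥D) := fun p hp => by
    have hP' : θ • P = P := hP
    rw [← hP', Sylow.pointwise_smul_def]
    exact ⟨p, hp, rfl⟩
  let F : Subgroup ↥D :=
    { carrier := {x | θ x = x}
      one_mem' := map_one θ
      mul_mem' := fun {a b} (ha : θ a = a) (hb : θ b = b) => show θ (a * b) = a * b by rw [map_mul, ha, hb]
      inv_mem' := fun {a} (ha : θ a = a) => show θ a⁻¹ = a⁻¹ by rw [map_inv, ha] }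
  have hPF : (P : Subgroup ↥D) ≤ F := by
    intro p hp
    set x : ↥D := θ p⁻¹ * p with hx
    have hxP : x ∈ (P : Subgroup ↥D) := mul_mem (hPθ _ (inv_mem hp)) hp
    have hxi : θ x = x⁻¹ := by
      rw [hx, map_mul, show θ (θ p⁻¹) = p⁻¹ from DFunLike.congr_fun hθ2 _, mul_inv_rev, map_inv, inv_inv]
    obtain ⟨j, hj⟩ := IsPGroup.iff_orderOf.1 P.isPGroup' ⟨x, hxP⟩
    rw [Subgroup.orderOf_mk, ← Subgroup.orderOf_coe] at hj
    have h3 := hthree (x : G) ((hmem _).1 x.2).1 (congrArg Subtype.val hxi)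
    rcases j with _ | j
    · rw [pow_zero, orderOf_eq_one_iff] at hj
      have h1 : x = 1 := Subtype.ext hj
      show θ p = p
      rw [hx, map_inv, inv_mul_eq_one] at h1
      exact h1
    · exact absurd (hj ▸ dvd_pow_self 3 (Nat.succ_ne_zero j)) h3
  have hidx : F.index ∣ 9625 := by
    have h1 : F.index ∣ Nat.card ↥D := F.index_dvd_card
    have hK : Nat.card ↥D ∣ 898128000 := by
      have h := Subgroup.card_dvd_of_le (show D ≤ f.range from inf_le_left)
      rwa [← Nat.card_congr (MonoidHom.ofInjective hf).toEquiv, card_K] at h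
    have h3 : ¬ 3 ∣ F.index := fun h => P.not_dvd_index (h.trans (Subgroup.index_dvd_of_le hPF))
    have h2 : ¬ 2 ∣ F.index := fun h => Nat.not_even_iff_odd.2 hDodd (even_iff_two_dvd.2 (h.trans h1))
    have hc : Nat.Coprime F.index (2 ^ 7 * 3 ^ 6) :=
      Nat.Coprime.mul_right (((Nat.prime_two.coprime_iff_not_dvd).2 h2).symm.pow_right 7)
        (((Nat.prime_three.coprime_iff_not_dvd).2 h3).symm.pow_right 6)
    exact hc.dvd_of_dvd_mul_right (n := 2 ^ 7 * 3 ^ 6) (by
      rw [show 9625 * (2 ^ 7 * 3 ^ 6) = 898128000 by norm_num]; exact h1.trans hK)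
  refine le_trans ?_ (Nat.le_of_dvd (by norm_num) hidx)
  rw [Subgroup.index_eq_card]
  have hval : ∀ (d : ↥D) (c : ↥F), (d * c) * (θ (d * c))⁻¹ = d * (θ d)⁻¹ := fun d c => by
    rw [map_mul, show θ c = c from c.2]; group
  let val : ↥D ⧸ F → G := fun q => ((q.out * (θ q.out)⁻¹ : ↥D) : G)
  refine le_trans (Nat.card_le_card_of_injective
    (fun x : {x : G // x ∈ f.range ∧ u * x * u = x⁻¹} => (⟨x.1, ?_⟩ : Set.range val))
    (fun a b e => Subtype.ext (congrArg (fun z : Set.range val => (z : G)) e)))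
    (Nat.card_le_card_of_surjective (Set.rangeFactorization val) Set.rangeFactorization_surjective)
  obtain ⟨x, hx, hinv⟩ := x
  obtain ⟨k, hk⟩ := hord x (hinD x hx hinv)
  set y : ↥D := ⟨x, hinD x hx hinv⟩ ^ (k + 1) with hy
  refine ⟨QuotientGroup.mk y, ?_⟩
  obtain ⟨c, hc⟩ := QuotientGroup.mk_out_eq_mul F y
  show (((QuotientGroup.mk y : ↥D ⧸ F).out * (θ (QuotientGroup.mk y : ↥D ⧸ F).out)⁻¹ : ↥D) : G) = x
  rw [hc, hval, hy, map_pow, ← inv_pow, show (θ ⟨x, hinD x hx hinv⟩)⁻¹ = ⟨x, hinD x hx hinv⟩ from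
    inv_eq_iff_eq_inv.2 (Subtype.ext hinv), ← pow_add, Subgroup.coe_pow,
    show k + 1 + (k + 1) = orderOf x + 1 by omega, pow_succ, pow_orderOf_eq_one, one_mul]

end

/-- **The McLaughlin group**: the fused case. -/
theorem fused_case (hF : Fused E) : Nonempty (G ≃* Cfsg.Spor.McL) := by
  classical
  obtain ⟨f, hf, hφ⟩ := exists_model E hF
  suffices hX : f.range = ⊤ by
    exact ⟨(MulEquiv.ofBijective f ⟨hf, MonoidHom.range_eq_top.1 hX⟩).symm.trans Local.FS.McLSmall.mclEquiv.symm⟩
  by_contra hne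
  set X := f.range with hXdef
  haveI := Fintype.ofFinite G
  haveI := Fintype.ofFinite (G ⧸ X)
  have hiK : Nat.card {k : ↥K // k * k = 1 ∧ k ≠ 1} = 22275 := by
    rw [card_invol tz tz_sq tz_ne fun y hy hy1 => conj_tz y (orderOf_eq_prime (p := 2) (by rw [pow_two]; exact hy) hy1)]
    have h := (Cz).card_mul_index
    rw [card_Cz, card_K] at h
    change (Cz).index = 22275
    omega
  have hiG : Nat.card {y : G // y * y = 1 ∧ y ≠ 1} = X.index * 22275 := by
    rw [card_invol E.t E.t_sq E.t_ne fun y hy hy1 => one_class E hF hy hy1]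
    have h1 : Nat.card ↥(Subgroup.centralizer ({E.t} : Set G)) = 40320 := by
      rw [← E.range, ← Nat.card_congr (MonoidHom.ofInjective E.inj).toEquiv, card_Cz]
    have h2 := (Subgroup.centralizer ({E.t} : Set G)).card_mul_index
    have h3 := X.card_mul_index
    rw [h1] at h2
    rw [hXdef, ← Nat.card_congr (MonoidHom.ofInjective hf).toEquiv, card_K] at h3
    rw [← hXdef] at h3
    omega
  haveI := Fintype.ofFinite {y : G // y * y = 1 ∧ y ≠ 1}
  set q : {y : G // y * y = 1 ∧ y ≠ 1} → G ⧸ X := fun y => QuotientGroup.mk y.1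
  have hsum := Finset.card_eq_sum_card_fiberwise (f := q) (s := Finset.univ) (t := Finset.univ)
    fun _ _ => Finset.mem_univ _
  have hfib : ∀ c : G ⧸ X, c ≠ QuotientGroup.mk 1 →
      (Finset.univ.filter fun y => q y = c).card ≤ 9625 := by
    intro c hc
    rcases (Finset.univ.filter fun y => q y = c).eq_empty_or_nonempty with h | ⟨u, hu⟩
    · rw [h]; simp
    · simp only [Finset.mem_filter, Finset.mem_univ, true_and] at hu
      have huX : u.1 ∉ X := fun h => hc (hu ▸ (QuotientGroup.eq.2 (by simpa using inv_mem h)))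
      refine le_trans (le_of_eq ?_) (le_trans (Nat.card_le_card_of_injective
        (α := {y : {y : G // y * y = 1 ∧ y ≠ 1} // q y = c})
        (fun v => (⟨u.1 * v.1.1, ?_, ?_⟩ : {x : G // x ∈ f.range ∧ u.1 * x * u.1 = x⁻¹}))
        fun a b e => Subtype.ext (Subtype.ext (mul_left_cancel (congrArg Subtype.val e))))
        (card_inverted f hf hφ u.2.1 u.2.2 huX))
      · rw [Nat.card_eq_fintype_card, Fintype.card_subtype]
      · have h := QuotientGroup.eq.1 (hu.trans v.2.symm)
        rwa [inv_eq_of_mul_eq_one_right u.2.1] at h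
      · rw [mul_inv_rev, inv_eq_of_mul_eq_one_right u.2.1, inv_eq_of_mul_eq_one_right v.1.2.1,
          ← mul_assoc u.1 u.1, u.2.1, one_mul]
  have hone : (Finset.univ.filter fun y => q y = QuotientGroup.mk 1).card ≤ 22275 := by
    rw [← hiK, ← Fintype.card_subtype, ← Nat.card_eq_fintype_card]
    refine Nat.card_le_card_of_surjective
      (fun k : {k : ↥K // k * k = 1 ∧ k ≠ 1} => (⟨⟨f k.1, ?_, ?_⟩, ?_⟩ : {y // q y = QuotientGroup.mk 1})) ?_
    · rw [← map_mul, k.2.1, map_one]
    · exact fun e => k.2.2 (hf (e.trans (map_one f).symm))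
    · exact QuotientGroup.eq.2 (by simp [hXdef])
    · rintro ⟨⟨y, hy, hy1⟩, h⟩
      have hyX : y ∈ X := by simpa using QuotientGroup.eq.1 h
      obtain ⟨k, rfl⟩ := hyX
      exact ⟨⟨k, hf (by rw [map_mul, hy, map_one]), fun e => hy1 (by rw [e, map_one])⟩, rfl⟩
  rw [Finset.card_univ, ← Nat.card_eq_fintype_card, hiG,
    ← Finset.add_sum_erase _ _ (Finset.mem_univ (QuotientGroup.mk 1 : G ⧸ X))] at hsum
  have hrest := Finset.sum_le_card_nsmul ((Finset.univ : Finset (G ⧸ X)).erase (QuotientGroup.mk 1))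
    (fun c => (Finset.univ.filter fun y => q y = c).card) 9625 fun c hc => hfib c (Finset.ne_of_mem_erase hc)
  rw [Finset.card_erase_of_mem (Finset.mem_univ _), Finset.card_univ, ← Nat.card_eq_fintype_card,
    ← Subgroup.index_eq_card, smul_eq_mul] at hrest
  have h2 : 2 ≤ X.index := by
    have h1 : X.index ≠ 1 := fun h => hne (Subgroup.index_eq_one.1 h)
    have h0 : X.index ≠ 0 := Subgroup.index_ne_zero_of_finite
    omega
  omega

end Cfsg.Agent.Spor.MclCent
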