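import Cfsg.Agent.Lib.Spor.MclCent.Split

/-!
The complement in the normalizer of a group of order 16 and the relations it satisfies.
-/

set_option autoImplicit false
set_option maxRecDepth 100000
set_option linter.style.haveILetI false
set_option linter.unusedSectionVars false
set_option maxHeartbeats 1000000

namespace Cfsg.Agent.Spor.MclCent

open DCoset
open Local.FS.McLSmall (K idC)
open Local.FS.McLSmall.Cent (Cz tC tz)

attribute [local irreducible] vA xA mu idC mclCert sLit tLit cdK Nat.beq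

variable {D : Side} {G : Type*} [Group G] [Finite G]

/-- the action of a member of the group on the group of order 16 given by an array -/
def ActsAs (D : Side) (E : Emb G) (g : G) (p : List ℕ) : Prop :=
  ∀ i < 16, g * E.φ (vA D i) = E.φ (vA D (Side.ap p i)) * g ∧ Side.ap p i < 16

theorem ap_cmp (p q : List ℕ) {i : ℕ} (hi : i < q.length) :
    Side.ap (Side.cmp p q) i = Side.ap p (Side.ap q i) := by
  simp only [Side.ap, Side.cmp]
  rw [List.getD_eq_getElem _ _ (by simpa using hi), List.getElem_map, List.getD_eq_getElem _ _ hi]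

theorem cmp_len (p q : List ℕ) : (Side.cmp p q).length = q.length := by simp [Side.cmp]

theorem idA_ap {i : ℕ} (hi : i < 16) : Side.ap Side.idA i = i := by
  rw [Side.ap, Side.idA, List.getD_eq_getElem _ _ (by simpa using hi), List.getElem_range]

theorem ActsAs.mul {E : Emb G} {g g' : G} {p q : List ℕ} (hg : ActsAs D E g p) (hg' : ActsAs D E g' q)
    (hq : q.length = 16) : ActsAs D E (g * g') (Side.cmp p q) := fun i hi => by
  obtain ⟨e1, l1⟩ := hg' i hi
  obtain ⟨e2, l2⟩ := hg _ l1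
  rw [ap_cmp p q (hq.symm ▸ hi)]
  exact ⟨by rw [mul_assoc, e1, ← mul_assoc, e2, mul_assoc], l2⟩

theorem ActsAs.one (E : Emb G) : ActsAs D E 1 Side.idA := fun i hi => by
  rw [idA_ap hi]; exact ⟨by simp, hi⟩

section
variable (h : D.OK mu mclCert tLit) (E : Emb G)
include h

theorem acts_x {k : ℕ} (hk : k < 2) : ActsAs D E (E.φ (xA D k)) (D.pg k) := fun i hi => by
  obtain ⟨h1, -, -, h4⟩ := (comp_facts h).1 k hk i hi
  exact ⟨by rw [← map_mul, ← map_mul, h4], h1⟩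

theorem acts_v {j : ℕ} (hj : j < 16) : ActsAs D E (E.φ (vA D j)) Side.idA := fun i hi => by
  rw [idA_ap hi]
  exact ⟨by rw [← map_mul, ← map_mul, vA_comm h hj hi], hi⟩

/-- passing an element of the complement to the left of an element of the group -/
theorem v_past {k : ℕ} (hk : k < 2) {m : ℕ} (hm : m < 16) :
    vA D m * xA D k = xA D k * vA D (Side.ap (D.qg k) m) := by
  obtain ⟨-, h2, h3, h4⟩ := (comp_facts h).1 k hk m hm
  obtain ⟨-, -, -, h5⟩ := (comp_facts h).1 k hk _ h2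
  rw [h5, h3]

theorem fold_step {k : G} {m : ℕ} {A : List ℕ} (hA : A.length = 16) (hm : m < 16) {Kc : Subgroup G}
    (hk : k ∈ Kc) (hx : ∀ i < 2, E.φ (xA D i) ∈ Kc) (hact : ActsAs D E k A) :
    ∀ (l : List ℕ), (∀ g ∈ l, g < 2) → ∃ k' ∈ Kc,
      k * E.φ (vA D m) * E.φ (lA D l) =
        k' * E.φ (vA D (l.foldl (fun s g => (Side.ap (D.qg g) s.1, Side.cmp s.2 (D.pg g))) (m, A)).1) ∧
      ActsAs D E k' (l.foldl (fun s g => (Side.ap (D.qg g) s.1, Side.cmp s.2 (D.pg g))) (m, A)).2 ∧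
      (l.foldl (fun s g => (Side.ap (D.qg g) s.1, Side.cmp s.2 (D.pg g))) (m, A)).2.length = 16 ∧
      (l.foldl (fun s g => (Side.ap (D.qg g) s.1, Side.cmp s.2 (D.pg g))) (m, A)).1 < 16 := by
  intro l
  induction l using List.reverseRecOn with
  | nil => exact fun _ => ⟨k, hk, by simp [lA], hact, hA, hm⟩
  | append_singleton l g ih =>
    intro hl
    obtain ⟨k', hk', he, hact', hlen', hm'⟩ := ih fun x hx => hl x (List.mem_append_left _ hx)
    have hg : g < 2 := hl g (List.mem_append_right _ (List.mem_singleton_self g))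
    set st := l.foldl (fun s g => (Side.ap (D.qg g) s.1, Side.cmp s.2 (D.pg g))) (m, A)
    refine ⟨k' * E.φ (xA D g), mul_mem hk' (hx g hg), ?_, ?_, ?_, ?_⟩ <;> rw [List.foldl_append, List.foldl_cons, List.foldl_nil]
    · have e : lA D (l ++ [g]) = lA D l * xA D g := by rw [lA, lA, List.foldl_append]; rfl
      rw [e, map_mul, ← mul_assoc, he, mul_assoc, ← map_mul, v_past h hg hm', map_mul, ← mul_assoc]
    · exact hact'.mul (acts_x h E hg) ((comp_facts h).2.1 g hg)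
    · rw [cmp_len]; exact (comp_facts h).2.1 g hg
    · exact ((comp_facts h).1 g hg _ hm').2.1

theorem machine_sound {Kc : Subgroup G} {σ : G} (hσ : σ ∈ Kc) (hx : ∀ i < 2, E.φ (xA D i) ∈ Kc)
    (hact : ActsAs D E σ D.beta) (hsq : σ * σ = 1) (hfree : ∀ i < 16, E.φ (vA D i) ∈ Kc → i = 0)
    (hselfG : ∀ g : G, ActsAs D E g Side.idA → ∃ i < 16, g = E.φ (vA D i)) {w : ℕ} (hw : w < 16)
    {segs : List (List ℕ × ℕ)} (hs : ∀ sg ∈ segs, (∀ g ∈ sg.1, g < 2) ∧ sg.2 < 16)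
    (hm : D.machine w segs = true) :
    (segs.map fun sg => E.φ (segA D sg) * (σ * E.φ (vA D w))).prod = 1 := by
  obtain ⟨-, h0, -, -, hmt⟩ := v_facts h
  obtain ⟨-, -, hblen, hbeta, -⟩ := comp_facts h
  have main : ∀ (segs : List (List ℕ × ℕ)), (∀ sg ∈ segs, (∀ g ∈ sg.1, g < 2) ∧ sg.2 < 16) →
      ∀ (k : G) (m : ℕ) (A : List ℕ), k ∈ Kc → ActsAs D E k A → A.length = 16 → m < 16 →
      ∃ k' ∈ Kc, k * E.φ (vA D m) * (segs.map fun sg => E.φ (segA D sg) * (σ * E.φ (vA D w))).prod =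
          k' * E.φ (vA D (segs.foldl (D.stepSeg w) (m, A)).1) ∧
        ActsAs D E k' (segs.foldl (D.stepSeg w) (m, A)).2 ∧ (segs.foldl (D.stepSeg w) (m, A)).1 < 16 := by
    intro segs
    induction segs with
    | nil => exact fun _ k m A hk ha hA hm => ⟨k, hk, by simp, ha, hm⟩
    | cons sg segs ih =>
      intro hs k m A hk ha hA hm
      obtain ⟨hsl, hsv⟩ := hs sg List.mem_cons_self
      obtain ⟨k1, hk1, he1, ha1, hA1, hm1⟩ := fold_step h E hA hm hk hx ha sg.1 hsl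
      set st := sg.1.foldl (fun s g => (Side.ap (D.qg g) s.1, Side.cmp s.2 (D.pg g))) (m, A)
      obtain ⟨hm2, e2, -⟩ := hmt st.1 hm1 sg.2 hsv
      obtain ⟨hm3, hb⟩ := hbeta _ hm2
      obtain ⟨hm4, e4, -⟩ := hmt _ hm3 w hw
      have hpush : E.φ (vA D (D.mt st.1 sg.2)) * σ = σ * E.φ (vA D (Side.ap D.beta (D.mt st.1 sg.2))) := by
        obtain ⟨e, -⟩ := hact _ hm3
        rw [hb] at e
        exact e.symm
      have hstep : k * E.φ (vA D m) * (E.φ (segA D sg) * (σ * E.φ (vA D w))) =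
          k1 * σ * E.φ (vA D (D.mt (Side.ap D.beta (D.mt st.1 sg.2)) w)) := by
        rw [segA, map_mul, ← e4, map_mul]
        calc k * E.φ (vA D m) * (E.φ (lA D sg.1) * E.φ (vA D sg.2) * (σ * E.φ (vA D w)))
            = (k * E.φ (vA D m) * E.φ (lA D sg.1)) * E.φ (vA D sg.2) * σ * E.φ (vA D w) := by group
          _ = k1 * (E.φ (vA D st.1) * E.φ (vA D sg.2) * σ) * E.φ (vA D w) := by rw [he1]; group
          _ = _ := by rw [← map_mul, e2, hpush]; group
      obtain ⟨k', hk', he', ha', hm'⟩ := ih (fun v hv => hs v (List.mem_cons_of_mem _ hv)) (k1 * σ) _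
        (Side.cmp st.2 D.beta) (mul_mem hk1 hσ) (ha1.mul hact hblen) (by rw [cmp_len]; exact hblen) hm4
      refine ⟨k', hk', ?_, ?_, ?_⟩
      · rw [List.map_cons, List.prod_cons, ← mul_assoc (k * E.φ (vA D m)), hstep]
        exact he'
      · exact ha'
      · exact hm'
  obtain ⟨k, hk, he, ha, -⟩ := main segs hs 1 0 Side.idA (one_mem _) (ActsAs.one E) (by simp [Side.idA]) (by norm_num)
  simp only [Side.machine, Bool.and_eq_true, Nat.beq_eq, beq_iff_eq] at hm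
  rw [hm.1, h0, map_one, mul_one, mul_one, one_mul] at he
  rw [hm.2] at ha
  obtain ⟨i, hi, rfl⟩ := hselfG k ha
  rw [he, hfree i hi hk, h0, map_one]

/-- the splitting of an element acting as given -/
theorem split {g : G} (hg : ActsAs D E g D.beta) :
    ∃ σ : G, σ * σ = 1 ∧ ActsAs D E σ D.beta ∧ (∃ w < 16, g = σ * E.φ (vA D w)) ∧
      ∀ segs : List (List ℕ × ℕ), (∀ sg ∈ segs, (∀ g ∈ sg.1, g < 2) ∧ sg.2 < 16) → ∀ w < 16,
        D.machine w segs = true → (segs.map fun sg => E.φ (segA D sg) * (σ * E.φ (vA D w))).prod = 1 := by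
  classical
  obtain ⟨hc, h0, h1, hinj, hmt⟩ := v_facts h
  obtain ⟨hcf, hplen, hblen, hbeta, hxx, hyy, h7, hpairs⟩ := comp_facts h
  set VG : Subgroup G := (vSub h).map E.φ with hVG
  have hvmem : ∀ i < 16, E.φ (vA D i) ∈ VG := fun i hi => ⟨vA D i, ⟨i, hi, rfl⟩, rfl⟩
  set N : Subgroup G := Subgroup.normalizer (VG : Set G) with hN
  have hnorm : ∀ {g : G} {p : List ℕ}, ActsAs D E g p → g ∈ N := by
    intro g p hp
    refine Subgroup.mem_normalizer_fintype ?_
    rintro _ ⟨_, ⟨i, hi, rfl⟩, rfl⟩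
    obtain ⟨e, hl⟩ := hp i hi
    show g * E.φ (vA D i) * g⁻¹ ∈ VG
    rw [e, mul_inv_cancel_right]
    exact hvmem _ hl
  have hselfG : ∀ g : G, ActsAs D E g Side.idA → ∃ i < 16, g = E.φ (vA D i) := by
    intro g hgi
    obtain ⟨e, -⟩ := hgi 1 (by norm_num)
    rw [idA_ap (by norm_num), h1, E.map_t] at e
    obtain ⟨a, rfl⟩ := E.mem_range e
    obtain ⟨i, hi, ha⟩ := self_cent h (a := a) fun i hi => E.inj (by
      obtain ⟨e, -⟩ := hgi i hi
      rw [idA_ap hi] at e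
      rw [map_mul, map_mul]; exact e)
    exact ⟨i, hi, by rw [ha]⟩
  -- the complement
  let Z : Subgroup ↥N := VG.subgroupOf N
  haveI hZn : Z.Normal := Subgroup.normal_in_normalizer
  have hVN : VG ≤ N := Subgroup.le_normalizer
  have hLN : (lSub D).map E.φ ≤ N := by
    rw [Subgroup.map_le_iff_le_comap, lSub, Subgroup.closure_le]
    rintro _ ⟨k, hk, rfl⟩
    exact hnorm (acts_x h E hk)
  let T : Subgroup ↥N := ((lSub D).map E.φ).subgroupOf N
  obtain ⟨hLcard, hLV⟩ := tree_spec h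
  have hfreeT : Z ⊓ T = ⊥ := by
    rw [eq_bot_iff]
    rintro ⟨x, hx⟩ ⟨hz, hT⟩
    obtain ⟨a, ha, rfl⟩ := Subgroup.mem_subgroupOf.1 hz
    obtain ⟨b, hb, hba⟩ := Subgroup.mem_subgroupOf.1 hT
    obtain rfl := E.inj hba
    have : b ∈ lSub D ⊓ vSub h := ⟨hb, ha⟩
    rw [hLV, Subgroup.mem_bot] at this
    subst this
    exact Subgroup.mem_bot.2 (Subtype.ext (map_one E.φ))
  have hZcard : Nat.card ↥Z = 16 := by
    rw [Nat.card_congr (Subgroup.subgroupOfEquivOfLe hVN).toEquiv, Subgroup.card_map_of_injective E.inj, card_vSub h]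
  have hTcard : Nat.card ↥T = 168 := by
    rw [Nat.card_congr (Subgroup.subgroupOfEquivOfLe hLN).toEquiv, Subgroup.card_map_of_injective E.inj, hLcard]
  have hsupcard : Nat.card ↥(Z ⊔ T) = 2688 := by
    have h3 := Subgroup.card_mul_index (Z.subgroupOf (Z ⊔ T))
    rw [Nat.card_congr (Subgroup.subgroupOfEquivOfLe (le_sup_left : Z ≤ Z ⊔ T)).toEquiv, hZcard] at h3
    have h4 : (Z.subgroupOf (Z ⊔ T)).index = 168 := by
      show Z.relIndex (Z ⊔ T) = 168
      rw [sup_comm, Subgroup.relIndex_sup_right, ← Subgroup.inf_relIndex_right, hfreeT, Subgroup.relIndex_bot_left, hTcard]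
    rw [h4] at h3
    exact h3.symm
  have hcop : (Nat.card ↥Z).Coprime (Z ⊔ T).index := by
    rw [hZcard, show (16 : ℕ) = 2 ^ 4 by norm_num, Nat.coprime_pow_left_iff (by norm_num),
      Nat.Prime.coprime_iff_not_dvd Nat.prime_two]
    intro h2
    refine E.not_dvd ?_
    have h3 := (Z ⊔ T).card_mul_index
    rw [hsupcard] at h3
    obtain ⟨j, hj⟩ := h2
    refine (Dvd.intro (21 * j) ?_).trans (Subgroup.card_subgroup_dvd_card N)
    rw [← h3, hj]; ring
  have habel : ∀ a ∈ Z, ∀ b ∈ Z, a * b = b * a := by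
    intro a ha b hb
    obtain ⟨x, ⟨i, hi, rfl⟩, hxa⟩ := Subgroup.mem_subgroupOf.1 ha
    obtain ⟨y, ⟨j, hj, rfl⟩, hyb⟩ := Subgroup.mem_subgroupOf.1 hb
    exact Subtype.ext (by rw [Subgroup.coe_mul, Subgroup.coe_mul, ← hxa, ← hyb, ← map_mul, ← map_mul, vA_comm h hi hj])
  obtain ⟨K₀, hK₀Z, hK₀top⟩ := M23Coh.gaschuetz Z T habel hfreeT hcop
  let K₁ : Subgroup G := K₀.map N.subtype
  have hK₁V : ∀ i < 16, E.φ (vA D i) ∈ K₁ → i = 0 := by
    rintro i hi ⟨x, hx, hxe⟩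
    have hz : x ∈ Z := Subgroup.mem_subgroupOf.2 (show (x : G) ∈ VG by
      rw [show (x : G) = E.φ (vA D i) from hxe]; exact hvmem i hi)
    have : x ∈ K₀ ⊓ Z := ⟨hx, hz⟩
    rw [hK₀Z, Subgroup.mem_bot] at this
    subst this
    refine hinj i hi 0 (by norm_num) (E.inj ?_)
    rw [h0, map_one]; exact hxe.symm
  have hdec : ∀ y ∈ N, ∃ k ∈ K₁, ∃ i < 16, y = k * E.φ (vA D i) := by
    intro y hy
    have hy' : (⟨y, hy⟩ : ↥N) ∈ K₀ ⊔ Z := by rw [hK₀top]; trivial
    obtain ⟨k, hk, z, hz, hkz⟩ := Subgroup.mem_sup_of_normal_right.1 hy'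
    obtain ⟨a, ⟨i, hi, rfl⟩, haz⟩ := Subgroup.mem_subgroupOf.1 hz
    exact ⟨k, ⟨k, hk, rfl⟩, i, hi, by rw [haz]; exact (congrArg Subtype.val hkz).symm⟩
  have hinvmem : ∀ i < 16, ∃ j < 16, (vA D i)⁻¹ = vA D j := fun i hi => by
    obtain ⟨j, hj, e⟩ := (vSub h).inv_mem (show vA D i ∈ vSub h from ⟨i, hi, rfl⟩)
    exact ⟨j, hj, e.symm⟩
  -- lifts of the generators
  have hlift : ∀ k < 2, ∃ i < 16, E.φ (xA D k * vA D i) ∈ K₁ := by
    intro k hk
    obtain ⟨κ, hκ, i, hi, e⟩ := hdec _ (hnorm (acts_x h E hk))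
    obtain ⟨j, hj, hij⟩ := hinvmem i hi
    refine ⟨j, hj, ?_⟩
    rw [map_mul, ← hij, map_inv, e, mul_inv_cancel_right]
    exact hκ
  obtain ⟨i, hi, hxK⟩ := hlift 0 (by norm_num)
  obtain ⟨j, hj, hyK⟩ := hlift 1 (by norm_num)
  let q : ↥N →* ↥N ⧸ Z := QuotientGroup.mk' Z
  have hmq : ∀ a : ↥Cz, a ∈ (lSub D ⊔ vSub h) → E.φ a ∈ N := fun a ha => by
    have : E.φ a ∈ (lSub D ⊔ vSub h).map E.φ := ⟨a, ha, rfl⟩
    rw [Subgroup.map_sup] at this
    exact (sup_le hLN hVN) this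
  have hxm : ∀ k < 2, xA D k ∈ lSub D := fun k hk => Subgroup.subset_closure ⟨k, hk, rfl⟩
  -- products in the complement of lifts of relators are trivial
  let xx := xA D 0 * vA D i
  let yy := xA D 1 * vA D j
  have key : ∀ l : List ℕ, lA D l = 1 →
      l.foldl (fun r k => r * (bif Nat.beq k 0 then xx else yy)) 1 = 1 ∨ ∃ g ∈ l, 2 ≤ g := by
    intro l hl
    by_cases hb : ∃ g ∈ l, 2 ≤ g
    · exact Or.inr hb
    left
    push Not at hb
    have hgen : ∀ (l : List ℕ), (∀ g ∈ l, g < 2) → ∀ (r r' : ↥Cz), E.φ r ∈ K₁ → r'⁻¹ * r ∈ vSub h →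
        r' ∈ lSub D →
        E.φ (l.foldl (fun r k => r * (bif Nat.beq k 0 then xx else yy)) r) ∈ K₁ ∧
          (l.foldl (fun r k => r * xA D k) r')⁻¹ * (l.foldl (fun r k => r * (bif Nat.beq k 0 then xx else yy)) r) ∈ vSub h := by
      intro l
      induction l with
      | nil => exact fun _ r r' h1 h2 _ => ⟨h1, h2⟩
      | cons g l ih =>
        intro hl r r' h1 h2 h3
        rw [List.foldl_cons, List.foldl_cons]
        have hg : g < 2 := hl g List.mem_cons_self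
        obtain ⟨m, hm, em⟩ := h2
        have hr : r = r' * vA D m := by rw [em, mul_inv_cancel_left]
        refine ih (fun v hv => hl v (List.mem_cons_of_mem _ hv)) _ _ ?_ ?_ (mul_mem h3 (hxm g hg))
        · rw [map_mul]
          refine mul_mem h1 ?_
          interval_cases g
          · rw [Nat.beq_refl, cond_true]; exact hxK
          · rw [show Nat.beq 1 0 = false from Bool.eq_false_iff.2 fun e => by simpa using Nat.eq_of_beq_eq_true e,
              cond_false]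
            exact hyK
        · rw [hr]
          have hp := v_past h hg hm
          obtain ⟨-, hql, -⟩ := hcf g hg m hm
          interval_cases g
          · rw [Nat.beq_refl, cond_true, show (r' * xA D 0)⁻¹ * (r' * vA D m * (xA D 0 * vA D i)) =
              (xA D 0)⁻¹ * (vA D m * xA D 0) * vA D i by group, hp, inv_mul_cancel_left]
            exact mul_mem ⟨_, hql, rfl⟩ ⟨i, hi, rfl⟩
          · rw [show Nat.beq 1 0 = false from Bool.eq_false_iff.2 fun e => by simpa using Nat.eq_of_beq_eq_true e,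
              cond_false, show (r' * xA D 1)⁻¹ * (r' * vA D m * (xA D 1 * vA D j)) =
              (xA D 1)⁻¹ * (vA D m * xA D 1) * vA D j by group, hp, inv_mul_cancel_left]
            exact mul_mem ⟨_, hql, rfl⟩ ⟨j, hj, rfl⟩
    obtain ⟨hK, hV⟩ := hgen l hb 1 1 (by rw [map_one]; exact one_mem _) (by simp) (one_mem _)
    rw [show l.foldl (fun r k => r * xA D k) 1 = lA D l from rfl, hl, inv_one, one_mul] at hV
    obtain ⟨m, hm, em⟩ := hV
    rw [← em] at hK
    rw [← em, hK₁V m hm hK, h0]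
  have hx2 : xx * xx = 1 := by
    rcases key [0, 0] (by show (1 * xA D 0) * xA D 0 = 1; rw [one_mul, hxx]) with e | ⟨g, hg, hg2⟩
    · simpa [Nat.beq_refl] using e
    · simp at hg; omega
  have hb10 : Nat.beq 1 0 = false := Bool.eq_false_iff.2 fun e => by simpa using Nat.eq_of_beq_eq_true e
  have hy3 : yy * yy * yy = 1 := by
    rcases key [1, 1, 1] (by show (1 * xA D 1) * xA D 1 * xA D 1 = 1; rw [one_mul, hyy]) with e | ⟨g, hg, hg2⟩
    · simpa [hb10] using e
    · simp at hg; omega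
  have h77 := (key _ h7).resolve_right (by simp)
  obtain ⟨w, hw, hwx, hwy⟩ := hpairs i hi j hj hx2 hy3 h77
  let K₂ : Subgroup G := K₁.map (MulAut.conj (E.φ (vA D w))⁻¹).toMonoidHom
  have hxK₂ : ∀ k < 2, E.φ (xA D k) ∈ K₂ := by
    intro k hk
    interval_cases k
    · refine ⟨_, hxK, ?_⟩
      show (E.φ (vA D w))⁻¹ * E.φ (xA D 0 * vA D i) * (E.φ (vA D w))⁻¹⁻¹ = _
      rw [inv_inv, mul_assoc, ← map_mul, hwx, map_mul, inv_mul_cancel_left]
    · refine ⟨_, hyK, ?_⟩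
      show (E.φ (vA D w))⁻¹ * E.φ (xA D 1 * vA D j) * (E.φ (vA D w))⁻¹⁻¹ = _
      rw [inv_inv, mul_assoc, ← map_mul, hwy, map_mul, inv_mul_cancel_left]
  have hK₂V : ∀ m < 16, E.φ (vA D m) ∈ K₂ → m = 0 := by
    rintro m hm ⟨x, hx, hxe⟩
    refine hK₁V m hm ?_
    have e : x = E.φ (vA D w) * E.φ (vA D m) * (E.φ (vA D w))⁻¹ := by
      rw [← hxe]
      show x = E.φ (vA D w) * ((E.φ (vA D w))⁻¹ * x * (E.φ (vA D w))⁻¹⁻¹) * (E.φ (vA D w))⁻¹
      group
    rw [← map_mul, vA_comm h hw hm, map_mul, mul_inv_cancel_right] at e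
    exact e ▸ hx
  -- the involution
  obtain ⟨κ, hκ, m, hm, ge⟩ := hdec (E.φ (vA D w) * g * (E.φ (vA D w))⁻¹)
    (mul_mem (mul_mem (hVN (hvmem w hw)) (hnorm hg)) (inv_mem (hVN (hvmem w hw))))
  let σ := (E.φ (vA D w))⁻¹ * κ * E.φ (vA D w)
  have hσ : σ ∈ K₂ := ⟨κ, hκ, by show (E.φ (vA D w))⁻¹ * κ * (E.φ (vA D w))⁻¹⁻¹ = σ; rw [inv_inv]⟩
  have hgσ : g = σ * E.φ (vA D m) := by
    have e : g = (E.φ (vA D w))⁻¹ * (κ * E.φ (vA D m)) * E.φ (vA D w) := by rw [← ge]; group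
    rw [e]
    show _ = (E.φ (vA D w))⁻¹ * κ * E.φ (vA D w) * E.φ (vA D m)
    rw [mul_assoc _ (E.φ (vA D w)), ← map_mul, vA_comm h hw hm, map_mul]
    group
  have hσact : ActsAs D E σ D.beta := fun k hk => by
    obtain ⟨e, hl⟩ := hg k hk
    refine ⟨?_, hl⟩
    rw [hgσ, mul_assoc, ← map_mul, vA_comm h hm hk, map_mul, ← mul_assoc, ← mul_assoc] at e
    exact mul_right_cancel e
  have hσ2 : σ * σ = 1 := by
    obtain ⟨k, hk, e⟩ := hselfG (σ * σ) fun k hk => by
      rw [idA_ap hk]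
      obtain ⟨e1, -⟩ := hσact k hk
      obtain ⟨e2, -⟩ := hσact _ (hbeta k hk).1
      rw [(hbeta k hk).2] at e2
      exact ⟨by rw [mul_assoc, e1, ← mul_assoc, e2, mul_assoc], hk⟩
    have := hK₂V k hk (e ▸ mul_mem hσ hσ)
    rw [e, this, h0, map_one]
  exact ⟨σ, hσ2, hσact, ⟨m, hm, hgσ⟩, fun segs hs w' hw' hmach =>
    machine_sound h E hσ hxK₂ hσact hσ2 hK₂V hselfG hw' hs hmach⟩

end

end Cfsg.Agent.Spor.MclCent
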