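import Cfsg.Agent.Lib.Spor.MclCent.Classes
import Cfsg.Agent.Lib.Spor.MclCent.SplitMain

/-!
An element interchanging the involutions of the four group normalizes the group of order 16, and a suitable one acts
on it as in the McLaughlin group.
-/

set_option autoImplicit false
set_option maxRecDepth 100000
set_option maxHeartbeats 1000000
set_option linter.style.haveILetI false
set_option linter.unusedSectionVars false

namespace Cfsg.Agent.Spor.MclCent

open DCoset
open Local.FS.McLSmall (K idC)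
open Local.FS.McLSmall.Cent (Cz tC tz)

/-- small facts about the tables -/
def tableOK : Bool :=
  ((List.range 16).all fun k =>
    Nat.beq ([(1, 1), (2, 2), (4, 4), (8, 8)].foldl
      (fun r p => bif Nat.beq (Nat.land k p.1) 0 then r else sideV.mt r p.2) 0) k) &&
  sideV.px != [] && pZero.elem Side.idA && (pZero.all fun a => (List.range 2).all fun k => pZero.elem (Side.cmp a (sideV.pg k))) &&
  Nat.beq caseL.length 256

theorem table_ok : tableOK = true := by decide +kernel

attribute [local irreducible] vA xA mu idC mclCert sLit tLit cdK Nat.beq pZero caseL wPrime invD eWord dActs vPoints sideV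

variable {G : Type*} [Group G] [Finite G]

theorem link_facts : sideV.vs.getD 2 0 = evC mclCert.u ∧ Side.ap sideV.beta 1 = 2 ∧ Side.ap sideV.beta 2 = 1 := by
  have hl := linkV_ok
  simp only [linkV, Bool.and_eq_true, Nat.beq_eq] at hl
  obtain ⟨⟨⟨-, h2⟩, h12⟩, -⟩ := hl
  refine ⟨h2, h12, ?_⟩
  obtain ⟨-, -, -, hb, -⟩ := comp_facts sideV_ok
  have := (hb 1 (by norm_num)).2
  rwa [h12] at this

theorem vA_two : vA sideV 2 = uA :=
  eqA (by rw [(v_facts sideV_ok).1 2 (by norm_num), link_facts.1, uA, cdA_wA])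

/-- the actions on the group of order 16 inside its normalizer -/
theorem act_norm {a : ↥Cz} (ha : ∀ i < 16, ∃ j < 16, a * vA sideV i = vA sideV j * a) :
    ∃ l : List ℕ, (∀ g ∈ l, g < 2) ∧ ∀ i < 16, a * vA sideV i = vA sideV (Side.ap (segAct sideV l) i) * a := by
  have h := norm_ok
  simp only [normOK, Bool.and_eq_true, List.all_eq_true, List.mem_range, Bool.or_eq_true, Bool.not_eq_eq_eq_not,
    Bool.not_true, Nat.beq_eq, Nat.blt_eq, List.elem_iff, List.mem_map] at h
  obtain ⟨⟨⟨hpts, hvp⟩, hlen⟩, hd⟩ := h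
  obtain ⟨hc, h0, h1, hinj, hmt⟩ := v_facts sideV_ok
  obtain ⟨hcf, hplen, -⟩ := comp_facts sideV_ok
  have hsa : ∀ (l : List ℕ), (∀ g ∈ l, g < 2) → (segAct sideV l).length = 16 ∧
      ∀ i < 16, lA sideV l * vA sideV i = vA sideV (Side.ap (segAct sideV l) i) * lA sideV l ∧
        Side.ap (segAct sideV l) i < 16 := by
    intro l
    induction l using List.reverseRecOn with
    | nil =>
      intro _
      refine ⟨by simp [segAct, Side.idA], fun i hi => ?_⟩
      show (1 : ↥Cz) * _ = vA sideV (Side.ap Side.idA i) * 1 ∧ Side.ap Side.idA i < 16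
      rw [idA_ap hi]; exact ⟨by simp, hi⟩
    | append_singleton l g ih =>
      intro hl
      obtain ⟨hlen', ih⟩ := ih fun x hx => hl x (List.mem_append_left _ hx)
      have hg : g < 2 := hl g (List.mem_append_right _ (List.mem_singleton_self g))
      have e : segAct sideV (l ++ [g]) = Side.cmp (segAct sideV l) (sideV.pg g) := by
        rw [segAct, segAct, List.foldl_append]; rfl
      have e' : lA sideV (l ++ [g]) = lA sideV l * xA sideV g := by rw [lA, lA, List.foldl_append]; rfl
      refine ⟨by rw [e, cmp_len]; exact hplen g hg, fun i hi => ?_⟩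
      obtain ⟨h1', -, -, h4⟩ := hcf g hg i hi
      obtain ⟨e5, h5⟩ := ih _ h1'
      rw [e, e', ap_cmp _ _ ((hplen g hg).symm ▸ hi)]
      exact ⟨by rw [mul_assoc, h4, ← mul_assoc, e5, mul_assoc], h5⟩
  let T : Subgroup ↥Cz :=
    { carrier := {a | ∃ c ∈ lSub sideV, ∀ i < 16, ∃ j < 16, a * vA sideV i = vA sideV j * a ∧ c * vA sideV i = vA sideV j * c}
      one_mem' := ⟨1, one_mem _, fun i hi => ⟨i, hi, by simp, by simp⟩⟩
      mul_mem' := fun {a b} ⟨c, hc, hca⟩ ⟨d, hd, hdb⟩ => ⟨c * d, mul_mem hc hd, fun i hi => by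
        obtain ⟨j, hj, e1, e2⟩ := hdb i hi
        obtain ⟨k, hk, e3, e4⟩ := hca j hj
        exact ⟨k, hk, by rw [mul_assoc, e1, ← mul_assoc, e3, mul_assoc],
          by rw [mul_assoc, e2, ← mul_assoc, e4, mul_assoc]⟩⟩
      inv_mem' := fun {a} ⟨c, hc, hca⟩ => ⟨c⁻¹, inv_mem hc, fun j hj => by
        classical
        choose f hf hfa hfc using fun i : Fin 16 => hca i i.2
        let F : Fin 16 → Fin 16 := fun i => ⟨f i, hf i⟩
        have hF : Function.Injective F := fun i i' e => by
          have e' : f i = f i' := congrArg Fin.val e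
          have := (hfa i).trans (e' ▸ (hfa i').symm)
          exact Fin.ext (hinj i i.2 i' i'.2 (mul_left_cancel this))
        obtain ⟨i, hi⟩ := Finite.surjective_of_injective hF ⟨j, hj⟩
        have e : f i = j := congrArg Fin.val hi
        refine ⟨i, i.2, ?_, ?_⟩
        · rw [← e, inv_mul_eq_iff_eq_mul, ← mul_assoc, hfa i, mul_inv_cancel_right]
        · rw [← e, inv_mul_eq_iff_eq_mul, ← mul_assoc, hfc i, mul_inv_cancel_right]⟩ }
  have hlin : ∀ (l : List ℕ), (∀ g ∈ l, g < 2) → lA sideV l ∈ lSub sideV := by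
    intro l
    induction l using List.reverseRecOn with
    | nil => exact fun _ => one_mem _
    | append_singleton l g ih =>
      intro hl
      rw [show lA sideV (l ++ [g]) = lA sideV l * xA sideV g by rw [lA, lA, List.foldl_append]; rfl]
      exact mul_mem (ih fun x hx => hl x (List.mem_append_left _ hx))
        (Subgroup.subset_closure ⟨g, hl g (List.mem_append_right _ (List.mem_singleton_self g)), rfl⟩)
  have hwit : ∀ (w : ↥Cz) (l : List ℕ), (∀ g ∈ l, g < 2) →
      (∀ i < 16, mu (cdA w) (sideV.vs.getD i 0) = mu (sideV.vs.getD (Side.ap (segAct sideV l) i) 0) (cdA w)) → w ∈ T := by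
    intro w l hl hw
    refine ⟨lA sideV l, hlin l hl, fun i hi => ⟨_, ((hsa l hl).2 i hi).2, eqA ?_, ((hsa l hl).2 i hi).1⟩⟩
    rw [cdA_mul, cdA_mul, hc i hi, hc _ ((hsa l hl).2 i hi).2]
    exact hw i hi
  have hDT : Subgroup.centralizer ({uA} : Set ↥Cz) ≤ T := by
    rw [← closure_dGens, Subgroup.closure_le]
    rintro _ ⟨w, hw, rfl⟩
    obtain ⟨k, hk, rfl⟩ := List.mem_iff_getElem.1 hw
    obtain ⟨hl, hwk⟩ := hd k hk
    refine hwit _ _ hl fun i hi => ?_
    rw [cdA_wA, ← List.getD_eq_getElem mclCert.cg ([], []) hk]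
    exact hwk i hi
  obtain ⟨l, hl, e⟩ := ha 2 (by norm_num)
  obtain ⟨k, hk, hka⟩ := conj_point (R := RA) cert_ok.pts a
  obtain ⟨hp, hrep, -, -⟩ := pts_spec (R := RA) cert_ok.pts
  have hpv : RA.wel (mclCert.pw.getD k []) = vA sideV l :=
    mul_right_cancel (hka.trans (by rw [show RA.wel mclCert.u = uA from rfl, ← vA_two, e]))
  have hin : sideV.vs.elem (mclCert.pts.getD k 0) = true := by
    rw [List.elem_iff]
    have : mclCert.pts.getD k 0 = cdA (vA sideV l) := by rw [hp k hk, hpv]
    rw [this, hc l hl]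
    have hv := sideV_ok.v
    simp only [Side.vOK, Bool.and_eq_true, Nat.beq_eq] at hv
    rw [List.getD_eq_getElem _ _ (show l < sideV.vs.length by rw [hv.1.1.1.1.1]; exact hl)]
    exact List.getElem_mem _
  rcases hpts k hk with hne | ⟨⟨k', l'⟩, hkl, hkk⟩
  · rw [List.elem_eq_mem] at hne hin
    simp only [decide_eq_false_iff_not, decide_eq_true_eq] at hne hin
    exact absurd hin hne
  simp only at hkk
  subst hkk
  obtain ⟨⟨hl', -⟩, hrepact⟩ := hvp _ hkl
  have hr : RA.wel (mclCert.reps.getD k' []) ∈ T := hwit _ _ hl' fun i hi => by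
    rw [show cdA (RA.wel (mclCert.reps.getD k' [])) = evC (mclCert.reps.getD k' []) from cdA_wA _]
    exact hrepact i hi
  set r := RA.wel (mclCert.reps.getD k' []) with hrdef
  have hd' : r⁻¹ * a ∈ Subgroup.centralizer ({uA} : Set ↥Cz) := by
    rw [Subgroup.mem_centralizer_singleton_iff]
    have e1 : a * uA = RA.wel (mclCert.pw.getD k' []) * a := hka.symm
    have e2 : RA.wel (mclCert.pw.getD k' []) * r = r * uA := hrep k' hk
    have e3 : r⁻¹ * RA.wel (mclCert.pw.getD k' []) = uA * r⁻¹ := by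
      rw [inv_mul_eq_iff_eq_mul, ← mul_assoc, ← e2, mul_inv_cancel_right]
    rw [mul_assoc, e1, ← mul_assoc, e3, mul_assoc]
  have haT : a ∈ T := by
    have := T.mul_mem hr (hDT hd')
    rwa [mul_inv_cancel_left] at this
  obtain ⟨c, hcL, hca⟩ := haT
  have hcl : ∀ c ∈ lSub sideV, ∃ l : List ℕ, (∀ g ∈ l, g < 2) ∧ lA sideV l = c := by
    intro c hc
    rw [lSub, ← Subgroup.mem_toSubmonoid, Subgroup.closure_toSubmonoid_of_finite] at hc
    induction hc using Submonoid.closure_induction_right with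
    | one => exact ⟨[], by simp, rfl⟩
    | mul_right x _ y hy ih =>
      obtain ⟨g, hg, rfl⟩ := hy
      obtain ⟨l, hl, rfl⟩ := ih
      refine ⟨l ++ [g], fun v hv => ?_, by rw [lA, lA, List.foldl_append]; rfl⟩
      rcases List.mem_append.1 hv with hv | hv
      · exact hl v hv
      · rw [List.mem_singleton.1 hv]; exact hg
  obtain ⟨lc, hlc, rfl⟩ := hcl c hcL
  refine ⟨lc, hlc, fun i hi => ?_⟩
  obtain ⟨j, hj, e1, e2⟩ := hca i hi
  obtain ⟨e3, hj'⟩ := (hsa lc hlc).2 i hi
  rw [e1, hinj j hj _ hj' (mul_right_cancel (e2.symm.trans e3))]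

end Cfsg.Agent.Spor.MclCent
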