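import Cfsg.Agent.Lib.Spor.MclCent.FourSwap

/-!
Some element acts on the group of order 16 as in the McLaughlin group.
-/

set_option autoImplicit false
set_option maxRecDepth 100000
set_option maxHeartbeats 1000000
set_option linter.style.haveILetI false
set_option linter.unusedSectionVars false

namespace Cfsg.Agent.Spor.MclCent

open DCoset
open Local.FS.McLSmall (K idC)
open Local.FS.McLSmall.Cent (Cz tC tz)

theorem bits_ok : ((List.range 16).all fun k => Nat.beq ([(1, 1), (2, 2), (4, 4), (8, 8)].foldl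
    (fun r p => bif Nat.beq (Nat.land k p.1) 0 then r else sideV.mt r p.2) 0) k) = true := by decide +kernel

theorem cand_eq (i j k : ℕ) (hk : k < 16) : Side.ap (cand i j) k = [(1, 2), (2, 1), (4, i), (8, j)].foldl
    (fun r p => bif Nat.beq (Nat.land k p.1) 0 then r else sideV.mt r p.2) 0 := by
  rw [Side.ap, cand, List.getD_eq_getElem _ _ (by simpa using hk), List.getElem_map, List.getElem_range]

theorem cand_len (i j : ℕ) : (cand i j).length = 16 := by simp [cand]

attribute [local irreducible] vA xA mu idC mclCert sLit tLit cdK Nat.beq pZero caseL sideV cand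

variable {G : Type*} [Group G] [Finite G]

theorem pZero_mem : ∀ l : List ℕ, (∀ g ∈ l, g < 2) → segAct sideV l ∈ pZero := by
  have hb := table_ok
  simp only [tableOK, Bool.and_eq_true, List.all_eq_true, List.mem_range, List.elem_iff] at hb
  intro l
  induction l using List.reverseRecOn with
  | nil => exact fun _ => hb.1.1.2
  | append_singleton l g ih =>
    intro hl
    rw [segAct, List.foldl_append, List.foldl_cons, List.foldl_nil]
    exact hb.1.2 _ (ih fun x hx => hl x (List.mem_append_left _ hx)) g (hl g (List.mem_append_right _ (List.mem_singleton_self g)))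

theorem acts_word (E : Emb G) : ∀ l : List ℕ, (∀ g ∈ l, g < 2) →
    ActsAs sideV E (E.φ (lA sideV l)) (segAct sideV l) ∧ (segAct sideV l).length = 16 := by
  intro l
  induction l using List.reverseRecOn with
  | nil => exact fun _ => ⟨by rw [show lA sideV [] = 1 from rfl, map_one]; exact ActsAs.one E, by simp [segAct, Side.idA]⟩
  | append_singleton l g ih =>
    intro hl
    obtain ⟨h1, h2⟩ := ih fun x hx => hl x (List.mem_append_left _ hx)
    have hg : g < 2 := hl g (List.mem_append_right _ (List.mem_singleton_self g))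
    have hlp := (comp_facts sideV_ok).2.1 g hg
    rw [segAct, List.foldl_append, List.foldl_cons, List.foldl_nil]
    refine ⟨?_, by rw [cmp_len]; exact hlp⟩
    rw [show lA sideV (l ++ [g]) = lA sideV l * xA sideV g by rw [lA, lA, List.foldl_append]; rfl, map_mul]
    exact h1.mul (acts_x sideV_ok E hg) hlp

/-- an element with the action of the fifth generator -/
theorem exists_acting (E : Emb G) (hF : Fused E) :
    ∃ g : G, ActsAs sideV E g sideV.beta := by
  classical
  obtain ⟨g, hgt, hgu⟩ := exists_swap E hF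
  have hN := swap_norm E hgt hgu
  obtain ⟨hc, h0, h1, hinj, hmt⟩ := v_facts sideV_ok
  have hu2 : vA sideV 2 = uA := vA_two
  have hex : ∀ i : Fin 16, ∃ j : Fin 16, g * E.φ (vA sideV i) * g⁻¹ = E.φ (vA sideV j) := fun i => by
    obtain ⟨b, ⟨j, hj, rfl⟩, e⟩ := hN _ ⟨i, i.2, rfl⟩
    exact ⟨⟨j, hj⟩, e⟩
  choose α hα using hex
  have αinj : Function.Injective α := fun a b e => by
    have := (hα a).trans (e ▸ (hα b).symm)
    exact Fin.ext (hinj a a.2 b b.2 (E.inj (mul_left_cancel (mul_right_cancel this))))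
  let f : ℕ → ℕ := fun k => if hk : k < 16 then (α ⟨k, hk⟩ : ℕ) else 16
  have hf : ∀ k < 16, f k < 16 ∧ g * E.φ (vA sideV k) * g⁻¹ = E.φ (vA sideV (f k)) := fun k hk => by
    simp only [f, dif_pos hk]; exact ⟨(α ⟨k, hk⟩).2, hα ⟨k, hk⟩⟩
  have hf1 : f 1 = 2 := hinj _ (hf 1 (by norm_num)).1 2 (by norm_num)
    (E.inj ((hf 1 (by norm_num)).2.symm.trans (by rw [h1, E.map_t, hgt, hu2])))
  have hf2 : f 2 = 1 := hinj _ (hf 2 (by norm_num)).1 1 (by norm_num)
    (E.inj ((hf 2 (by norm_num)).2.symm.trans (by rw [hu2, hgu, h1, E.map_t])))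
  have hf0 : f 0 = 0 := hinj _ (hf 0 (by norm_num)).1 0 (by norm_num)
    (E.inj ((hf 0 (by norm_num)).2.symm.trans (by rw [h0]; simp)))
  have hmul : ∀ a < 16, ∀ b < 16, f (sideV.mt a b) = sideV.mt (f a) (f b) := fun a ha b hb => by
    obtain ⟨hab, e, -⟩ := hmt a ha b hb
    obtain ⟨hfab, e', -⟩ := hmt _ (hf a ha).1 _ (hf b hb).1
    refine hinj _ (hf _ hab).1 _ hfab (E.inj ?_)
    rw [← (hf _ hab).2, ← e, ← e', map_mul, map_mul, ← (hf a ha).2, ← (hf b hb).2]
    group
  have hfold : ∀ (k : ℕ) (l : List (ℕ × ℕ)), (∀ p ∈ l, p.2 < 16) → ∀ r < 16,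
      f (l.foldl (fun r p => bif Nat.beq (Nat.land k p.1) 0 then r else sideV.mt r p.2) r) =
        (l.map fun p => (p.1, f p.2)).foldl (fun r p => bif Nat.beq (Nat.land k p.1) 0 then r else sideV.mt r p.2) (f r) := by
    intro k l
    induction l with
    | nil => exact fun _ r _ => rfl
    | cons p l ih =>
      intro hl r hr
      have hp := hl p List.mem_cons_self
      rw [List.foldl_cons, List.map_cons, List.foldl_cons]
      cases Nat.beq (Nat.land k p.1) 0 with
      | true => exact ih (fun q hq => hl q (List.mem_cons_of_mem _ hq)) r hr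
      | false =>
        simp only [cond_false]
        rw [ih (fun q hq => hl q (List.mem_cons_of_mem _ hq)) _ (hmt r hr p.2 hp).1, hmul r hr p.2 hp]
  set i := f 4 with hi_def
  set j := f 8 with hj_def
  have hcand : ∀ k < 16, Side.ap (cand i j) k = f k := fun k hk => by
    have hb := bits_ok
    simp only [List.all_eq_true, List.mem_range, Nat.beq_eq] at hb
    have e := hfold k [(1, 1), (2, 2), (4, 4), (8, 8)] (by simp) 0 (by norm_num)
    rw [hb k hk, hf0] at e
    rw [cand_eq i j k hk, e]
    simp [hf1, hf2, hi_def, hj_def]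
  have hact : ActsAs sideV E g (cand i j) := fun k hk => by
    rw [hcand k hk]
    exact ⟨mul_inv_eq_iff_eq_mul.1 (hf k hk).2, (hf k hk).1⟩
  have hnd : (cand i j).dedup.length = 16 := by
    rw [List.dedup_eq_self.2, cand_len]
    rw [List.nodup_iff_injective_getElem]
    intro a b e
    have ha : (a : ℕ) < 16 := a.2.trans_eq (cand_len i j)
    have hb : (b : ℕ) < 16 := b.2.trans_eq (cand_len i j)
    have e' : Side.ap (cand i j) a = Side.ap (cand i j) b := by
      rw [Side.ap, Side.ap, List.getD_eq_getElem _ _ a.2, List.getD_eq_getElem _ _ b.2]; exact e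
    rw [hcand a ha, hcand b hb] at e'
    simp only [f, dif_pos ha, dif_pos hb] at e'
    have e'' := congrArg Fin.val (αinj (Fin.ext e'))
    exact Fin.ext e''
  have hcase := case_ok
  simp only [List.all_eq_true, List.mem_range] at hcase
  have h := hcase i (hf 4 (by norm_num)).1 j (hf 8 (by norm_num)).1
  unfold caseOK at h
  rcases hq : caseL.getD (16 * i + j) (3, []) with ⟨c, l⟩
  rw [hq] at h
  simp only at h
  rcases c with _ | _ | _ | c
  · simp [hnd] at h
  · simp only [Bool.and_eq_true, List.all_eq_true, Nat.blt_eq, beq_iff_eq] at h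
    obtain ⟨hl, he⟩ := h
    obtain ⟨hP, hPlen⟩ := acts_word E l hl
    refine ⟨g * (E.φ (lA sideV l))⁻¹, fun k hk => ?_⟩
    have hinjP : Function.Injective fun a : Fin 16 => (⟨Side.ap (segAct sideV l) a, (hP a a.2).2⟩ : Fin 16) := by
      intro a b e
      have e' : Side.ap (segAct sideV l) a = Side.ap (segAct sideV l) b := congrArg Fin.val e
      have := (hP a a.2).1.trans (e' ▸ (hP b b.2).1.symm)
      exact Fin.ext (hinj a a.2 b b.2 (E.inj (mul_left_cancel this)))
    obtain ⟨m, hm⟩ := Finite.surjective_of_injective hinjP ⟨k, hk⟩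
    have hmk : Side.ap (segAct sideV l) m = k := congrArg Fin.val hm
    obtain ⟨e1, -⟩ := hP m m.2
    rw [hmk] at e1
    obtain ⟨e2, l2⟩ := hact m m.2
    rw [he, ap_cmp _ _ (hPlen.symm ▸ m.2), hmk] at e2 l2
    refine ⟨?_, l2⟩
    have e3 : (E.φ (lA sideV l))⁻¹ * E.φ (vA sideV k) = E.φ (vA sideV m) * (E.φ (lA sideV l))⁻¹ := by
      rw [inv_mul_eq_iff_eq_mul, ← mul_assoc, e1, mul_inv_cancel_right]
    rw [mul_assoc, e3, ← mul_assoc, e2, mul_assoc]
  · exfalso
    simp only [Bool.and_eq_true, Bool.or_eq_true, List.all_eq_true, Nat.blt_eq, Nat.beq_eq,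
      Bool.not_eq_eq_eq_not, Bool.not_true, bne_iff_ne] at h
    obtain ⟨hw, h⟩ := h
    obtain ⟨hfix, hnot⟩ := h.resolve_left (fun e => e hnd)
    have key : ∀ l : List ℕ, (∀ x ∈ l, x < 3) → ∃ G' : G, ActsAs sideV E G' (falsAct (cand i j) l) ∧
        (falsAct (cand i j) l).length = 16 := by
      intro l
      induction l using List.reverseRecOn with
      | nil => exact fun _ => ⟨1, ActsAs.one E, by simp [falsAct, Side.idA]⟩
      | append_singleton l x ih =>
        intro hl
        obtain ⟨G', hG', -⟩ := ih fun v hv => hl v (List.mem_append_left _ hv)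
        have hx : x < 3 := hl x (List.mem_append_right _ (List.mem_singleton_self x))
        rw [falsAct, List.foldl_append, List.foldl_cons, List.foldl_nil]
        rcases Nat.eq_zero_or_pos x with rfl | hx0
        · rw [Nat.beq_refl, cond_true]
          exact ⟨G' * g, hG'.mul hact (cand_len i j), by rw [cmp_len, cand_len]⟩
        · rw [show Nat.beq x 0 = false from Bool.eq_false_iff.2 fun e => hx0.ne' (Nat.eq_of_beq_eq_true e), cond_false]
          have hlp := (comp_facts sideV_ok).2.1 (x - 1) (by omega)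
          exact ⟨G' * E.φ (xA sideV (x - 1)), hG'.mul (acts_x sideV_ok E (by omega)) hlp, by rw [cmp_len]; exact hlp⟩
    obtain ⟨G', hG', hlenF⟩ := key l hw
    obtain ⟨e, -⟩ := hG' 1 (by norm_num)
    rw [hfix, h1, E.map_t] at e
    obtain ⟨a, rfl⟩ := E.mem_range e
    obtain ⟨lc, hlc, hact'⟩ := act_norm (a := a) fun k hk => ⟨_, (hG' k hk).2, E.inj (by
      rw [map_mul, map_mul]; exact (hG' k hk).1)⟩
    refine absurd (pZero_mem lc hlc) ?_
    obtain ⟨hP, hPlen⟩ := acts_word E lc hlc
    have heq : segAct sideV lc = falsAct (cand i j) l := by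
      refine List.ext_getElem (hPlen.trans hlenF.symm) fun k hk1 hk2 => ?_
      have hk : k < 16 := hPlen ▸ hk1
      have e1 := hact' k hk
      have e2 : a * vA sideV k = vA sideV (Side.ap (falsAct (cand i j) l) k) * a := E.inj (by
        rw [map_mul, map_mul]; exact (hG' k hk).1)
      have := hinj _ (hP k hk).2 _ (hG' k hk).2 (mul_right_cancel (e1.symm.trans e2))
      rwa [Side.ap, Side.ap, List.getD_eq_getElem _ _ hk1, List.getD_eq_getElem _ _ hk2] at this
    rw [heq]
    intro hmem
    rw [List.elem_eq_mem, decide_eq_false_iff_not] at hnot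
    exact hnot hmem
  · simp at h

end Cfsg.Agent.Spor.MclCent
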