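import Cfsg.Agent.Lib.Spor.MclCent.Four

/-!
The element interchanging the involutions of the four group, adjusted to act as in the McLaughlin group.
-/

set_option autoImplicit false
set_option maxRecDepth 100000
set_option maxHeartbeats 1000000
set_option linter.style.haveILetI false
set_option linter.unusedSectionVars false

namespace Cfsg.Agent.Spor.MclCent

open DCoset
open Local.FS.McLSmall (K idC)
open Local.FS.McLSmall.Cent (Cz tC tz)

attribute [local irreducible] vA xA mu idC mclCert sLit tLit cdK Nat.beq pZero caseL wPrime invD eWord dActs vPoints sideV cand falsAct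

variable {G : Type*} [Group G] [Finite G]

theorem v_basis (Q : Subgroup ↥Cz) (h1 : vA sideV 1 ∈ Q) (h2 : vA sideV 2 ∈ Q) (h4 : vA sideV 4 ∈ Q)
    (h8 : vA sideV 8 ∈ Q) : ∀ i < 16, vA sideV i ∈ Q := by
  obtain ⟨-, h0, -, -, hmt⟩ := v_facts sideV_ok
  have gen : ∀ (k : ℕ) (l : List (ℕ × ℕ)), (∀ p ∈ l, p.2 < 16 ∧ vA sideV p.2 ∈ Q) → ∀ r < 16, vA sideV r ∈ Q →
      (l.foldl (fun r p => bif Nat.beq (Nat.land k p.1) 0 then r else sideV.mt r p.2) r) < 16 ∧
        vA sideV (l.foldl (fun r p => bif Nat.beq (Nat.land k p.1) 0 then r else sideV.mt r p.2) r) ∈ Q := by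
    intro k l
    induction l with
    | nil => exact fun _ r hr hq => ⟨hr, hq⟩
    | cons p l ih =>
      intro hl r hr hq
      rw [List.foldl_cons]
      have hp := hl p List.mem_cons_self
      cases Nat.beq (Nat.land k p.1) 0 with
      | true => exact ih (fun q hq => hl q (List.mem_cons_of_mem _ hq)) r hr hq
      | false =>
        obtain ⟨h, e, -⟩ := hmt r hr p.2 hp.1
        exact ih (fun q hq => hl q (List.mem_cons_of_mem _ hq)) _ h (e ▸ mul_mem hq hp.2)
  intro i hi
  have hb := table_ok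
  simp only [tableOK, Bool.and_eq_true, List.all_eq_true, List.mem_range, Nat.beq_eq] at hb
  have e := hb.1.1.1.1 i hi
  have := (gen i [(1, 1), (2, 2), (4, 4), (8, 8)] (by simp [h1, h2, h4, h8]) 0 (by norm_num)
    (h0 ▸ one_mem _)).2
  rwa [e] at this

theorem mt_small : ∀ k < 4, sideV.mt k 4 ≠ 8 := by decide +kernel

theorem mt_three : sideV.mt 1 2 = 3 := by decide +kernel

/-- the second group of order 16 in the centralizer of the four group -/
noncomputable def wSub : Subgroup ↥Cz where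
  carrier := {a | cdA a ∈ wPrime}
  one_mem' := by
    have h := four_ok
    simp only [fourOK, Bool.and_eq_true, List.all_eq_true, List.mem_range, List.elem_iff] at h
    have h1 : cdA (vA sideV 1) ∈ wPrime := by
      rw [(v_facts sideV_ok).1 1 (by norm_num)]; exact h.1.1.1.1.1.2 0 (by norm_num)
    obtain ⟨k, hk, e⟩ := List.mem_iff_getElem.1 h1
    have h2 := h.1.1.1.1.2 k (by
      have : wPrime.length = 16 := by simpa using h.1.1.1.1.1.1.1.1.2
      omega) k (by
      have : wPrime.length = 16 := by simpa using h.1.1.1.1.1.1.1.1.2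
      omega)
    rw [List.getD_eq_getElem _ _ hk, e, ← cdA_mul, (v_facts sideV_ok).2.2.1, tC_sq] at h2
    exact h2
  mul_mem' := fun {a b} ha hb => by
    have h := four_ok
    simp only [fourOK, Bool.and_eq_true, List.all_eq_true, List.mem_range, List.elem_iff] at h
    have hlen : wPrime.length = 16 := by simpa using h.1.1.1.1.1.1.1.1.2
    obtain ⟨k, hk, e⟩ := List.mem_iff_getElem.1 (show cdA a ∈ wPrime from ha)
    obtain ⟨l, hl, e'⟩ := List.mem_iff_getElem.1 (show cdA b ∈ wPrime from hb)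
    have h2 := h.1.1.1.1.2 k (hlen ▸ hk) l (hlen ▸ hl)
    rw [List.getD_eq_getElem _ _ hk, List.getD_eq_getElem _ _ hl, e, e', ← cdA_mul] at h2
    exact h2
  inv_mem' := fun {a} ha => by
    have hp : ∀ n : ℕ, cdA (a ^ (n + 1)) ∈ wPrime := by
      intro n
      induction n with
      | zero => simpa using ha
      | succ n ih =>
        have h := four_ok
        simp only [fourOK, Bool.and_eq_true, List.all_eq_true, List.mem_range, List.elem_iff] at h
        have hlen : wPrime.length = 16 := by simpa using h.1.1.1.1.1.1.1.1.2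
        obtain ⟨k, hk, e⟩ := List.mem_iff_getElem.1 ih
        obtain ⟨l, hl, e'⟩ := List.mem_iff_getElem.1 (show cdA a ∈ wPrime from ha)
        have h2 := h.1.1.1.1.2 k (hlen ▸ hk) l (hlen ▸ hl)
        rw [List.getD_eq_getElem _ _ hk, List.getD_eq_getElem _ _ hl, e, e', ← cdA_mul, ← pow_succ] at h2
        exact h2
    have h0 := orderOf_pos a
    obtain ⟨n, hn⟩ : ∃ n, orderOf a * 2 = n + 2 := ⟨orderOf a * 2 - 2, by omega⟩
    have : a⁻¹ = a ^ (n + 1) := inv_eq_of_mul_eq_one_right (by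
      rw [← pow_succ', ← show orderOf a * 2 = n + 1 + 1 by omega, pow_mul, pow_orderOf_eq_one, one_pow])
    show cdA a⁻¹ ∈ wPrime
    rw [this]
    exact hp n

variable (E : Emb G)

/-- conjugation by `g` maps one subgroup of the centralizer into another -/
def MapsTo (g : G) (H H' : Subgroup ↥Cz) : Prop := ∀ a ∈ H, ∃ b ∈ H', g * E.φ a * g⁻¹ = E.φ b

theorem MapsTo.trans {g g' : G} {H H' H'' : Subgroup ↥Cz} (h : MapsTo E g H H') (h' : MapsTo E g' H' H'') :
    MapsTo E (g' * g) H H'' := fun a ha => by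
  obtain ⟨b, hb, e⟩ := h a ha
  obtain ⟨c, hc, e'⟩ := h' b hb
  exact ⟨c, hc, by rw [← e', ← e]; group⟩

theorem MapsTo.surj {g : G} {H H' : Subgroup ↥Cz} (h : MapsTo E g H H') (hc : Nat.card ↥H' ≤ Nat.card ↥H) :
    ∀ b ∈ H', ∃ a ∈ H, g * E.φ a * g⁻¹ = E.φ b := by
  classical
  choose f hf hfe using h
  let F : ↥H → ↥H' := fun a => ⟨f a a.2, hf a a.2⟩
  have hF : Function.Injective F := fun a b e => by
    have e' : f a a.2 = f b b.2 := congrArg Subtype.val e
    have := (hfe a a.2).trans (e' ▸ (hfe b b.2).symm)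
    exact Subtype.ext (E.inj (mul_left_cancel (mul_right_cancel this)))
  letI := Fintype.ofFinite ↥H
  letI := Fintype.ofFinite ↥H'
  have hbij := (Fintype.bijective_iff_injective_and_card F).2 ⟨hF, le_antisymm (Fintype.card_le_of_injective F hF)
    (by rwa [← Nat.card_eq_fintype_card, ← Nat.card_eq_fintype_card])⟩
  intro b hb
  obtain ⟨a, ha⟩ := hbij.2 ⟨b, hb⟩
  exact ⟨a, a.2, by rw [hfe a a.2]; exact congrArg E.φ (congrArg Subtype.val ha)⟩

theorem cent_norm {d : ↥Cz} (hd : Commute d uA) : MapsTo E (E.φ d) (vSub sideV_ok) (vSub sideV_ok) := by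
  have hle : Subgroup.centralizer ({uA} : Set ↥Cz) ≤ Subgroup.normalizer ((vSub sideV_ok : Subgroup ↥Cz) : Set ↥Cz) := by
    rw [← closure_dGens, Subgroup.closure_le]
    rintro _ ⟨w, hw, rfl⟩
    refine Subgroup.mem_normalizer_fintype ?_
    rintro _ ⟨i, hi, rfl⟩
    have h := norm_ok
    simp only [normOK, Bool.and_eq_true, List.all_eq_true, List.mem_range, Nat.beq_eq, Nat.blt_eq] at h
    obtain ⟨k, hk, rfl⟩ := List.mem_iff_getElem.1 hw
    obtain ⟨hl, hwk⟩ := h.2 k hk
    have e := hwk i hi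
    rw [List.getD_eq_getElem mclCert.cg ([], []) hk] at e
    obtain ⟨hc, -⟩ := v_facts sideV_ok
    have hsz : ∀ (l : List ℕ), (∀ g ∈ l, g < 2) → ∀ i < 16, Side.ap (segAct sideV l) i < 16 ∧ (segAct sideV l).length = 16 := by
      intro l
      induction l using List.reverseRecOn with
      | nil =>
        intro _ i hi
        show Side.ap Side.idA i < 16 ∧ Side.idA.length = 16
        rw [idA_ap hi]; exact ⟨hi, by simp [Side.idA]⟩
      | append_singleton l g ih =>
        intro hl i hi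
        have hg : g < 2 := hl g (List.mem_append_right _ (List.mem_singleton_self g))
        rw [segAct, List.foldl_append, List.foldl_cons, List.foldl_nil]
        obtain ⟨h1, -, -, -⟩ := (comp_facts sideV_ok).1 g hg i hi
        have hlp := (comp_facts sideV_ok).2.1 g hg
        refine ⟨?_, by rw [cmp_len]; exact hlp⟩
        rw [ap_cmp _ _ (hlp.symm ▸ hi)]
        exact (ih (fun x hx => hl x (List.mem_append_left _ hx)) _ h1).1
    have hlt := (hsz _ hl i hi).1
    refine ⟨_, hlt, ?_⟩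
    rw [eq_mul_inv_iff_mul_eq]
    refine eqA ?_
    rw [cdA_mul, cdA_mul, hc _ hlt, hc i hi, cdA_wA]
    exact e.symm
  intro a ha
  have := (Subgroup.mem_normalizer_iff.1 (hle (Subgroup.mem_centralizer_singleton_iff.2 hd.eq)) a).1 ha
  exact ⟨_, this, by rw [map_mul, map_mul, map_inv]⟩

variable {E} in
theorem cent_four {g : G} (h1 : Commute g E.t) (h2 : Commute g (E.φ uA)) : ∃ d, E.φ d = g ∧ Commute d uA := by
  obtain ⟨d, rfl⟩ := E.mem_range h1
  exact ⟨d, rfl, E.inj (by rw [map_mul, map_mul]; exact h2.eq)⟩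

/-- the swapping element normalizes the group of order 16 -/
theorem swap_norm {g : G} (hgt : g * E.t * g⁻¹ = E.φ uA) (hgu : g * E.φ uA * g⁻¹ = E.t) :
    MapsTo E g (vSub sideV_ok) (vSub sideV_ok) := by
  classical
  obtain ⟨hc, h0, h1, hinj, hmt⟩ := v_facts sideV_ok
  have hf := four_ok
  simp only [fourOK, Bool.and_eq_true, List.all_eq_true, List.mem_range, List.elem_iff, Bool.or_eq_true,
    Bool.not_eq_eq_eq_not, Bool.not_true, Nat.beq_eq, beq_iff_eq, List.any_eq_true] at hf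
  obtain ⟨⟨⟨⟨⟨⟨⟨⟨hinv, hlen⟩, hnd⟩, hnsub⟩, hthree⟩, -⟩, hpair⟩, heu⟩, heV⟩ := hf.1
  have heW := hf.2
  have hu2 : vA sideV 2 = uA := vA_two
  have himg : ∀ d : ↥Cz, Commute d uA → ∃ d', Commute d' uA ∧ g * E.φ d * g⁻¹ = E.φ d' := by
    intro d hd
    obtain ⟨d', e, hd'⟩ := cent_four (g := g * E.φ d * g⁻¹) (E := E) (by
      rw [← hgu]; exact (hd.map E.φ).map (MulAut.conj g).toMonoidHom) (by
      rw [← hgt]; exact (E.comm_t d).map (MulAut.conj g).toMonoidHom)
    exact ⟨d', hd', e.symm⟩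
  have hvc : ∀ i < 16, Commute (vA sideV i) uA := fun i hi => by
    rw [← hu2]; exact vA_comm sideV_ok hi (by norm_num)
  obtain ⟨x, hxu, hx⟩ := himg _ (hvc 4 (by norm_num))
  obtain ⟨y, hyu, hy⟩ := himg _ (hvc 8 (by norm_num))
  -- the images of the four group
  have h3 : vA sideV 3 = tC * uA := by rw [← mt_three, ← (hmt 1 (by norm_num) 2 (by norm_num)).2.1, h1, hu2]
  have himg4 : ∀ k < 4, ∃ l < 4, g * E.φ (vA sideV k) * g⁻¹ = E.φ (vA sideV l) := by
    intro k hk
    interval_cases k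
    · exact ⟨0, by norm_num, by rw [h0]; simp⟩
    · exact ⟨2, by norm_num, by rw [h1, E.map_t, hgt, hu2]⟩
    · exact ⟨1, by norm_num, by rw [hu2, hgu, h1, E.map_t]⟩
    · refine ⟨3, by norm_num, ?_⟩
      rw [h3, map_mul, E.map_t]
      calc g * (E.t * E.φ uA) * g⁻¹ = (g * E.t * g⁻¹) * (g * E.φ uA * g⁻¹) := by group
        _ = _ := by rw [hgt, hgu, (E.comm_t uA).eq]
  have hsurj4 : ∀ l < 4, ∃ k < 4, g * E.φ (vA sideV k) * g⁻¹ = E.φ (vA sideV l) := by
    intro l hl
    interval_cases l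
    · exact ⟨0, by norm_num, by rw [h0]; simp⟩
    · exact ⟨2, by norm_num, by rw [hu2, hgu, h1, E.map_t]⟩
    · exact ⟨1, by norm_num, by rw [h1, E.map_t, hgt, hu2]⟩
    · refine ⟨3, by norm_num, ?_⟩
      rw [h3, map_mul, E.map_t]
      calc g * (E.t * E.φ uA) * g⁻¹ = (g * E.t * g⁻¹) * (g * E.φ uA * g⁻¹) := by group
        _ = _ := by rw [hgt, hgu, (E.comm_t uA).eq]
  have hxy : Commute x y := E.inj (by
    rw [map_mul, map_mul, ← hx, ← hy]
    exact ((Commute.map (vA_comm sideV_ok (show 4 < 16 by norm_num) (show 8 < 16 by norm_num)) E.φ).map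
      (MulAut.conj g).toMonoidHom).eq)
  have hcodes : ∀ a : ↥Cz, cdA a ∈ ((List.range 4).map fun k => sideV.vs.getD k 0) → ∃ k < 4, a = vA sideV k := by
    intro a ha
    simp only [List.mem_map, List.mem_range] at ha
    obtain ⟨k, hk, e⟩ := ha
    exact ⟨k, hk, eqA (by rw [hc k (by omega), e])⟩
  have hxs : x * x = 1 ∧ x ≠ 1 := by
    refine ⟨E.inj ?_, fun e => ?_⟩
    · rw [map_mul, map_one, ← hx]
      calc g * E.φ (vA sideV 4) * g⁻¹ * (g * E.φ (vA sideV 4) * g⁻¹) = g * E.φ (vA sideV 4 * vA sideV 4) * g⁻¹ := by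
            rw [map_mul]; group
        _ = 1 := by rw [vA_sq sideV_ok (by norm_num) (by decide +kernel)]; simp
    · rw [e, map_one] at hx
      have := E.inj ((conj_eq_one_iff.1 hx).trans (map_one E.φ).symm)
      exact absurd (hinj 4 (by norm_num) 0 (by norm_num) (this.trans h0.symm)) (by norm_num)
  have hys : y * y = 1 ∧ y ≠ 1 := by
    refine ⟨E.inj ?_, fun e => ?_⟩
    · rw [map_mul, map_one, ← hy]
      calc g * E.φ (vA sideV 8) * g⁻¹ * (g * E.φ (vA sideV 8) * g⁻¹) = g * E.φ (vA sideV 8 * vA sideV 8) * g⁻¹ := by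
            rw [map_mul]; group
        _ = 1 := by rw [vA_sq sideV_ok (by norm_num) (by decide +kernel)]; simp
    · rw [e, map_one] at hy
      have := E.inj ((conj_eq_one_iff.1 hy).trans (map_one E.φ).symm)
      exact absurd (hinj 8 (by norm_num) 0 (by norm_num) (this.trans h0.symm)) (by norm_num)
  have mem_invD : ∀ d : ↥Cz, Commute d uA → d * d = 1 → d ≠ 1 → cdA d ∈ invD := by
    intro d hd h2 hne
    obtain ⟨e, he, hev⟩ := mem_dList hd
    have h := hinv e he
    rw [hev, ← cdA_mul, h2, ← cdA_one] at h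
    rcases h with (h | h) | h
    · rw [Bool.eq_false_iff, Ne, Nat.beq_eq] at h; exact absurd rfl h
    · exact absurd (eqA h) hne
    · exact h
  have both : (x ∈ vSub sideV_ok ∧ y ∈ vSub sideV_ok) ∨ (x ∈ wSub ∧ y ∈ wSub) := by
    have hvs : ∀ a : ↥Cz, cdA a ∈ sideV.vs → a ∈ vSub sideV_ok := by
      intro a ha
      obtain ⟨k, hk, e⟩ := List.mem_iff_getElem.1 ha
      have hv := sideV_ok.v
      simp only [Side.vOK, Bool.and_eq_true, Nat.beq_eq] at hv
      have hk' : k < 16 := by rw [← hv.1.1.1.1.1]; exact hk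
      exact ⟨k, hk', eqA (by rw [hc k hk', List.getD_eq_getElem _ _ hk, e])⟩
    rcases hpair _ (mem_invD x hxu hxs.1 hxs.2) _ (mem_invD y hyu hys.1 hys.2) with (((h | h) | h) | h) | h
    · exfalso
      obtain ⟨l, hl, rfl⟩ := hcodes x h
      obtain ⟨k, hk, e⟩ := hsurj4 l hl
      have := hinj 4 (by norm_num) k (by omega) (E.inj (mul_left_cancel (mul_right_cancel (hx.trans e.symm))))
      omega
    · rw [← cdA_mul, ← cdA_mul, hxy.eq, Bool.eq_false_iff, Ne, Nat.beq_eq] at h
      exact absurd rfl h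
    · exfalso
      rw [List.mem_append] at h
      rcases h with h | h
      · obtain ⟨l, hl, rfl⟩ := hcodes y h
        obtain ⟨k, hk, e⟩ := hsurj4 l hl
        have := hinj 8 (by norm_num) k (by omega) (E.inj (mul_left_cancel (mul_right_cancel (hy.trans e.symm))))
        omega
      · simp only [List.mem_map, List.mem_range, exists_exists_and_eq_and] at h
        obtain ⟨l, hl, e⟩ := h
        have ey : y = vA sideV l * x := eqA (by rw [cdA_mul, hc l (by omega), e])
        obtain ⟨k, hk, e'⟩ := hsurj4 l hl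
        have e2 : g * E.φ (vA sideV 8) * g⁻¹ = g * E.φ (vA sideV k * vA sideV 4) * g⁻¹ := by
          rw [hy, ey, map_mul, ← e', ← hx, map_mul]; group
        have e3 := E.inj (mul_left_cancel (mul_right_cancel e2))
        obtain ⟨hl', e4, -⟩ := hmt k (by omega) 4 (by norm_num)
        exact mt_small k hk (hinj _ hl' 8 (by norm_num) (e4.symm.trans e3.symm))
    · exact Or.inl ⟨hvs x h.1, hvs y h.2⟩
    · exact Or.inr ⟨h.1, h.2⟩
  have mk : ∀ H : Subgroup ↥Cz, vA sideV 2 ∈ H → vA sideV 1 ∈ H → x ∈ H → y ∈ H → MapsTo E g (vSub sideV_ok) H := by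
    intro H hH2 hH1 hHx hHy
    have key : ∀ i < 16, vA sideV i ∈ ((H.map E.φ).comap ((MulAut.conj g).toMonoidHom.comp E.φ)) := by
      refine v_basis _ ⟨_, hH2, ?_⟩ ⟨_, hH1, ?_⟩ ⟨x, hHx, hx.symm⟩ ⟨y, hHy, hy.symm⟩
      · show _ = g * E.φ _ * g⁻¹
        rw [h1, E.map_t, hgt, hu2]
      · show _ = g * E.φ _ * g⁻¹
        rw [hu2, hgu, h1, E.map_t]
    rintro _ ⟨i, hi, rfl⟩
    obtain ⟨b, hb, e⟩ := key i hi
    exact ⟨b, hb, e.symm⟩
  rcases both with hV | hW
  · exact mk _ ⟨2, by norm_num, rfl⟩ ⟨1, by norm_num, rfl⟩ hV.1 hV.2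
  -- the other case is impossible
  exfalso
  have hw12 : ∀ k < 3, vA sideV (k + 1) ∈ wSub := fun k hk => by
    show cdA _ ∈ wPrime
    rw [hc _ (by omega)]; exact hthree k hk
  have hgVW : MapsTo E g (vSub sideV_ok) wSub := mk _ (hw12 1 (by norm_num)) (hw12 0 (by norm_num)) hW.1 hW.2
  have hWcard : Nat.card ↥wSub ≤ Nat.card ↥(vSub sideV_ok) := by
    rw [card_vSub, ← hlen]
    letI := Fintype.ofFinite ↥wSub
    rw [Nat.card_eq_fintype_card, ← Finset.card_univ, ← Finset.card_image_of_injective (Finset.univ : Finset ↥wSub)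
      (f := fun a : ↥wSub => cdA (a : ↥Cz)) (fun a b h => Subtype.ext (eqA h))]
    exact (Finset.card_le_card fun v hv => by
      obtain ⟨a, -, rfl⟩ := Finset.mem_image.1 hv
      exact List.mem_toFinset.2 a.2).trans (List.toFinset_card_le _)
  have hWfull : ∀ v ∈ wPrime, ∃ a ∈ wSub, cdA a = v := by
    intro v hv
    letI := Fintype.ofFinite ↥wSub
    have h16 : 16 ≤ Nat.card ↥wSub := by
      rw [← card_vSub sideV_ok]
      choose f hf hfe using hgVW
      refine Nat.card_le_card_of_injective (fun a : ↥(vSub sideV_ok) => (⟨f a a.2, hf a a.2⟩ : ↥wSub)) fun a b e => ?_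
      have e' : f a a.2 = f b b.2 := congrArg Subtype.val e
      have := (hfe a a.2).trans (e' ▸ (hfe b b.2).symm)
      exact Subtype.ext (E.inj (mul_left_cancel (mul_right_cancel this)))
    have hsub : ((Finset.univ : Finset ↥wSub).image fun a : ↥wSub => cdA (a : ↥Cz)) = wPrime.toFinset := by
      refine Finset.eq_of_subset_of_card_le (fun v hv => ?_) ?_
      · obtain ⟨a, -, rfl⟩ := Finset.mem_image.1 hv
        exact List.mem_toFinset.2 a.2
      · rw [Finset.card_image_of_injective _ (fun a b h => Subtype.ext (eqA h)), Finset.card_univ,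
          ← Nat.card_eq_fintype_card]
        exact (List.toFinset_card_le _).trans (hlen.le.trans h16)
    have := List.mem_toFinset.2 hv
    rw [← hsub] at this
    obtain ⟨a, -, e⟩ := Finset.mem_image.1 this
    exact ⟨a, a.2, e⟩
  have hgWV : MapsTo E g wSub (vSub sideV_ok) := by
    intro b hb
    obtain ⟨a, ha, e⟩ := MapsTo.surj E hgVW hWcard b hb
    obtain ⟨d, hd, hdu⟩ := cent_four (g := g * g) (E := E) (by
      show g * g * E.t = E.t * (g * g)
      calc g * g * E.t = g * (g * E.t * g⁻¹) * g := by group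
        _ = (g * E.φ uA * g⁻¹) * g * g := by rw [hgt]; group
        _ = _ := by rw [hgu]; group) (by
      show g * g * E.φ uA = E.φ uA * (g * g)
      calc g * g * E.φ uA = g * (g * E.φ uA * g⁻¹) * g := by group
        _ = (g * E.t * g⁻¹) * g * g := by rw [hgu]; group
        _ = _ := by rw [hgt]; group)
    obtain ⟨a', ha', e'⟩ := cent_norm E hdu a ha
    exact ⟨a', ha', by rw [← e', hd, ← e]; group⟩
  set e := wA eWord with he
  have heu' : e * uA = tC * uA * e := eqA (by
    simp only [cdA_mul, he, uA, cdA_wA, cdA_tC]; exact heu)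
  have hnV : MapsTo E (E.φ e) (vSub sideV_ok) (vSub sideV_ok) := by
    rintro _ ⟨i, hi, rfl⟩
    obtain ⟨v, hv, hev⟩ := heV i hi
    obtain ⟨j, hj, rfl⟩ := List.mem_iff_getElem.1 hv
    have hj' : j < 16 := by
      have hv := sideV_ok.v
      simp only [Side.vOK, Bool.and_eq_true, Nat.beq_eq] at hv
      rw [← hv.1.1.1.1.1]; exact hj
    refine ⟨_, ⟨j, hj', rfl⟩, ?_⟩
    rw [mul_inv_eq_iff_eq_mul, ← map_mul, ← map_mul]
    refine congrArg E.φ (eqA ?_)
    rw [cdA_mul, cdA_mul, he, cdA_wA, hc i hi, hc j hj', List.getD_eq_getElem _ _ hj]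
    exact hev
  have hnW : MapsTo E (E.φ e) wSub wSub := by
    intro a ha
    obtain ⟨k, hk, ek⟩ := List.mem_iff_getElem.1 (show cdA a ∈ wPrime from ha)
    obtain ⟨v, hv, hev⟩ := heW k (hlen ▸ hk)
    obtain ⟨b, hb, rfl⟩ := hWfull v hv
    refine ⟨b, hb, ?_⟩
    rw [mul_inv_eq_iff_eq_mul, ← map_mul, ← map_mul]
    refine congrArg E.φ (eqA ?_)
    rw [cdA_mul, cdA_mul, he, cdA_wA]
    rw [List.getD_eq_getElem _ _ hk, ek] at hev
    exact hev
  set h := g * E.φ e with hh
  have hVW : MapsTo E h (vSub sideV_ok) wSub := MapsTo.trans E hnV hgVW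
  have hWV : MapsTo E h wSub (vSub sideV_ok) := MapsTo.trans E hnW hgWV
  have h3' : MapsTo E (h * h * h) (vSub sideV_ok) wSub := by
    have := MapsTo.trans E (MapsTo.trans E hVW hWV) hVW
    rwa [← mul_assoc] at this
  have k1 : h * E.t * h⁻¹ = E.φ uA := by
    calc h * E.t * h⁻¹ = g * (E.φ e * E.t) * (E.φ e)⁻¹ * g⁻¹ := by rw [hh]; group
      _ = g * E.t * g⁻¹ := by rw [(E.comm_t e).eq]; group
      _ = _ := hgt
  have k2 : h * E.φ uA * h⁻¹ = E.φ uA * E.t := by
    calc h * E.φ uA * h⁻¹ = g * E.φ (e * uA) * (E.φ e)⁻¹ * g⁻¹ := by rw [hh, map_mul]; group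
      _ = (g * E.t * g⁻¹) * (g * E.φ uA * g⁻¹) := by rw [heu', map_mul, map_mul, E.map_t]; group
      _ = _ := by rw [hgt, hgu]
  have k3 : h * (E.φ uA * E.t) * h⁻¹ = E.t := by
    calc h * (E.φ uA * E.t) * h⁻¹ = (h * E.φ uA * h⁻¹) * (h * E.t * h⁻¹) := by group
      _ = E.φ uA * (E.t * E.φ uA) := by rw [k1, k2]; group
      _ = E.φ uA * (E.φ uA * E.t) := by rw [(E.comm_t uA).eq]
      _ = E.t := by rw [← mul_assoc, ← map_mul, uA_ne.2.2.1, map_one, one_mul]
  obtain ⟨d, hd, hdu⟩ := cent_four (g := h * h * h) (E := E) (by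
    show h * h * h * E.t = E.t * (h * h * h)
    calc h * h * h * E.t = h * (h * (h * E.t * h⁻¹) * h⁻¹) * h⁻¹ * (h * h * h) := by group
      _ = _ := by rw [k1, k2, k3]) (by
    show h * h * h * E.φ uA = E.φ uA * (h * h * h)
    calc h * h * h * E.φ uA = h * (h * (h * E.φ uA * h⁻¹) * h⁻¹) * h⁻¹ * (h * h * h) := by group
      _ = _ := by rw [k2, k3, k1])
  have hWsubV : ∀ b ∈ wSub, b ∈ vSub sideV_ok := by
    intro b hb
    obtain ⟨a, ha, e1⟩ := MapsTo.surj E h3' hWcard b hb
    obtain ⟨b', hb', e2⟩ := cent_norm E hdu a ha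
    rw [hd] at e2
    rwa [E.inj (e1.symm.trans e2)]
  obtain ⟨v, hv, hvn⟩ : ∃ v ∈ wPrime, v ∉ sideV.vs := by
    by_contra hcon
    push Not at hcon
    rw [List.all_eq_false] at hnsub
    obtain ⟨v, hv, hvn⟩ := hnsub
    exact hvn (by simpa using hcon v hv)
  obtain ⟨b, hb, rfl⟩ := hWfull v hv
  obtain ⟨j, hj, rfl⟩ := hWsubV b hb
  refine hvn ?_
  have hv' := sideV_ok.v
  simp only [Side.vOK, Bool.and_eq_true, Nat.beq_eq] at hv'
  rw [hc j hj, List.getD_eq_getElem _ _ (show j < sideV.vs.length by rw [hv'.1.1.1.1.1]; exact hj)]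
  exact List.getElem_mem _

end Cfsg.Agent.Spor.MclCent
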