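import Cfsg.Agent.Lib.Spor.MclCent.CertChecks
import Cfsg.Agent.Lib.Spor.MclCent.ModelData
import Cfsg.Agent.Lib.Spor.MclCent.LocalData

/-!
The local checks.
-/

set_option autoImplicit false
set_option maxRecDepth 100000
set_option maxHeartbeats 0

namespace Cfsg.Agent.Spor.MclCent

open DCoset

/-- value of a word -/
def evC (w : List ℕ) : ℕ := mclCert.ev mu w

theorem sideV_v : sideV.vOK mu mclCert tLit = true := by decide +kernel
theorem sideV_comp : sideV.compOK mu mclCert = true := by decide +kernel
theorem sideV_tree : sideV.treeOK mu mclCert = true := by decide +kernel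
theorem sideV_self : sideV.selfOK mu mclCert = true := by decide +kernel
theorem sideV_seg : sideV.segOK mu mclCert = true := by decide +kernel
theorem sideW_v : sideW.vOK mu mclCert tLit = true := by decide +kernel
theorem sideW_comp : sideW.compOK mu mclCert = true := by decide +kernel
theorem sideW_tree : sideW.treeOK mu mclCert = true := by decide +kernel
theorem sideW_self : sideW.selfOK mu mclCert = true := by decide +kernel
theorem sideW_seg : sideW.segOK mu mclCert = true := by decide +kernel

theorem sideV_ok : sideV.OK mu mclCert tLit := ⟨sideV_v, sideV_comp, sideV_tree, sideV_self, sideV_seg⟩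
theorem sideW_ok : sideW.OK mu mclCert tLit := ⟨sideW_v, sideW_comp, sideW_tree, sideW_self, sideW_seg⟩

/-- the element of the second side -/
def dLit : ℕ := mu (mu (evC outerWords.1) sLit) (evC outerWords.2)

/-- the links of the relations with the certificate -/
def linkV : Bool :=
  Nat.beq sideV.segVal.length (8 + mclCert.cg.length) &&
  ((List.range 8).all fun r =>
    sideV.segVal.getD r [] == (mclCert.rels.getD r []).map fun z => evC z.1) &&
  ((List.range mclCert.cg.length).all fun k =>
    match sideV.segVal.getD (8 + k) [] with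
    | [p, q] => Nat.beq p (evC (mclCert.cg.getD k ([], [])).1) && Nat.beq (mu (evC (mclCert.cg.getD k ([], [])).2) q) mclCert.one
    | _ => false) &&
  ((List.range sideV.segs.length).all fun r => sideV.machine 0 (sideV.segs.getD r [])) &&
  ((List.range 16).all fun i => Nat.beq (mu sLit (sideV.vs.getD i 0)) (mu (sideV.vs.getD (Side.ap sideV.beta i) 0) sLit)) &&
  Nat.beq (sideV.vs.getD 2 0) (evC mclCert.u) && Nat.beq (Side.ap sideV.beta 1) 2 && Nat.beq (mu sLit tLit) (mu (evC mclCert.u) sLit)

/-- the action of the complement part of a segment -/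
def segAct (D : Side) (l : List ℕ) : List ℕ := l.foldl (fun a k => Side.cmp a (D.pg k)) Side.idA

/-- the links for the second side -/
def linkW : Bool :=
  Nat.beq mclCert.rels.length 13 && Nat.beq sideW.segVal.length 5 &&
  ((List.range 5).all fun r =>
    (mclCert.rels.getD (8 + r) []).map (fun z => evC z.1) ==
      (sideW.segVal.getD r []).map fun n => mu (mu (evC outerWords.2) n) (evC outerWords.1)) &&
  Nat.beq (mu dLit dLit) mclCert.one &&
  Nat.beq (mu (evC outerWords.1) (evC mclCert.u)) (mu (sideW.vs.getD 2 0) (evC outerWords.1)) &&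
  Nat.beq (mu (evC outerWords.2) (sideW.vs.getD 2 0)) (mu (evC mclCert.u) (evC outerWords.2)) &&
  ((List.range 16).all fun i => Nat.beq (mu dLit (sideW.vs.getD i 0)) (mu (sideW.vs.getD (Side.ap sideW.beta i) 0) dLit)) &&
  ((List.range 3).all fun r =>
    match sideW.segVal.getD r [] with
    | [p, q] => Nat.beq (mu p (sideW.vs.getD 2 0)) (mu (sideW.vs.getD 2 0) p) &&
        Nat.beq (mu (mu (mu dLit p) dLit) q) mclCert.one
    | _ => false) &&
  ((List.range sideW.segs.length).all fun r => sideW.machine 0 (sideW.segs.getD r [])) &&
  (List.range 16).all fun w => !(Nat.beq (sideW.mt (Side.ap sideW.beta w) w) 0) ||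
    ((List.range 3).any fun r =>
      match sideW.segs.getD r [] with
      | [p, _] => !(Nat.beq (Side.ap (segAct sideW p.1) w) w)
      | _ => false) ||
    (List.range sideW.segs.length).all fun r => sideW.machine w (sideW.segs.getD r [])

/-- the candidate action with given images of two basis elements -/
def cand (i j : ℕ) : List ℕ :=
  (List.range 16).map fun k =>
    [(1, 2), (2, 1), (4, i), (8, j)].foldl (fun r p => bif Nat.beq (Nat.land k p.1) 0 then r else sideV.mt r p.2) 0

/-- the actions of the complement -/
def pZero : List (List ℕ) := sideV.lTree.foldl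
  (fun acc e => acc ++ [bif Nat.beq acc.length 0 then Side.idA else Side.cmp (acc.getD e.1 []) (sideV.pg e.2.1)]) []

/-- the action of a falsifying word -/
def falsAct (a : List ℕ) (w : List ℕ) : List ℕ :=
  w.foldl (fun r k => Side.cmp r (bif Nat.beq k 0 then a else sideV.pg (k - 1))) Side.idA

/-- one candidate -/
def caseOK (i j : ℕ) : Bool :=
  let a := cand i j
  match caseL.getD (16 * i + j) (3, []) with
  | (0, _) => a.dedup.length != 16
  | (1, l) => l.all (fun g => Nat.blt g 2) && (a == Side.cmp sideV.beta (segAct sideV l))
  | (2, w) => (w.all fun g => Nat.blt g 3) && (a.dedup.length != 16 ||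
      (Nat.beq (Side.ap (falsAct a w) 1) 1 && !(pZero.elem (falsAct a w))))
  | _ => false

/-- the actions in the normalizer of the group -/
def normOK : Bool :=
  ((List.range mclCert.pts.length).all fun k =>
    !(sideV.vs.elem (mclCert.pts.getD k 0)) || (vPoints.map Prod.fst).elem k) &&
  (vPoints.all fun p => p.2.all (fun g => Nat.blt g 2) && Nat.blt p.1 mclCert.pts.length &&
    (List.range 16).all fun i => Nat.beq (mu (evC (mclCert.reps.getD p.1 [])) (sideV.vs.getD i 0))
      (mu (sideV.vs.getD (Side.ap (segAct sideV p.2) i) 0) (evC (mclCert.reps.getD p.1 [])))) &&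
  Nat.beq dActs.length mclCert.cg.length &&
  ((List.range mclCert.cg.length).all fun k => (dActs.getD k []).all (fun g => Nat.blt g 2) &&
    (List.range 16).all fun i => Nat.beq (mu (evC (mclCert.cg.getD k ([], [])).1) (sideV.vs.getD i 0))
      (mu (sideV.vs.getD (Side.ap (segAct sideV (dActs.getD k [])) i) 0) (evC (mclCert.cg.getD k ([], [])).1)))

/-- the elementary groups of order 16 containing the four group in its centralizer -/
def fourOK : Bool :=
  (mclCert.dList.all fun e => !(Nat.beq (mu e.2.2 e.2.2) mclCert.one) || Nat.beq e.2.2 mclCert.one || invD.elem e.2.2) &&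
  Nat.beq wPrime.length 16 && wPrime.dedup.length == 16 && !(wPrime.all fun v => sideV.vs.elem v) &&
  (List.range 3).all (fun k => wPrime.elem (sideV.vs.getD (k + 1) 0)) &&
  ((List.range 16).all fun i => (List.range 16).all fun j => wPrime.elem (mu (wPrime.getD i 0) (wPrime.getD j 0))) &&
  (invD.all fun x => invD.all fun y =>
    let t4 := (List.range 4).map fun k => sideV.vs.getD k 0
    t4.elem x || !(Nat.beq (mu x y) (mu y x)) || (t4 ++ t4.map (fun q => mu q x)).elem y ||
      (sideV.vs.elem x && sideV.vs.elem y) || (wPrime.elem x && wPrime.elem y)) &&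
  Nat.beq (mu (evC eWord) (evC mclCert.u)) (mu (mu tLit (evC mclCert.u)) (evC eWord)) &&
  ((List.range 16).all fun i => sideV.vs.any fun v => Nat.beq (mu (evC eWord) (sideV.vs.getD i 0)) (mu v (evC eWord))) &&
  (List.range 16).all fun i => wPrime.any fun v => Nat.beq (mu (evC eWord) (wPrime.getD i 0)) (mu v (evC eWord))

/-- the Sylow group -/
def sylOK : Bool :=
  sylList.length == 128 && (sylList.map fun e => e.2.2).dedup.length == 128 &&
  ((List.range 128).all fun k =>
    let e := sylList.getD k (0, 0, 0)
    bif Nat.beq k 0 then Nat.beq e.2.2 mclCert.one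
    else Nat.blt e.1 k && Nat.blt e.2.1 sylGens.length && Nat.beq e.2.2 (mu (sylList.getD e.1 (0, 0, 0)).2.2 (evC (sylGens.getD e.2.1 [])))) &&
  (sylList.all fun e => sylGens.all fun g => (sylList.map fun e => e.2.2).elem (mu e.2.2 (evC g))) &&
  (sylList.all fun e => !(Nat.beq (mu e.2.2 e.2.2) mclCert.one) || Nat.beq e.2.2 mclCert.one || Nat.beq e.2.2 tLit ||
    mclCert.pts.elem e.2.2) &&
  sylList.all fun e => Nat.beq e.2.2 mclCert.one || Nat.beq e.2.2 tLit ||
    sylGens.any fun g => !(Nat.beq (mu e.2.2 (evC g)) (mu (evC g) e.2.2))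

theorem linkV_ok : linkV = true := by decide +kernel
theorem linkW_ok : linkW = true := by decide +kernel
theorem norm_ok : normOK = true := by decide +kernel
theorem four_ok : fourOK = true := by decide +kernel
theorem syl_ok : sylOK = true := by decide +kernel
theorem case_ok : ((List.range 16).all fun i => (List.range 16).all fun j => caseOK i j) = true := by decide +kernel

end Cfsg.Agent.Spor.MclCent
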