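import Cfsg.Agent.Lib.Spor.MclCent.Model
import Cfsg.Agent.Lib.Spor.MclCent.LocalChecks
import Cfsg.Agent.Lib.Spor.MclCent.CoverIso

/-!
A group with an involution whose centralizer is the double cover of `A_8`: the Sylow two-subgroup, the classes of
involutions in the centralizer and the centralizer of a four group.
-/

set_option autoImplicit false
set_option maxRecDepth 100000
set_option linter.style.haveILetI false
set_option linter.unusedSectionVars false

namespace Cfsg.Agent.Spor.MclCent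

open DCoset
open Local.FS.McLSmall (K idC)
open Local.FS.McLSmall.Cent (Cz tC tz)

attribute [local irreducible] mu idC mclCert sLit tLit cdK Nat.beq sylList sylGens

/-- the code of an element of the centralizer -/
noncomputable abbrev cdA (a : ↥Cz) : ℕ := RA.cd a

/-- the element of a word -/
noncomputable abbrev wA (w : List ℕ) : ↥Cz := RA.wel w

theorem cdA_wA (w : List ℕ) : cdA (wA w) = evC w := RA.cd_wel w

theorem cdA_one : cdA 1 = mclCert.one := RA.cd_one

theorem cdA_mul (a b : ↥Cz) : cdA (a * b) = mu (cdA a) (cdA b) := RA.cd_mul a b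

theorem cdA_tC : cdA tC = tLit := gen_facts.2.2.2.2.1

theorem eqA {a b : ↥Cz} (h : cdA a = cdA b) : a = b := RA.eq_of_cd h

/-- the second involution of the four group -/
noncomputable def uA : ↥Cz := wA mclCert.u

theorem tC_sq : tC * tC = 1 := Subtype.ext Local.FS.McLSmall.Cent.tz_sq

theorem tC_ne : tC ≠ 1 := fun h => Local.FS.McLSmall.Cent.tz_ne (congrArg Subtype.val h)

theorem tC_central (a : ↥Cz) : a * tC = tC * a :=
  Subtype.ext (Subgroup.mem_centralizer_singleton_iff.1 a.2)

/-- A group in which the centralizer of an involution is the double cover of `A_8`. -/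
structure Emb (G : Type*) [Group G] where
  t : G
  φ : ↥Cz →* G
  inj : Function.Injective φ
  range : φ.range = Subgroup.centralizer ({t} : Set G)
  map_t : φ tC = t

theorem exists_emb {G : Type*} [Group G] [Finite G] (t : G) (ht : orderOf t = 2)
    (hcov : Cfsg.IsNonsplitDoubleCover (Subgroup.centralizer ({t} : Set G)) (alternatingGroup (Fin 8))) :
    ∃ E : Emb G, E.t = t := by
  set C := Subgroup.centralizer ({t} : Set G)
  haveI : Finite ↥Cz := inferInstance
  obtain ⟨e1⟩ := DoubleAlt.cover_iso_model (le_refl 8) hcov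
  obtain ⟨e2⟩ := DoubleAlt.cover_iso_model (le_refl 8) Local.FS.McLSmall.Cent.centralizer_cover
  let e : ↥Cz ≃* ↥C := e2.trans e1.symm
  refine ⟨⟨t, C.subtype.comp e.toMonoidHom, C.subtype_injective.comp e.injective, ?_, ?_⟩, rfl⟩
  · rw [MonoidHom.range_comp, MonoidHom.range_eq_top.2 e.surjective, ← MonoidHom.range_eq_map, Subgroup.range_subtype]
  · obtain ⟨p, q, -, hpq⟩ := Nat.card_eq_two_iff.1 hcov.1
    have hz : e tC ∈ Subgroup.center ↥C := Subgroup.mem_center_iff.2 fun g => by
      obtain ⟨a, rfl⟩ := e.surjective g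
      rw [← map_mul, ← map_mul, tC_central]
    have htC : (⟨t, Subgroup.mem_centralizer_singleton_iff.2 rfl⟩ : ↥C) ∈ Subgroup.center ↥C :=
      Subgroup.mem_center_iff.2 fun g => Subtype.ext (Subgroup.mem_centralizer_singleton_iff.1 g.2)
    have hne : e tC ≠ 1 := fun h => tC_ne (e.injective (h.trans (map_one e).symm))
    have hne' : (⟨t, Subgroup.mem_centralizer_singleton_iff.2 rfl⟩ : ↥C) ≠ 1 := fun h => by
      have := congrArg Subtype.val h
      simp at this
      rw [this, orderOf_one] at ht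
      omega
    have huniq : ∀ x y : Subgroup.center ↥C, x ≠ 1 → y ≠ 1 → x = y := fun x y hx hy => by
      have h : ∀ v : Subgroup.center ↥C, v = p ∨ v = q := fun v => by
        have hv : v ∈ ({p, q} : Set _) := hpq ▸ Set.mem_univ v
        simpa using hv
      rcases h x with rfl | rfl <;> rcases h y with rfl | rfl <;> rcases h 1 with h1 | h1 <;>
        first | rfl | exact absurd h1.symm hx | exact absurd h1.symm hy
    have := huniq ⟨_, hz⟩ ⟨_, htC⟩ (fun h => hne (congrArg Subtype.val h)) fun h => hne' (congrArg Subtype.val h)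
    exact congrArg Subtype.val (congrArg Subtype.val this)

theorem syl_facts : sylList.length = 128 ∧ (sylList.map fun e => e.2.2).dedup.length = 128 ∧
    (∀ k < 128, (bif Nat.beq k 0 then Nat.beq (sylList.getD k (0, 0, 0)).2.2 mclCert.one
      else Nat.blt (sylList.getD k (0, 0, 0)).1 k && Nat.blt (sylList.getD k (0, 0, 0)).2.1 sylGens.length &&
        Nat.beq (sylList.getD k (0, 0, 0)).2.2
          (mu (sylList.getD (sylList.getD k (0, 0, 0)).1 (0, 0, 0)).2.2 (evC (sylGens.getD (sylList.getD k (0, 0, 0)).2.1 [])))) = true) ∧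
    (∀ e ∈ sylList, ∀ g ∈ sylGens, mu e.2.2 (evC g) ∈ sylList.map fun e => e.2.2) ∧
    (∀ e ∈ sylList, mu e.2.2 e.2.2 = mclCert.one → e.2.2 = mclCert.one ∨ e.2.2 = tLit ∨ e.2.2 ∈ mclCert.pts) ∧
    ∀ e ∈ sylList, e.2.2 = mclCert.one ∨ e.2.2 = tLit ∨ ∃ g ∈ sylGens, mu e.2.2 (evC g) ≠ mu (evC g) e.2.2 := by
  have h := syl_ok
  simp only [sylOK, Bool.and_eq_true, beq_iff_eq, List.all_eq_true, List.mem_range, List.elem_iff, Nat.beq_eq,
    Bool.or_eq_true, List.any_eq_true, Bool.not_eq_eq_eq_not, Bool.not_true] at h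
  obtain ⟨⟨⟨⟨⟨h1, h2⟩, h3⟩, h4⟩, h5⟩, h6⟩ := h
  refine ⟨h1, h2, h3, h4, fun e he hsq => ?_, fun e he => ?_⟩
  · rcases h5 e he with ((h | h) | h) | h
    · exact absurd (Nat.beq_eq ▸ hsq) (by simp [h])
    · exact Or.inl h
    · exact Or.inr (Or.inl h)
    · exact Or.inr (Or.inr h)
  · rcases h6 e he with (h | h) | ⟨g, hg, h⟩
    · exact Or.inl h
    · exact Or.inr (Or.inl h)
    · exact Or.inr (Or.inr ⟨g, hg, fun e' => by simp [e'] at h⟩)

/-- a Sylow two-subgroup of the centralizer -/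
noncomputable def sylA : Subgroup ↥Cz := Subgroup.closure {x | ∃ w ∈ sylGens, wA w = x}

theorem sylA_mem : (∀ k < 128, ∃ z ∈ sylA, cdA z = (sylList.getD k (0, 0, 0)).2.2) ∧
    ∀ x ∈ sylA, ∃ e ∈ sylList, e.2.2 = cdA x := by
  obtain ⟨hlen, -, htree, hcl, -, -⟩ := syl_facts
  constructor
  · intro k
    induction k using Nat.strong_induction_on with
    | _ k ih =>
      intro hk
      have e := htree k hk
      rcases Nat.eq_zero_or_pos k with rfl | hk0
      · simp only [Nat.beq_refl, cond_true, Nat.beq_eq] at e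
        exact ⟨1, one_mem _, by rw [cdA_one]; exact e.symm⟩
      · rw [show Nat.beq k 0 = false from Bool.eq_false_iff.2 fun e => hk0.ne' (Nat.eq_of_beq_eq_true e)] at e
        simp only [cond_false, Bool.and_eq_true, Nat.blt_eq, Nat.beq_eq] at e
        obtain ⟨⟨h1, h2⟩, h3⟩ := e
        obtain ⟨z, hz, hzc⟩ := ih _ h1 (h1.trans hk)
        refine ⟨z * wA (sylGens.getD (sylList.getD k (0, 0, 0)).2.1 []),
          mul_mem hz (Subgroup.subset_closure ⟨_, ?_, rfl⟩), ?_⟩
        · rw [List.getD_eq_getElem _ _ h2]; exact List.getElem_mem h2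
        · rw [cdA_mul, hzc, cdA_wA, h3]
  · intro x hx
    rw [sylA, ← Subgroup.mem_toSubmonoid, Subgroup.closure_toSubmonoid_of_finite] at hx
    induction hx using Submonoid.closure_induction_right with
    | one =>
      have h0 : 0 < sylList.length := by omega
      have e := htree 0 (by norm_num)
      simp only [Nat.beq_refl, cond_true, Nat.beq_eq] at e
      exact ⟨_, List.getElem_mem h0, by rw [← List.getD_eq_getElem _ (0, 0, 0) h0, e, cdA_one]⟩
    | mul_right x _ y hy ih =>
      obtain ⟨w, hw, rfl⟩ := hy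
      obtain ⟨e, he, hev⟩ := ih
      obtain ⟨e', he', hev'⟩ := List.mem_map.1 (hcl e he w hw)
      exact ⟨e', he', by rw [hev', hev, cdA_mul, cdA_wA]⟩

theorem card_sylA : Nat.card ↥sylA = 128 := by
  classical
  haveI := Fintype.ofFinite ↥sylA
  obtain ⟨hlen, hnd, -⟩ := syl_facts
  obtain ⟨hin, hall⟩ := sylA_mem
  have himg : (Finset.univ : Finset ↥sylA).image (fun x : ↥sylA => cdA (x : ↥Cz)) =
      (sylList.map fun e => e.2.2).toFinset := by
    ext v
    simp only [Finset.mem_image, Finset.mem_univ, true_and, List.mem_toFinset, List.mem_map]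
    constructor
    · rintro ⟨x, rfl⟩
      obtain ⟨e, he, hev⟩ := hall x x.2
      exact ⟨e, he, hev⟩
    · rintro ⟨e, he, rfl⟩
      obtain ⟨k, hk, rfl⟩ := List.mem_iff_getElem.1 he
      obtain ⟨z, hz, hzv⟩ := hin k (hlen ▸ hk)
      exact ⟨⟨z, hz⟩, by rw [hzv, List.getD_eq_getElem _ _ hk]⟩
  have h := congrArg Finset.card himg
  rw [Finset.card_image_of_injective _ (fun a b h => Subtype.ext (eqA h)), List.card_toFinset, hnd] at h
  rw [Nat.card_eq_fintype_card, ← Finset.card_univ, h]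

theorem conj_of_pts {a : ↥Cz} (h : cdA a ∈ mclCert.pts) : IsConj uA a := by
  obtain ⟨hp, hrep, -, -⟩ := pts_spec (R := RA) cert_ok.pts
  obtain ⟨k, hk, e⟩ := List.mem_iff_getElem.1 h
  have : a = RA.wel (mclCert.pw.getD k []) := RA.eq_of_cd (by rw [← hp k hk, List.getD_eq_getElem _ _ hk, e])
  refine isConj_iff.2 ⟨RA.wel (mclCert.reps.getD k []), ?_⟩
  rw [mul_inv_eq_iff_eq_mul, this]
  exact (hrep k hk).symm

/-- the involutions of the centralizer -/
theorem invol_A {a : ↥Cz} (h2 : a * a = 1) (h1 : a ≠ 1) : a = tC ∨ IsConj uA a := by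
  classical
  let P : Sylow 2 ↥Cz := Sylow.ofCard sylA (by
    rw [card_sylA, card_Cz]
    have : Nat.factorization 40320 2 = 7 := by
      rw [show (40320 : ℕ) = 2 ^ 7 * 315 by norm_num, Nat.factorization_mul (by norm_num) (by norm_num),
        Finsupp.add_apply, Nat.Prime.factorization_pow Nat.prime_two,
        Nat.factorization_eq_zero_of_not_dvd (show ¬ 2 ∣ 315 by norm_num)]
      simp
    rw [this]; norm_num)
  have hp : IsPGroup 2 (Subgroup.zpowers a) := IsPGroup.of_card (n := 1) (by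
    rw [Nat.card_zpowers, pow_one, orderOf_eq_prime (p := 2) (by rw [pow_two]; exact h2) h1])
  obtain ⟨Q, hQ⟩ := hp.exists_le_sylow
  obtain ⟨c, hc⟩ := MulAction.exists_smul_eq ↥Cz Q P
  have hmem : c * a * c⁻¹ ∈ sylA := by
    show c * a * c⁻¹ ∈ (P : Subgroup ↥Cz)
    rw [← hc, Sylow.coe_subgroup_smul]
    exact ⟨a, hQ (Subgroup.mem_zpowers a), rfl⟩
  obtain ⟨e, he, hev⟩ := sylA_mem.2 _ hmem
  have hsq : mu e.2.2 e.2.2 = mclCert.one := by
    rw [hev, ← cdA_mul, show c * a * c⁻¹ * (c * a * c⁻¹) = c * (a * a) * c⁻¹ by group, h2]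
    simp [cdA_one]
  obtain ⟨-, -, -, -, hinv, -⟩ := syl_facts
  have hne : c * a * c⁻¹ ≠ 1 := fun e => h1 (conj_eq_one_iff.1 e)
  rcases hinv e he hsq with h | h | h
  · exact absurd (eqA ((hev.symm.trans h).trans cdA_one.symm)) hne
  · left
    have h3 : c * a * c⁻¹ = tC := eqA ((hev.symm.trans h).trans cdA_tC.symm)
    calc a = c⁻¹ * (c * a * c⁻¹) * c := by group
      _ = c⁻¹ * (tC * c) := by rw [h3, mul_assoc]
      _ = tC := by rw [← tC_central, inv_mul_cancel_left]
  · right
    exact (conj_of_pts (hev ▸ h)).trans (isConj_iff.2 ⟨c⁻¹, by group⟩)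

theorem sylA_center {a : ↥Cz} (ha : a ∈ sylA) (hc : ∀ b ∈ sylA, a * b = b * a) : a = 1 ∨ a = tC := by
  obtain ⟨e, he, hev⟩ := sylA_mem.2 _ ha
  obtain ⟨-, -, -, -, -, hz⟩ := syl_facts
  rcases hz e he with h | h | ⟨g, hg, h⟩
  · exact Or.inl (eqA ((hev.symm.trans h).trans cdA_one.symm))
  · exact Or.inr (eqA ((hev.symm.trans h).trans cdA_tC.symm))
  · refine absurd ?_ h
    rw [hev, ← cdA_wA, ← cdA_mul, ← cdA_mul, hc _ (Subgroup.subset_closure ⟨g, hg, rfl⟩)]

variable {G : Type*} [Group G] [Finite G] (E : Emb G)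

theorem Emb.mem_range {x : G} (h : Commute x E.t) : ∃ a, E.φ a = x := by
  have : x ∈ E.φ.range := by rw [E.range]; exact Subgroup.mem_centralizer_singleton_iff.2 h.eq
  exact this

theorem Emb.comm_t (a : ↥Cz) : Commute (E.φ a) E.t := by
  show E.φ a * E.t = E.t * E.φ a
  rw [← E.map_t, ← map_mul, ← map_mul, tC_central]

theorem Emb.t_sq : E.t * E.t = 1 := by rw [← E.map_t, ← map_mul, tC_sq, map_one]

theorem Emb.t_ne : E.t ≠ 1 := fun h => tC_ne (E.inj (by rw [E.map_t, h, map_one]))

/-- the order of the group is not divisible by 256 -/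
theorem Emb.not_dvd {G : Type*} [Group G] [Finite G] (E : Emb G) : ¬ 256 ∣ Nat.card G := by
  intro hd
  have hPcard : Nat.card ↥(sylA.map E.φ) = 2 ^ 7 := by
    rw [Subgroup.card_map_of_injective E.inj, card_sylA]; norm_num
  obtain ⟨X, hX, hPX⟩ := Sylow.exists_subgroup_card_pow_succ (G := G) (p := 2) (n := 7) (by simpa using hd) hPcard
  haveI : Finite ↥X := inferInstance
  have hidx : ((sylA.map E.φ).subgroupOf X).index = 2 := by
    have h := ((sylA.map E.φ).subgroupOf X).card_mul_index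
    rw [Nat.card_congr (Subgroup.subgroupOfEquivOfLe hPX).toEquiv, hPcard, hX] at h
    omega
  haveI := Subgroup.normal_of_index_eq_two hidx
  have hXC : X ≤ E.φ.range := by
    intro x hx
    rw [E.range, Subgroup.mem_centralizer_singleton_iff]
    have htP : E.t ∈ sylA.map E.φ := by
      by_contra hn
      obtain ⟨P, hP⟩ : ∃ P : Sylow 2 ↥Cz, (P : Subgroup ↥Cz) = sylA := ⟨Sylow.ofCard sylA (by
        rw [card_sylA, card_Cz]
        have : Nat.factorization 40320 2 = 7 := by
          rw [show (40320 : ℕ) = 2 ^ 7 * 315 by norm_num, Nat.factorization_mul (by norm_num) (by norm_num),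
            Finsupp.add_apply, Nat.Prime.factorization_pow Nat.prime_two,
            Nat.factorization_eq_zero_of_not_dvd (show ¬ 2 ∣ 315 by norm_num)]
          simp
        rw [this]; norm_num), rfl⟩
      have hp : IsPGroup 2 (Subgroup.zpowers tC) := IsPGroup.of_card (n := 1) (by
        rw [Nat.card_zpowers, pow_one, orderOf_eq_prime (p := 2) (by rw [pow_two]; exact tC_sq) tC_ne])
      haveI : (Subgroup.zpowers tC).Normal := ⟨fun n hn g => by
        obtain ⟨k, rfl⟩ := Subgroup.mem_zpowers_iff.1 hn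
        rw [show g * tC ^ k = tC ^ k * g from ((show Commute g tC from tC_central g).zpow_right k).eq, mul_inv_cancel_right]
        exact Subgroup.zpow_mem _ (Subgroup.mem_zpowers tC) k⟩
      obtain ⟨Q, hQ⟩ := hp.exists_le_sylow
      obtain ⟨c, hc⟩ := MulAction.exists_smul_eq ↥Cz Q P
      refine hn ⟨tC, ?_, E.map_t⟩
      rw [← hP, ← hc, Sylow.coe_subgroup_smul]
      exact ⟨tC, hQ (Subgroup.mem_zpowers tC), show c * tC * c⁻¹ = tC by rw [tC_central, mul_inv_cancel_right]⟩
    have hmem : x * E.t * x⁻¹ ∈ sylA.map E.φ :=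
      Subgroup.Normal.conj_mem (H := (sylA.map E.φ).subgroupOf X) ‹_› ⟨E.t, hPX htP⟩ htP ⟨x, hx⟩
    obtain ⟨a, ha, hax⟩ := hmem
    have hcen : a = 1 ∨ a = tC := sylA_center ha fun b hb => E.inj (by
      rw [map_mul, map_mul, hax]
      have hb' : x⁻¹ * E.φ b * x ∈ sylA.map E.φ := by
        have h := Subgroup.mem_subgroupOf.1 (Subgroup.Normal.conj_mem (H := (sylA.map E.φ).subgroupOf X) ‹_›
          ⟨E.φ b, hPX ⟨b, hb, rfl⟩⟩ ⟨b, hb, rfl⟩ ⟨x⁻¹, inv_mem hx⟩)
        simpa only [Subgroup.coe_mul, Subgroup.coe_inv, inv_inv] using h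
      obtain ⟨b', -, hb'⟩ := hb'
      have hc := E.comm_t b'
      rw [hb'] at hc
      calc x * E.t * x⁻¹ * E.φ b = x * (E.t * (x⁻¹ * E.φ b * x)) * x⁻¹ := by group
        _ = x * (x⁻¹ * E.φ b * x * E.t) * x⁻¹ := by rw [hc.eq]
        _ = _ := by group)
    rcases hcen with rfl | rfl
    · rw [map_one] at hax
      exact absurd (conj_eq_one_iff.1 hax.symm) E.t_ne
    · rw [E.map_t] at hax
      exact (mul_inv_eq_iff_eq_mul.1 hax.symm)
  have h := Subgroup.card_dvd_of_le hXC
  rw [← Nat.card_congr (MonoidHom.ofInjective E.inj).toEquiv, card_Cz, hX] at h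
  norm_num at h

end Cfsg.Agent.Spor.MclCent
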