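import Cfsg.Agent.Lib.Spor.MclCent.CertChecks
import Cfsg.Agent.Lib.Spor.MclCent.ModelData
import Cfsg.Agent.Lib.Local.FS.McLCent

/-!
The centralizer of an involution in the McLaughlin group, generated by four elements, and a fifth element which
generates the group with it.
-/

set_option autoImplicit false
set_option maxRecDepth 100000
set_option maxHeartbeats 0
set_option linter.style.haveILetI false

namespace Cfsg.Agent.Spor.MclCent

open DCoset
open Local.FS.McLSmall (K act code code_mul code_one code_injective act_injective pmul idC)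
open Local.FS.McLSmall.Cent (pe el code_el finite_K card_K tz zI Cz card_Cz_le)

instance : Finite ↥K := finite_K

/-- the code of an element: the packed permutation of the inverse -/
noncomputable def cdK (g : ↥K) : ℕ := code (act g⁻¹)

theorem cdK_mul (g h : ↥K) : cdK (g * h) = mu (cdK g) (cdK h) := by
  rw [cdK, cdK, cdK, mu, mul_inv_rev, map_mul, code_mul]

theorem cdK_one : cdK 1 = idC := by rw [cdK, inv_one, map_one, code_one]

theorem cdK_inj : Function.Injective cdK := fun _ _ h => inv_injective (act_injective (code_injective h))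

theorem eqK {g h : ↥K} (e : cdK g = cdK h) : g = h := cdK_inj e

/-- the check of one step of the program -/
def ndOK (k : ℕ) : Bool :=
  match prog.getD k (Nd.el 0) with
  | Nd.el i => Nat.beq (progLit.getD k 0) (pe i)
  | Nd.mul i j => Nat.blt i k && Nat.blt j k && Nat.beq (progLit.getD k 0) (mu (progLit.getD i 0) (progLit.getD j 0))

theorem nd_ok : ((List.range progLit.length).all ndOK) = true := by decide +kernel

attribute [local irreducible] idC pmul code pe progLit prog mclCert

theorem exists_lit : ∀ k < progLit.length, ∃ g : ↥K, cdK g = progLit.getD k 0 := by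
  intro k
  induction k using Nat.strong_induction_on with
  | _ k ih =>
    intro hk
    have h := List.all_eq_true.1 nd_ok k (List.mem_range.2 hk)
    unfold ndOK at h
    rcases hp : prog.getD k (Nd.el 0) with i | ⟨i, j⟩ <;> rw [hp] at h <;>
      simp only [Bool.and_eq_true, Nat.beq_eq, Nat.blt_eq] at h
    · exact ⟨(el i)⁻¹, by rw [cdK, inv_inv, code_el, h]⟩
    · obtain ⟨g, hg⟩ := ih i h.1.1 (h.1.1.trans hk)
      obtain ⟨g', hg'⟩ := ih j h.1.2 (h.1.2.trans hk)
      exact ⟨g * g', by rw [cdK_mul, hg, hg', h.2]⟩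

/-- the five generators -/
noncomputable def genK (k : ℕ) : ↥K :=
  if h : k < 5 ∧ genPos.getD k 0 < progLit.length then (exists_lit _ h.2).choose else 1

theorem gen_data : (genPos.length == 5 && (genPos.all fun k => Nat.blt k progLit.length) &&
    ((List.range 4).all fun k => Nat.beq (progLit.getD (genPos.getD k 0) 0) (mclCert.gens.getD k mclCert.one)) &&
    Nat.beq (progLit.getD (genPos.getD 4 0) 0) sLit && Nat.beq mclCert.gens.length 4 &&
    Nat.beq mclCert.one idC && Nat.beq tLit (pe zI) && Nat.beq (mu sLit sLit) idC &&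
    (mclCert.gens.all fun g => Nat.beq (mu g tLit) (mu tLit g))) = true := by decide +kernel

theorem gen_facts : (∀ k < 4, cdK (genK k) = mclCert.gens.getD k mclCert.one) ∧ cdK (genK 4) = sLit ∧
    mclCert.gens.length = 4 ∧ mclCert.one = idC ∧ cdK tz = tLit ∧ mu sLit sLit = idC ∧
    ∀ g ∈ mclCert.gens, mu g tLit = mu tLit g := by
  have h := gen_data
  simp only [Bool.and_eq_true, beq_iff_eq, List.all_eq_true, List.mem_range, Nat.beq_eq, Nat.blt_eq] at h
  obtain ⟨⟨⟨⟨⟨⟨⟨⟨h5, hlt⟩, hg⟩, hs⟩, hlen⟩, hone⟩, ht⟩, hss⟩, hcomm⟩ := h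
  have hsp : ∀ k < 5, cdK (genK k) = progLit.getD (genPos.getD k 0) 0 := by
    intro k hk
    have hk' : genPos.getD k 0 < progLit.length := hlt _ (by
      rw [List.getD_eq_getElem _ _ (h5.symm ▸ hk)]; exact List.getElem_mem _)
    rw [genK, dif_pos ⟨hk, hk'⟩]
    exact (exists_lit _ hk').choose_spec
  refine ⟨fun k hk => (hsp k (by omega)).trans (hg k hk), (hsp 4 (by norm_num)).trans hs, hlen, hone, ?_, hss, hcomm⟩
  have e : tz⁻¹ = tz := inv_eq_of_mul_eq_one_right Local.FS.McLSmall.Cent.tz_sq
  rw [ht, cdK, e]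
  exact code_el zI

/-- the element outside the centralizer -/
noncomputable def sK : ↥K := genK 4

theorem sK_sq : sK * sK = 1 := eqK (by rw [cdK_mul, sK, gen_facts.2.1, gen_facts.2.2.2.2.2.1, cdK_one])

theorem genK_mem (k : ℕ) : (if k < 4 then genK k else 1) ∈ Cz := by
  split_ifs with hk
  · refine Subgroup.mem_centralizer_singleton_iff.2 (eqK ?_)
    obtain ⟨hg, -, hlen, -, ht, -, hc⟩ := gen_facts
    rw [cdK_mul, cdK_mul, hg k hk, ht]
    exact hc _ (by rw [List.getD_eq_getElem _ _ (hlen.symm ▸ hk)]; exact List.getElem_mem _)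
  · exact one_mem _

/-- the generators of the centralizer -/
noncomputable def genA (k : ℕ) : ↥Cz := ⟨if k < 4 then genK k else 1, genK_mem k⟩

theorem cd_genA (k : ℕ) : cdK (genA k : ↥K) = mclCert.gens.getD k mclCert.one := by
  show cdK (if k < 4 then genK k else 1) = _
  split_ifs with hk
  · exact gen_facts.1 k hk
  · rw [List.getD_eq_default _ _ (by rw [gen_facts.2.2.1]; omega), cdK_one, gen_facts.2.2.2.1]

/-- the group generated by the four elements -/
noncomputable def A4 : Subgroup ↥Cz := Subgroup.closure (Set.range fun k : Fin mclCert.gens.length => genA k)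

theorem genA_mem4 (k : ℕ) : genA k ∈ A4 := by
  rcases Nat.lt_or_ge k mclCert.gens.length with hk | hk
  · exact Subgroup.subset_closure ⟨⟨k, hk⟩, rfl⟩
  · rw [gen_facts.2.2.1] at hk
    rw [show genA k = 1 from Subtype.ext (if_neg (by omega))]
    exact one_mem _

/-- the representation of the group generated -/
noncomputable def R4 : DCoset.Rep ↥A4 mu mclCert where
  cd a := cdK ((a : ↥Cz) : ↥K)
  cd_mul a b := cdK_mul _ _
  cd_one := cdK_one.trans gen_facts.2.2.2.1.symm
  cd_inj _ _ h := Subtype.ext (Subtype.ext (eqK h))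
  gen k := ⟨genA k, genA_mem4 k⟩
  cd_gen k := cd_genA k
  gen_top := by
    refine Subgroup.map_injective A4.subtype_injective ?_
    rw [MonoidHom.map_closure, ← MonoidHom.range_eq_map, Subgroup.range_subtype, ← Set.range_comp]
    rfl

theorem card_A4_ge : 40320 ≤ Nat.card ↥A4 := by
  classical
  haveI := Fintype.ofFinite ↥A4
  obtain ⟨hp, hrep, -, -⟩ := pts_spec (R := R4) cert_ok.pts
  have hs := cert_size
  simp only [Cert.sizeOK, Bool.and_eq_true, beq_iff_eq, Nat.beq_eq] at hs
  obtain ⟨⟨-, hnd⟩, hprod⟩ := hs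
  have hd := cert_ok.dl
  simp only [Cert.dOK, List.all_eq_true, List.mem_range] at hd
  have hcg := cert_ok.cg
  simp only [Cert.cgOK, List.all_eq_true, Nat.beq_eq] at hcg
  have hv : ∀ k < mclCert.dList.length, ∃ z : ↥A4, Commute z (R4.wel mclCert.u) ∧
      R4.cd z = (mclCert.dList.getD k (0, 0, 0)).2.2 := by
    intro k
    induction k using Nat.strong_induction_on with
    | _ k ih =>
      intro hk
      have e := hd k hk
      rcases Nat.eq_zero_or_pos k with rfl | hk0
      · simp only [Nat.beq_refl, cond_true, Nat.beq_eq] at e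
        exact ⟨1, Commute.one_left _, by rw [R4.cd_one]; exact e.symm⟩
      · rw [show Nat.beq k 0 = false from Bool.eq_false_iff.2 fun e => hk0.ne' (Nat.eq_of_beq_eq_true e)] at e
        simp only [cond_false, Bool.and_eq_true, Nat.blt_eq, Nat.beq_eq] at e
        obtain ⟨⟨h1, h2⟩, h3⟩ := e
        obtain ⟨z, hz, hzc⟩ := ih _ h1 (h1.trans hk)
        have hm : mclCert.cg.getD (mclCert.dList.getD k (0, 0, 0)).2.1 ([], []) ∈ mclCert.cg := by
          rw [List.getD_eq_getElem _ _ h2]; exact List.getElem_mem h2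
        refine ⟨z * R4.wel (mclCert.cg.getD (mclCert.dList.getD k (0, 0, 0)).2.1 ([], [])).1,
          hz.mul_left (R4.eq_of_cd ?_), ?_⟩
        · rw [R4.cd_mul, R4.cd_mul, R4.cd_wel, R4.cd_wel]; exact hcg _ hm
        · rw [R4.cd_mul, hzc, R4.cd_wel, h3]
  choose z hzc hzv using hv
  have hinj : Function.Injective fun kl : Fin mclCert.pts.length × Fin mclCert.dList.length =>
      R4.wel (mclCert.reps.getD kl.1 []) * z kl.2 kl.2.2 := by
    rintro ⟨k, a⟩ ⟨l, b⟩ e
    simp only at e
    have h1 : R4.wel (mclCert.pw.getD k []) * (R4.wel (mclCert.reps.getD k []) * z a a.2) =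
        R4.wel (mclCert.reps.getD k []) * z a a.2 * R4.wel mclCert.u := by
      rw [← mul_assoc, hrep k k.2, mul_assoc, mul_assoc, (hzc a a.2).eq]
    have h2 : R4.wel (mclCert.pw.getD l []) * (R4.wel (mclCert.reps.getD l []) * z b b.2) =
        R4.wel (mclCert.reps.getD l []) * z b b.2 * R4.wel mclCert.u := by
      rw [← mul_assoc, hrep l l.2, mul_assoc, mul_assoc, (hzc b b.2).eq]
    rw [← e, ← h1] at h2
    have h3 := hp l l.2
    rw [mul_right_cancel h2, ← hp k k.2, List.getD_eq_getElem _ _ l.2, List.getD_eq_getElem _ _ k.2] at h3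
    obtain rfl : k = l := Fin.ext ((pts_nodup.getElem_inj_iff).1 h3.symm)
    have h4 := congrArg R4.cd (mul_left_cancel e)
    rw [hzv, hzv, List.getD_eq_getElem _ _ a.2, List.getD_eq_getElem _ _ b.2] at h4
    have hn : (Cert.vals mclCert.dList).Nodup :=
      (List.dedup_sublist _).eq_of_length (by rw [hnd]; simp [Cert.vals]) ▸ List.nodup_dedup _
    have hab : (a : ℕ) = b := (hn.getElem_inj_iff (hi := by simp [Cert.vals]) (hj := by simp [Cert.vals])).1
      (by simpa [Cert.vals] using h4)
    exact Prod.ext rfl (Fin.ext hab)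
  have := Nat.card_le_card_of_injective _ hinj
  rwa [Nat.card_prod, Nat.card_fin, Nat.card_fin, hprod] at this

theorem A4_top : A4 = ⊤ :=
  Subgroup.eq_top_of_le_card _ (card_Cz_le.trans card_A4_ge)

theorem card_Cz : Nat.card ↥Cz = 40320 :=
  le_antisymm card_Cz_le (by
    have := card_A4_ge
    rwa [A4_top, Subgroup.card_top] at this)

/-- the representation of the centralizer -/
noncomputable def RA : DCoset.Rep ↥Cz mu mclCert where
  cd a := cdK (a : ↥K)
  cd_mul a b := cdK_mul _ _
  cd_one := cdK_one.trans gen_facts.2.2.2.1.symm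
  cd_inj _ _ h := Subtype.ext (eqK h)
  gen := genA
  cd_gen k := cd_genA k
  gen_top := A4_top

end Cfsg.Agent.Spor.MclCent
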