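import Cfsg.Agent.Lib.Spor.MclCent.FourAct

/-!
The relations of the certificate hold in the group and in the McLaughlin group.
-/

set_option autoImplicit false
set_option maxRecDepth 100000
set_option maxHeartbeats 1000000
set_option linter.style.haveILetI false
set_option linter.unusedSectionVars false

namespace Cfsg.Agent.Spor.MclCent

open DCoset
open Local.FS.McLSmall (K idC)
open Local.FS.McLSmall.Cent (Cz tC tz)

/-- the relations in the model -/
def kRelOK : Bool :=
  (mclCert.cg.all fun w => Nat.beq (mu (evC w.1) sLit) (mu sLit (evC w.2))) &&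
  (mclCert.rels.all fun zs => Nat.beq (zs.foldl (fun r z => mu (mu r (evC z.1)) sLit) mclCert.one) mclCert.one) &&
  (List.range 16).all fun i => Nat.beq (sideW.mt i i) 0

theorem kRel_ok : kRelOK = true := by decide +kernel

attribute [local irreducible] vA xA mu idC mclCert sLit tLit cdK Nat.beq sideV sideW dLit

theorem cdK_sK : cdK sK = sLit := gen_facts.2.1

theorem cdK_coe (a : ↥Cz) : cdK (a : ↥K) = cdA a := rfl

/-- The relations of the certificate in the McLaughlin group. -/
noncomputable def sysK : DCoset.Sys RA ↥K where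
  φ := Cz.subtype
  σ := sK
  sq := sK_sq
  twist w hw := by
    have h := kRel_ok
    simp only [kRelOK, Bool.and_eq_true, List.all_eq_true, Nat.beq_eq] at h
    refine eqK ?_
    rw [cdK_mul, cdK_mul, cdK_sK, Subgroup.coe_subtype, cdK_coe, cdK_coe, cdA_wA, cdA_wA]
    exact h.1.1 w hw
  rel zs hzs := by
    have h := kRel_ok
    simp only [kRelOK, Bool.and_eq_true, List.all_eq_true, Nat.beq_eq] at h
    have e : ∀ (zs : List (List ℕ × List ℕ)) (r : ↥K), cdK (r * (zs.map fun z => Cz.subtype (RA.wel z.1) * sK).prod) =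
        zs.foldl (fun r z => mu (mu r (evC z.1)) sLit) (cdK r) := by
      intro zs
      induction zs with
      | nil => intro r; simp
      | cons z zs ih =>
        intro r
        rw [List.map_cons, List.prod_cons, List.foldl_cons, ← mul_assoc, ih, ← mul_assoc, cdK_mul, cdK_mul, cdK_sK,
          Subgroup.coe_subtype, cdK_coe, cdA_wA]
    refine eqK ?_
    have := e zs 1
    rw [one_mul] at this
    rw [this, cdK_one, ← gen_facts.2.2.2.1]
    exact h.1.2 zs hzs

variable {G : Type*} [Group G] [Finite G]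

/-- reading a list of segments as a relation -/
theorem rel_of_segs {D : Side} (h : D.OK mu mclCert tLit) (E : Emb G) {σ : G} {w : ℕ}
    (hrel : ∀ segs : List (List ℕ × ℕ), (∀ sg ∈ segs, (∀ g ∈ sg.1, g < 2) ∧ sg.2 < 16) →
      D.machine w segs = true → (segs.map fun sg => E.φ (segA D sg) * (σ * E.φ (vA D w))).prod = 1)
    {r : ℕ} (hr : r < D.segs.length) (hm : D.machine w (D.segs.getD r []) = true)
    (zs : List ↥Cz) (hz : (D.segVal.getD r []) = zs.map cdA) :
    (zs.map fun z => E.φ z * (σ * E.φ (vA D w))).prod = 1 := by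
  have hs := h.seg
  simp only [Side.segOK, Bool.and_eq_true, List.all_eq_true, List.mem_range, Nat.beq_eq, Nat.blt_eq] at hs
  obtain ⟨hlen, hk⟩ := hs.2 r hr
  have hok : ∀ sg ∈ D.segs.getD r [], (∀ g ∈ sg.1, g < 2) ∧ sg.2 < 16 := fun sg hsg => by
    obtain ⟨k, hk', rfl⟩ := List.mem_iff_getElem.1 hsg
    obtain ⟨⟨h1, h2⟩, -⟩ := hk k hk'
    rw [List.getD_eq_getElem _ _ hk'] at h1 h2
    exact ⟨h1, h2⟩
  have e : (D.segs.getD r []).map (segA D) = zs := by
    refine List.map_injective_iff.2 (fun a b => eqA) ?_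
    rw [← hz]
    refine List.ext_getElem (by rw [List.length_map]; simpa using hlen) fun k h1 h2 => ?_
    have hk' : k < (D.segs.getD r []).length := by simpa using h1
    obtain ⟨⟨-, h3⟩, h4⟩ := hk k hk'
    rw [List.getD_eq_getElem _ _ hk', List.getD_eq_getElem _ _ h2] at h4
    rw [List.getD_eq_getElem _ _ hk'] at h3
    rw [List.getElem_map, List.getElem_map, segA, cdA_mul, cdA_lA, (v_facts h).1 _ h3]
    exact h4
  have := hrel _ hok hm
  rw [← e, List.map_map]
  exact this

theorem vA_zero {D : Side} (h : D.OK mu mclCert tLit) : vA D 0 = 1 := (v_facts h).2.1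

/-- the twist by the fifth element -/
def Twists (E : Emb G) (σ : G) : Prop :=
  ∀ c : ↥Cz, Commute c uA → ∃ c' : ↥Cz, (c' : ↥K) = sK * c * sK ∧ E.φ c * σ = σ * E.φ c'

theorem twists_of_gens (E : Emb G) {σ : G} (hσ : σ * σ = 1)
    (h : ∀ w ∈ mclCert.cg, E.φ (wA w.1) * σ = σ * E.φ (wA w.2)) : Twists E σ := by
  have hsi : sK⁻¹ = sK := inv_eq_of_mul_eq_one_right sK_sq
  let T : Subgroup ↥Cz :=
    { carrier := {c | ∃ c' : ↥Cz, (c' : ↥K) = sK * c * sK ∧ E.φ c * σ = σ * E.φ c'}
      one_mem' := ⟨1, by simp [sK_sq], by simp⟩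
      mul_mem' := fun {a b} ⟨a', ha, ha'⟩ ⟨b', hb, hb'⟩ => ⟨a' * b', by
        rw [Subgroup.coe_mul, Subgroup.coe_mul, ha, hb]
        calc sK * (a : ↥K) * sK * (sK * b * sK) = sK * a * (sK * sK) * b * sK := by group
          _ = _ := by rw [sK_sq]; group, by
        rw [map_mul, map_mul, mul_assoc, hb', ← mul_assoc, ha', mul_assoc]⟩
      inv_mem' := fun {a} ⟨a', ha, ha'⟩ => ⟨a'⁻¹, by
        rw [Subgroup.coe_inv, Subgroup.coe_inv, ha, mul_inv_rev, mul_inv_rev, hsi, mul_assoc], by
        rw [map_inv, map_inv, inv_mul_eq_iff_eq_mul, ← mul_assoc, ha', mul_assoc, mul_inv_cancel, mul_one]⟩ }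
  intro c hc
  have hle : Subgroup.centralizer ({uA} : Set ↥Cz) ≤ T := by
    rw [← closure_dGens, Subgroup.closure_le]
    rintro _ ⟨w, hw, rfl⟩
    refine ⟨wA w.2, ?_, h w hw⟩
    have e := sysK.twist w hw
    simp only [sysK, Subgroup.coe_subtype] at e
    rw [mul_assoc, show ((wA w.1 : ↥Cz) : ↥K) * sK = sK * (wA w.2 : ↥Cz) from e, ← mul_assoc, sK_sq, one_mul]
  exact hle (Subgroup.mem_centralizer_singleton_iff.2 hc.eq)

/-- the relations hold in the group -/
theorem exists_sys (E : Emb G) (hF : Fused E) : ∃ S : DCoset.Sys RA G, S.φ = E.φ := by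
  obtain ⟨g, hg⟩ := exists_acting E hF
  obtain ⟨σ, hσ2, hσa, -, hrel⟩ := split sideV_ok E hg
  have hL := linkV_ok
  simp only [linkV, Bool.and_eq_true, List.all_eq_true, List.mem_range, Nat.beq_eq, beq_iff_eq] at hL
  obtain ⟨⟨⟨⟨⟨⟨⟨hlen, hB⟩, hT⟩, hmach⟩, hbeta⟩, hu⟩, -⟩, hsu⟩ := hL
  have hv0 := vA_zero sideV_ok
  have hrelV : ∀ r < sideV.segs.length, ∀ zs : List ↥Cz, sideV.segVal.getD r [] = zs.map cdA →
      (zs.map fun z => E.φ z * σ).prod = 1 := fun r hr zs hz => by
    have := rel_of_segs sideV_ok E (fun segs hs hm => hrel segs hs 0 (by norm_num) hm) hr (hmach r hr) zs hz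
    simpa [hv0] using this
  have hsl : sideV.segs.length = 8 + mclCert.cg.length := by
    have := sideV_ok.seg
    simp only [Side.segOK, Bool.and_eq_true, Nat.beq_eq] at this
    rw [this.1, hlen]
  have htw : ∀ w ∈ mclCert.cg, E.φ (wA w.1) * σ = σ * E.φ (wA w.2) := by
    intro w hw
    obtain ⟨k, hk, rfl⟩ := List.mem_iff_getElem.1 hw
    have hseg := hT k hk
    rw [List.getD_eq_getElem _ _ hk] at hseg
    rcases hq : sideV.segVal.getD (8 + k) [] with _ | ⟨p, _ | ⟨q, _ | ⟨x, l⟩⟩⟩ <;> rw [hq] at hseg <;> simp at hseg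
    obtain ⟨hp, hqq⟩ := hseg
    have hq' : q = cdA (wA (mclCert.cg[k]).2)⁻¹ := by
      have hs := sideV_ok.seg
      simp only [Side.segOK, Bool.and_eq_true, List.all_eq_true, List.mem_range, Nat.beq_eq, Nat.blt_eq] at hs
      obtain ⟨hl2, hk2⟩ := hs.2 (8 + k) (by rw [hsl]; omega)
      obtain ⟨⟨-, h3⟩, h4⟩ := hk2 1 (by rw [hl2, hq]; simp)
      rw [hq] at h4
      simp only [List.getD_cons_succ, List.getD_cons_zero] at h4
      rw [← cdA_lA, ← (v_facts sideV_ok).1 _ h3, ← cdA_mul] at h4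
      have : wA (mclCert.cg[k]).2 * (lA sideV ((sideV.segs.getD (8 + k) []).getD 1 ([], 0)).1 *
          vA sideV ((sideV.segs.getD (8 + k) []).getD 1 ([], 0)).2) = 1 := eqA (by
        rw [cdA_mul, h4, cdA_wA, cdA_one]; exact hqq)
      rw [← h4, eq_inv_of_mul_eq_one_right this]
    have := hrelV (8 + k) (by rw [hsl]; omega) [wA (mclCert.cg[k]).1, (wA (mclCert.cg[k]).2)⁻¹]
      (by rw [hq, hq', hp]; simp [cdA_wA])
    simp only [List.map_cons, List.map_nil, List.prod_cons, List.prod_nil, mul_one, map_inv] at this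
    calc E.φ (wA (mclCert.cg[k]).1) * σ
        = (E.φ (wA (mclCert.cg[k]).1) * σ * ((E.φ (wA (mclCert.cg[k]).2))⁻¹ * σ)) * (σ⁻¹ * E.φ (wA (mclCert.cg[k]).2)) := by group
      _ = _ := by rw [this, one_mul, inv_eq_of_mul_eq_one_right hσ2]
  have hTw := twists_of_gens E hσ2 htw
  -- the second side
  set a1 := wA outerWords.1
  set a2 := wA outerWords.2
  set d : G := E.φ a1 * σ * E.φ a2 with hd
  set dK : ↥K := (a1 : ↥K) * sK * (a2 : ↥K) with hdKdef
  have hdKcd : cdK dK = dLit := by
    rw [hdKdef, cdK_mul, cdK_mul, cdK_sK, cdK_coe, cdK_coe, cdA_wA, cdA_wA]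
    unfold dLit
    rfl
  clear_value dK
  have hW := linkW_ok
  simp only [linkW, Bool.and_eq_true, List.all_eq_true, List.mem_range, Nat.beq_eq, beq_iff_eq] at hW
  obtain ⟨⟨⟨⟨⟨⟨⟨⟨⟨hrl, hvl⟩, hP⟩, hdd⟩, ha1⟩, ha2⟩, hbW⟩, hk2⟩, hmW⟩, hverd⟩ := hW
  obtain ⟨hcW, hW0, hW1, hinjW, hmtW⟩ := v_facts sideW_ok
  have e1 : a1 * uA = vA sideW 2 * a1 := eqA (by rw [cdA_mul, cdA_mul, hcW 2 (by norm_num), cdA_wA, uA, cdA_wA]; exact ha1)
  have e2 : a2 * vA sideW 2 = uA * a2 := eqA (by rw [cdA_mul, cdA_mul, hcW 2 (by norm_num), cdA_wA, uA, cdA_wA]; exact ha2)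
  have hD : ∀ c : ↥Cz, Commute c (vA sideW 2) → ∃ c' : ↥Cz, (c' : ↥K) = dK * c * dK ∧ d * E.φ c * d = E.φ c' := by
    intro c hc
    have hy : Commute (a2 * c * a1) uA := by
      show a2 * c * a1 * uA = uA * (a2 * c * a1)
      calc a2 * c * a1 * uA = a2 * c * (a1 * uA) := by group
        _ = a2 * (c * vA sideW 2) * a1 := by rw [e1]; group
        _ = a2 * vA sideW 2 * c * a1 := by rw [hc.eq]; group
        _ = _ := by rw [e2]; group
    obtain ⟨y', hy1, hy2⟩ := hTw _ hy
    refine ⟨a1 * y' * a2, ?_, ?_⟩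
    · rw [Subgroup.coe_mul, Subgroup.coe_mul, hy1, Subgroup.coe_mul, Subgroup.coe_mul, hdKdef]; group
    · rw [hd, map_mul, map_mul]
      calc E.φ a1 * σ * E.φ a2 * E.φ c * (E.φ a1 * σ * E.φ a2)
          = E.φ a1 * σ * (E.φ (a2 * c * a1) * σ) * E.φ a2 := by rw [map_mul, map_mul]; group
        _ = E.φ a1 * (σ * σ) * E.φ y' * E.φ a2 := by rw [hy2]; group
        _ = _ := by rw [hσ2, mul_one]
  have hdK2 : dK * dK = 1 := eqK (by rw [cdK_mul, hdKcd, hdd, cdK_one, gen_facts.2.2.2.1])
  have hd2 : d * d = 1 := by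
    obtain ⟨c', h1, h2⟩ := hD 1 (Commute.one_left _)
    rw [map_one, mul_one] at h2
    rw [h2, show c' = 1 from Subtype.ext (by rw [h1, Subgroup.coe_one, mul_one, hdK2]), map_one]
  obtain ⟨-, -, hblW, hbetaW, -⟩ := comp_facts sideW_ok
  have hdact : ActsAs sideW E d sideW.beta := fun i hi => by
    obtain ⟨c', h1, h2⟩ := hD (vA sideW i) (vA_comm sideW_ok hi (by norm_num))
    have hb := (hbetaW i hi).1
    have hK : dK * (vA sideW i : ↥K) = (vA sideW (Side.ap sideW.beta i) : ↥K) * dK := eqK (by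
      rw [cdK_mul, cdK_mul, hdKcd, cdK_coe, cdK_coe, hcW i hi, hcW _ hb]; exact hbW i hi)
    refine ⟨?_, hb⟩
    have hc' : c' = vA sideW (Side.ap sideW.beta i) := Subtype.ext (by rw [h1, hK, mul_assoc, hdK2, mul_one])
    rw [← hc', ← h2, mul_assoc _ d d, hd2, mul_one]
  obtain ⟨σ', hσ'2, hσ'a, ⟨w, hw, hdw⟩, hrelW⟩ := split sideW_ok E hdact
  have hsq : ∀ i < 16, sideW.mt i i = 0 := by
    have h := kRel_ok
    simp only [kRelOK, Bool.and_eq_true, List.all_eq_true, List.mem_range, Nat.beq_eq] at h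
    exact h.2
  have hbw : Side.ap sideW.beta w = w := by
    obtain ⟨e, hb⟩ := hσ'a w hw
    have hh : E.φ (vA sideW (Side.ap sideW.beta w) * vA sideW w) = 1 := by
      rw [← hd2, hdw, map_mul]
      calc E.φ (vA sideW (Side.ap sideW.beta w)) * E.φ (vA sideW w)
          = E.φ (vA sideW (Side.ap sideW.beta w)) * (σ' * σ') * E.φ (vA sideW w) := by rw [hσ'2, mul_one]
        _ = σ' * E.φ (vA sideW w) * (σ' * E.φ (vA sideW w)) := by rw [← mul_assoc (E.φ _) σ' σ', ← e]; group
    have h1 := eq_inv_of_mul_eq_one_left (E.inj (hh.trans (map_one _).symm))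
    have h2 : (vA sideW w)⁻¹ = vA sideW w := inv_eq_of_mul_eq_one_right (vA_sq sideW_ok hw (hsq w hw))
    exact hinjW _ hb w hw (h1.trans h2)
  have hslW : sideW.segs.length = 5 := by
    have := sideW_ok.seg
    simp only [Side.segOK, Bool.and_eq_true, Nat.beq_eq] at this
    rw [this.1, hvl]
  have hfixed : ∀ r < 3, ∀ (p : List ℕ × ℕ) (q : List ℕ × ℕ), sideW.segs.getD r [] = [p, q] →
      Side.ap (segAct sideW p.1) w = w := by
    intro r hr p q hpq
    have hs := sideW_ok.seg
    simp only [Side.segOK, Bool.and_eq_true, List.all_eq_true, List.mem_range, Nat.beq_eq, Nat.blt_eq] at hs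
    obtain ⟨hl2, hk'⟩ := hs.2 r (by omega)
    obtain ⟨⟨hpl, hpv⟩, hp4⟩ := hk' 0 (by rw [hpq]; simp)
    obtain ⟨⟨hql, hqv⟩, hq4⟩ := hk' 1 (by rw [hpq]; simp)
    rw [hpq] at hpl hpv hp4 hql hqv hq4 hl2
    simp only [List.getD_cons_succ, List.getD_cons_zero] at hpl hpv hp4 hql hqv hq4
    rcases hq : sideW.segVal.getD r [] with _ | ⟨pv, _ | ⟨qv, _ | ⟨x, l⟩⟩⟩ <;> rw [hq] at hl2 <;> simp at hl2
    rw [hq] at hp4 hq4
    simp only [List.getD_cons_succ, List.getD_cons_zero] at hp4 hq4
    set pA := segA sideW p with hpA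
    set qA := segA sideW q with hqA
    have hpc : pv = cdA pA := by rw [hpA, segA, cdA_mul, cdA_lA, hcW _ hpv]; exact hp4.symm
    have hqc : qv = cdA qA := by rw [hqA, segA, cdA_mul, cdA_lA, hcW _ hqv]; exact hq4.symm
    have hchk := hk2 r hr
    rw [hq] at hchk
    simp only [Bool.and_eq_true, Nat.beq_eq] at hchk
    obtain ⟨hcu, hdd'⟩ := hchk
    have hcomm : Commute pA (vA sideW 2) := eqA (by
      rw [cdA_mul, cdA_mul, hcW 2 (by norm_num), ← hpc]; exact hcu)
    obtain ⟨c', h1, h2⟩ := hD pA hcomm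
    have hcq : c' * qA = 1 := Subtype.ext (eqK (by
      rw [Subgroup.coe_mul, h1, cdK_mul, cdK_mul, cdK_mul, hdKcd, cdK_coe, cdK_coe, ← hpc, ← hqc, hdd',
        Subgroup.coe_one, cdK_one, gen_facts.2.2.2.1]))
    have hrel0 := rel_of_segs sideW_ok E (fun segs hs hm => hrelW segs hs 0 (by norm_num) hm) (r := r) (by omega)
      (hmW r (by omega)) [pA, qA] (by rw [hq, hpc, hqc]; simp)
    simp only [hW0, map_one, mul_one, List.map_cons, List.map_nil, List.prod_cons, List.prod_nil] at hrel0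
    have hreld : d * E.φ pA * d * E.φ qA = 1 := by rw [h2, ← map_mul, hcq, map_one]
    obtain ⟨ew, -⟩ := hσ'a w hw
    rw [hbw] at ew
    set W := E.φ (vA sideW w)
    set P := E.φ pA
    set Q := E.φ qA
    have hWW : W * W = 1 := by rw [← map_mul, vA_sq sideW_ok hw (hsq w hw), map_one]
    have hQ : σ' * Q * σ' = P⁻¹ := by
      refine (inv_eq_of_mul_eq_one_right ?_).symm
      rw [← hrel0]; group
    have e3 : P * W * P⁻¹ * W = 1 := by
      have e4 : P * d * Q * d = 1 := by
        calc P * d * Q * d = d⁻¹ * (d * P * d * Q) * d := by group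
          _ = 1 := by rw [hreld]; group
      rw [← hQ]
      calc P * W * (σ' * Q * σ') * W = P * (W * σ') * Q * (σ' * W) := by group
        _ = P * (σ' * W) * Q * (σ' * W) := by rw [ew]
        _ = 1 := by rw [← hdw]; exact e4
    have hWi : W⁻¹ = W := inv_eq_of_mul_eq_one_right hWW
    have e5 : P * W = W * P := by
      have e6 := eq_inv_of_mul_eq_one_left e3
      rw [hWi, mul_inv_eq_iff_eq_mul] at e6
      exact e6
    have hseg : ∀ l : List ℕ, (∀ g ∈ l, g < 2) → ActsAs sideW E (E.φ (lA sideW l)) (segAct sideW l) := by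
      intro l
      induction l using List.reverseRecOn with
      | nil => exact fun _ => by rw [show lA sideW [] = 1 from rfl, map_one]; exact ActsAs.one E
      | append_singleton l g ih =>
        intro hl
        have hg : g < 2 := hl g (List.mem_append_right _ (List.mem_singleton_self g))
        rw [segAct, List.foldl_append, List.foldl_cons, List.foldl_nil,
          show lA sideW (l ++ [g]) = lA sideW l * xA sideW g by rw [lA, lA, List.foldl_append]; rfl, map_mul]
        exact (ih fun x hx => hl x (List.mem_append_left _ hx)).mul (acts_x sideW_ok E hg) ((comp_facts sideW_ok).2.1 g hg)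
    obtain ⟨e7, hlt⟩ := hseg p.1 hpl w hw
    have e8 : P * W = E.φ (vA sideW (Side.ap (segAct sideW p.1) w)) * P := by
      show E.φ (segA sideW p) * E.φ (vA sideW w) = _ * E.φ (segA sideW p)
      rw [segA, map_mul, mul_assoc, ← map_mul, vA_comm sideW_ok hpv hw, map_mul, ← mul_assoc, e7, mul_assoc]
    exact hinjW _ hlt w hw (E.inj (mul_right_cancel (e8.symm.trans e5)))
  have hall : ∀ r < sideW.segs.length, sideW.machine w (sideW.segs.getD r []) = true := by
    have h := hverd w hw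
    rw [hbw, hsq w hw] at h
    simp only [Bool.or_eq_true, Bool.not_eq_eq_eq_not, Bool.not_true, List.any_eq_true,
      List.mem_range, List.all_eq_true] at h
    rcases h with (h | ⟨r, hr, h⟩) | h
    · rw [Bool.eq_false_iff, Ne, Nat.beq_eq] at h; exact absurd rfl h
    · exfalso
      rcases hq : sideW.segs.getD r [] with _ | ⟨p, _ | ⟨q, _ | ⟨x, l⟩⟩⟩ <;> rw [hq] at h <;>
        simp only [Bool.false_eq_true, Bool.not_eq_eq_eq_not, Bool.not_true, Bool.eq_false_iff, ne_eq, Nat.beq_eq] at h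
      exact h (hfixed r hr p q hq)
    · exact h
  have hrelP : ∀ r < 5, ∀ zs : List ↥Cz, sideW.segVal.getD r [] = zs.map cdA →
      (zs.map fun z => E.φ z * d).prod = 1 := fun r hr zs hz => by
    rw [hdw]
    exact rel_of_segs sideW_ok E (fun segs hs hm => hrelW segs hs w hw hm) (by omega) (hall r (by omega)) zs hz
  refine ⟨⟨E.φ, σ, hσ2, htw, ?_⟩, rfl⟩
  intro zs hzs
  obtain ⟨r, hr, rfl⟩ := List.mem_iff_getElem.1 hzs
  rcases Nat.lt_or_ge r 8 with h8 | h8
  · have := hrelV r (by omega) ((mclCert.rels[r]).map fun z => wA z.1) (by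
      rw [hB r h8, List.getD_eq_getElem _ _ hr, List.map_map]
      refine List.map_congr_left fun z _ => ?_
      exact (cdA_wA z.1).symm)
    rw [List.map_map] at this
    exact this
  · obtain ⟨k, rfl⟩ : ∃ k, r = 8 + k := ⟨r - 8, by omega⟩
    have hk5 : k < 5 := by omega
    have hval := hP k hk5
    rw [List.getD_eq_getElem _ _ hr] at hval
    have hs := sideW_ok.seg
    simp only [Side.segOK, Bool.and_eq_true, List.all_eq_true, List.mem_range, Nat.beq_eq, Nat.blt_eq] at hs
    obtain ⟨hl2, hk'⟩ := hs.2 k (by omega)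
    set ns := (sideW.segs.getD k []).map (segA sideW) with hns
    have hns' : sideW.segVal.getD k [] = ns.map cdA := by
      rw [hns, List.map_map]
      refine List.ext_getElem (by rw [List.length_map]; simpa using hl2.symm) fun i h1 h2 => ?_
      have hi : i < (sideW.segs.getD k []).length := by simpa using h2
      obtain ⟨⟨-, h3⟩, h4⟩ := hk' i hi
      rw [List.getD_eq_getElem _ _ hi, List.getD_eq_getElem _ _ h1] at h4
      rw [List.getD_eq_getElem _ _ hi] at h3
      rw [List.getElem_map, Function.comp_apply, segA, cdA_mul, cdA_lA, hcW _ h3]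
      exact h4.symm
    have hzz : (mclCert.rels[8 + k]).map (fun z => wA z.1) = ns.map fun n => a2 * n * a1 := by
      refine List.map_injective_iff.2 (fun a b => eqA) ?_
      rw [List.map_map, List.map_map]
      rw [hns', List.map_map] at hval
      convert hval using 1
      · exact List.map_congr_left fun z _ => cdA_wA z.1
      · exact List.map_congr_left fun n _ => by simp only [Function.comp_apply, cdA_mul, a1, a2, cdA_wA]
    have hkey : ∀ l : List ↥Cz, ((l.map fun n => a2 * n * a1).map fun z => E.φ z * σ).prod =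
        E.φ a2 * (l.map fun n => E.φ n * d).prod * (E.φ a2)⁻¹ := by
      intro l
      induction l with
      | nil => simp
      | cons n l ih =>
        simp only [List.map_cons, List.prod_cons, ih, map_mul, hd]
        group
    have hcomp : ((mclCert.rels[8 + k]).map fun z => E.φ (RA.wel z.1) * σ).prod =
        (((mclCert.rels[8 + k]).map fun z => wA z.1).map fun z => E.φ z * σ).prod := by rw [List.map_map]; rfl
    rw [hcomp, hzz, hkey, hrelP k hk5 ns hns', mul_one, mul_inv_cancel]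

end Cfsg.Agent.Spor.MclCent
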