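import Cfsg.Agent.Lib.Spor.MclCent.Bound

/-!
Checks for an elementary abelian group of order 16 of the centralizer of an involution together with a complement
in its normalizer: relations of the normalizer in the whole group are evaluated through the action.
-/

set_option autoImplicit false

namespace Cfsg.Agent.Spor.DCoset

/-- The data of one elementary abelian group and its complement. -/
structure Side where
  vs : List ℕ
  vw : List (List ℕ)
  xw : List ℕ
  yw : List ℕ
  tab : List (List ℕ)
  px : List ℕ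
  py : List ℕ
  qx : List ℕ
  qy : List ℕ
  beta : List ℕ
  lTree : List (ℕ × ℕ × ℕ)
  hw : List ℕ
  hv : List ℕ
  hvw : List (List ℕ)
  segs : List (List (List ℕ × ℕ))
  segVal : List (List ℕ)

namespace Side

variable (mu : ℕ → ℕ → ℕ) (c : Cert) (D : Side)

/-- the product table -/
def mt (i j : ℕ) : ℕ := (D.tab.getD i []).getD j 16
/-- an array -/
def ap (p : List ℕ) (i : ℕ) : ℕ := p.getD i 16

/-- the generators of the complement -/
def gen (k : ℕ) : List ℕ := bif Nat.beq k 0 then D.xw else D.yw
/-- the action of a generator -/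
def pg (k : ℕ) : List ℕ := bif Nat.beq k 0 then D.px else D.py
/-- the inverse action of a generator -/
def qg (k : ℕ) : List ℕ := bif Nat.beq k 0 then D.qx else D.qy

/-- value of a word in the complement -/
def evL (l : List ℕ) : ℕ := l.foldl (fun r k => mu r (c.ev mu (D.gen k))) c.one

/-- composition of arrays -/
def cmp (p q : List ℕ) : List ℕ := q.map fun i => p.getD i 16
/-- the identity array -/
def idA : List ℕ := List.range 16

/-- pass one segment -/
def stepSeg (w : ℕ) (st : ℕ × List ℕ) (sg : List ℕ × ℕ) : ℕ × List ℕ :=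
  let st' := sg.1.foldl (fun s k => (ap (D.qg k) s.1, cmp s.2 (D.pg k))) st
  (D.mt (ap D.beta (D.mt st'.1 sg.2)) w, cmp st'.2 D.beta)

/-- the relation holds after twisting by `w` -/
def machine (w : ℕ) (segs : List (List ℕ × ℕ)) : Bool :=
  let r := segs.foldl (D.stepSeg w) (0, idA)
  Nat.beq r.1 0 && (r.2 == idA)

/-- the group of order 16 -/
def vOK (t : ℕ) : Bool :=
  Nat.beq D.vs.length 16 && ((List.range 16).all fun i => Nat.beq (c.ev mu (D.vw.getD i [])) (D.vs.getD i 0)) &&
  Nat.beq (D.vs.getD 0 0) c.one && Nat.beq (D.vs.getD 1 0) t && D.vs.dedup.length == 16 &&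
  ((List.range 16).all fun i => (List.range 16).all fun j =>
    Nat.blt (D.mt i j) 16 && Nat.beq (mu (D.vs.getD i 0) (D.vs.getD j 0)) (D.vs.getD (D.mt i j) 0) &&
      Nat.beq (D.mt i j) (D.mt j i))

/-- an array is the action of a word, with inverse array -/
def actOK (g p q : List ℕ) : Bool :=
  Nat.beq p.length 16 && Nat.beq q.length 16 && (List.range 16).all fun i =>
    Nat.blt (ap p i) 16 && Nat.blt (ap q i) 16 && Nat.beq (ap p (ap q i)) i && Nat.beq (ap q (ap p i)) i &&
      Nat.beq (mu (c.ev mu g) (D.vs.getD i 0)) (mu (D.vs.getD (ap p i) 0) (c.ev mu g))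

/-- the complement in the normalizer -/
def compOK : Bool :=
  D.actOK mu c D.xw D.px D.qx && D.actOK mu c D.yw D.py D.qy &&
  Nat.beq D.beta.length 16 && ((List.range 16).all fun i => Nat.blt (ap D.beta i) 16 && Nat.beq (ap D.beta (ap D.beta i)) i) &&
  (let x := c.ev mu D.xw; let y := c.ev mu D.yw
    Nat.beq (mu x x) c.one && Nat.beq (mu (mu y y) y) c.one && Nat.beq (D.evL mu c [0, 1, 0, 1, 0, 1, 0, 1, 0, 1, 0, 1, 0, 1]) c.one &&
    (List.range 16).all fun i => (List.range 16).all fun j =>
      let xx := mu x (D.vs.getD i 0); let yy := mu y (D.vs.getD j 0)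
      !(Nat.beq (mu xx xx) c.one) || !(Nat.beq (mu (mu yy yy) yy) c.one) ||
        !(Nat.beq (([0, 1, 0, 1, 0, 1, 0, 1, 0, 1, 0, 1, 0, 1] : List ℕ).foldl (fun r k => mu r (bif Nat.beq k 0 then xx else yy)) c.one) c.one) ||
        (List.range 16).any fun w => Nat.beq (mu xx (D.vs.getD w 0)) (mu (D.vs.getD w 0) x) &&
          Nat.beq (mu yy (D.vs.getD w 0)) (mu (D.vs.getD w 0) y))

/-- the complement meets the group trivially -/
def treeOK : Bool :=
  D.lTree.length == 168 && (D.lTree.map fun e => e.2.2).dedup.length == 168 &&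
  ((List.range 168).all fun k =>
    let e := D.lTree.getD k (0, 0, 0)
    bif Nat.beq k 0 then Nat.beq e.2.2 c.one
    else Nat.blt e.1 k && Nat.blt e.2.1 2 && Nat.beq e.2.2 (mu (D.lTree.getD e.1 (0, 0, 0)).2.2 (c.ev mu (D.gen e.2.1)))) &&
  ((List.range 168).all fun k => (List.range 2).all fun g =>
    (D.lTree.map fun e => e.2.2).elem (mu (D.lTree.getD k (0, 0, 0)).2.2 (c.ev mu (D.gen g)))) &&
  (D.lTree.map fun e => e.2.2).all fun v => Nat.beq v c.one || !(D.vs.elem v)

/-- the group is its own centralizer -/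
def selfOK : Bool :=
  ((List.range 16).all fun i => Nat.beq (mu (c.ev mu D.hw) (D.vs.getD i 0)) (mu (D.hv.getD i 0) (c.ev mu D.hw))) &&
  ((List.range 16).all fun i => Nat.beq (c.ev mu (D.hvw.getD i [])) (D.hv.getD i 0)) &&
  Nat.beq (D.hv.getD 2 0) (c.ev mu c.u) &&
  c.dList.all fun e => ((List.range 16).any fun i => !(Nat.beq (mu e.2.2 (D.hv.getD i 0)) (mu (D.hv.getD i 0) e.2.2))) ||
    (List.range 16).any fun i => Nat.beq e.2.2 (D.hv.getD i 0)

/-- the decompositions of the relations -/
def segOK : Bool :=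
  Nat.beq D.segs.length D.segVal.length &&
  (List.range D.segs.length).all fun r =>
    Nat.beq (D.segs.getD r []).length (D.segVal.getD r []).length &&
    (List.range (D.segs.getD r []).length).all fun k =>
      let sg := (D.segs.getD r []).getD k ([], 0)
      sg.1.all (fun g => Nat.blt g 2) && Nat.blt sg.2 16 &&
        Nat.beq (mu (D.evL mu c sg.1) (D.vs.getD sg.2 0)) ((D.segVal.getD r []).getD k 0)

/-- everything about one side -/
structure OK (t : ℕ) : Prop where
  v : D.vOK mu c t = true
  comp : D.compOK mu c = true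
  tree : D.treeOK mu c = true
  self : D.selfOK mu c = true
  seg : D.segOK mu c = true

end Side

end Cfsg.Agent.Spor.DCoset
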