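import Cfsg.Agent.Lib.Spor.MclCent.Engine

/-!
Soundness of certificates for enumerations of double cosets.
-/

set_option autoImplicit false
set_option linter.unusedSectionVars false
set_option linter.style.haveILetI false

namespace Cfsg.Agent.Spor.DCoset

variable {A : Type*} [Group A] {mu : ℕ → ℕ → ℕ} {c : Cert}

/-- The relations in a group. -/
structure Sys (R : Rep A mu c) (Γ : Type*) [Group Γ] where
  φ : A →* Γ
  σ : Γ
  sq : σ * σ = 1
  twist : ∀ w ∈ c.cg, φ (R.wel w.1) * σ = σ * φ (R.wel w.2)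
  rel : ∀ zs ∈ c.rels, (zs.map fun z => φ (R.wel z.1) * σ).prod = 1

variable {R : Rep A mu c} {Γ : Type*} [Group Γ] (S : Sys R Γ)

/-- the representatives of the double cosets -/
def Sys.g : ℕ → Γ
  | 0 => 1
  | q + 1 => Sys.g (min (c.tree.getD q (0, [])).1 q) * S.φ (R.wel (c.tree.getD q (0, [])).2) * S.σ
termination_by k => k
decreasing_by exact Nat.lt_succ_of_le (Nat.min_le_right _ _)

theorem Sys.g_zero : S.g 0 = 1 := by rw [Sys.g]

theorem Sys.g_succ {q : ℕ} (h : (c.tree.getD q (0, [])).1 ≤ q) :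
    S.g (q + 1) = S.g (c.tree.getD q (0, [])).1 * S.φ (R.wel (c.tree.getD q (0, [])).2) * S.σ := by
  rw [Sys.g, Nat.min_eq_left h]

/-- an edge -/
def Sys.Edge (i : ℕ) (a : A) (j : ℕ) (b : A) : Prop :=
  ∃ α : A, S.g i * S.φ a * S.σ = S.φ α * (S.g j * S.φ b)

/-- a member of a stabilizer -/
def Sys.stab (i : ℕ) : Subgroup A where
  carrier := {h | ∃ α : A, S.g i * S.φ h = S.φ α * S.g i}
  one_mem' := ⟨1, by simp⟩
  mul_mem' := fun {a b} ⟨x, hx⟩ ⟨y, hy⟩ => ⟨x * y, by
    rw [map_mul, map_mul, ← mul_assoc, hx, mul_assoc, hy, mul_assoc]⟩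
  inv_mem' := fun {a} ⟨x, hx⟩ => ⟨x⁻¹, by
    rw [map_inv, map_inv, mul_inv_eq_iff_eq_mul, mul_assoc, hx, inv_mul_cancel_left]⟩

theorem Sys.stab_zero : S.stab 0 = ⊤ :=
  top_le_iff.1 fun a _ => ⟨a, by rw [S.g_zero, one_mul, mul_one]⟩

theorem Sys.edge_symm {i j : ℕ} {a b : A} (h : S.Edge i a j b) : S.Edge j b i a := by
  obtain ⟨α, hα⟩ := h
  refine ⟨α⁻¹, ?_⟩
  have e : S.g i * S.φ a = S.φ α * (S.g j * S.φ b) * S.σ := by rw [← hα, mul_assoc, S.sq, mul_one]
  rw [e, map_inv]
  group

theorem Sys.edge_twist {i j : ℕ} {a b : A} (h : S.Edge i a j b) {x y : A} (hxy : S.φ x * S.σ = S.σ * S.φ y) :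
    S.Edge i (a * x) j (b * y) := by
  obtain ⟨α, hα⟩ := h
  refine ⟨α, ?_⟩
  calc S.g i * S.φ (a * x) * S.σ = S.g i * S.φ a * (S.φ x * S.σ) := by rw [map_mul]; group
    _ = S.g i * S.φ a * S.σ * S.φ y := by rw [hxy]; group
    _ = S.φ α * (S.g j * S.φ b) * S.φ y := by rw [hα]
    _ = _ := by rw [map_mul]; group

theorem Sys.edge_left {i j : ℕ} {a b h : A} (hh : h ∈ S.stab i) (he : S.Edge i a j b) : S.Edge i (h * a) j b := by
  obtain ⟨α, hα⟩ := he
  obtain ⟨x, hx⟩ := hh
  refine ⟨x * α, ?_⟩
  calc S.g i * S.φ (h * a) * S.σ = (S.g i * S.φ h) * (S.φ a * S.σ) := by rw [map_mul]; group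
    _ = S.φ x * (S.g i * S.φ a * S.σ) := by rw [hx]; group
    _ = _ := by rw [hα, map_mul]; group

/-- the meaning of a quadruple -/
def Sys.EdgeC (t : ℕ × ℕ × ℕ × ℕ) : Prop :=
  ∃ a b : A, R.cd a = t.2.1 ∧ R.cd b = t.2.2.2 ∧ S.Edge t.1 a t.2.2.1 b

/-- the meaning of a fact -/
def Sys.Holds : Fact → Prop
  | Fact.E i a j b => S.EdgeC (i, a, j, b)
  | Fact.H i h => ∃ x : A, R.cd x = h ∧ x ∈ S.stab i

theorem Sys.opA_sound {lim : ℕ} (hprev : ∀ k < lim, S.Holds (c.fact k)) {t : ℕ × ℕ × ℕ × ℕ} (o : Op)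
    (ht : S.EdgeC t) : ∀ t', c.opA mu lim (some t) o = some t' → S.EdgeC t' := by
  obtain ⟨i, a, j, b⟩ := t
  obtain ⟨x, y, hx, hy, he⟩ := ht
  intro t' h
  cases o with
  | S =>
    simp only [Cert.opA, Option.some.injEq] at h
    subst h
    exact ⟨y, x, hy, hx, S.edge_symm he⟩
  | T k =>
    simp only [Cert.opA, Option.some.injEq] at h
    subst h
    rcases Nat.lt_or_ge k c.cg.length with hk | hk
    · have hm : c.cg.getD k ([], []) ∈ c.cg := by rw [List.getD_eq_getElem _ _ hk]; exact List.getElem_mem hk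
      exact ⟨_, _, by rw [R.cd_mul, R.cd_wel, hx], by rw [R.cd_mul, R.cd_wel, hy],
        S.edge_twist he (S.twist _ hm)⟩
    · rw [List.getD_eq_default _ _ hk]
      refine ⟨x * R.wel [], y * R.wel [], by rw [R.cd_mul, R.cd_wel, hx], by rw [R.cd_mul, R.cd_wel, hy], ?_⟩
      simpa [Rep.wel] using he
  | L f =>
    simp only [Cert.opA] at h
    cases hb : Nat.blt f lim with
    | false => simp [hb] at h
    | true =>
      rw [hb] at h
      cases hf : c.fact f with
      | E i' a' j' b' => simp [hf] at h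
      | H i' g =>
        rw [hf] at h
        simp only at h
        cases hi : Nat.beq i' i with
        | false => simp [hi] at h
        | true =>
          rw [hi] at h
          simp only [cond_true, Option.some.injEq] at h
          subst h
          obtain rfl := Nat.eq_of_beq_eq_true hi
          have hH := hprev f (by simpa [Nat.blt_eq] using hb)
          rw [hf] at hH
          obtain ⟨z, hz, hzm⟩ := hH
          exact ⟨z * x, y, by rw [R.cd_mul, hz, hx], hy, S.edge_left hzm he⟩

theorem Sys.look_sound {lim : ℕ} (hprev : ∀ k < lim, S.Holds (c.fact k)) {l : Look} {t : ℕ × ℕ × ℕ × ℕ}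
    (h : c.look mu lim l = some t) : S.EdgeC t := by
  obtain ⟨f, ops⟩ := l
  simp only [Cert.look] at h
  cases hb : Nat.blt f lim with
  | false => simp [hb] at h
  | true =>
    rw [hb] at h
    cases hf : c.fact f with
    | H i a => simp [hf] at h
    | E i a j b =>
      rw [hf] at h
      simp only at h
      have h0 := hprev f (by simpa [Nat.blt_eq] using hb)
      rw [hf] at h0
      clear hf
      suffices ∀ (ops : List Op) (o : Option (ℕ × ℕ × ℕ × ℕ)), (∀ u, o = some u → S.EdgeC u) →
          ∀ u, ops.foldl (c.opA mu lim) o = some u → S.EdgeC u from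
        this ops _ (fun u hu => by obtain rfl := Option.some.inj hu; exact h0) t h
      intro ops
      induction ops with
      | nil => exact fun o ho u hu => ho u hu
      | cons p ops ih =>
        intro o ho u hu
        rw [List.foldl_cons] at hu
        refine ih _ (fun v hv => ?_) u hu
        rcases o with _ | q
        · simp [Cert.opA] at hv
        · exact S.opA_sound hprev p (ho q rfl) v hv

/-- the state after reading a word from a starting point -/
def Sys.Reach (i0 : ℕ) (x0 : A) (w : Γ) (s : ℕ × ℕ) : Prop :=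
  ∃ y α : A, R.cd y = s.2 ∧ S.g i0 * S.φ x0 * w = S.φ α * (S.g s.1 * S.φ y)

/-- the value of a word -/
def Sys.wv (zs : List (List ℕ × List ℕ)) : Γ := (zs.map fun z => S.φ (R.wel z.1) * S.σ).prod

theorem Sys.fwd_sound {lim i0 : ℕ} {x0 : A} (hprev : ∀ k < lim, S.Holds (c.fact k)) :
    ∀ (ls : List Look) (zs : List (List ℕ × List ℕ)) (f : ℕ × ℕ) (w : Γ), S.Reach i0 x0 w f →
      ∀ g rest, c.fwd mu lim ls zs f = some (g, rest) →
        ∃ pre, zs = pre ++ rest ∧ S.Reach i0 x0 (w * S.wv pre) g
  | [], zs, f, w, hw, g, rest, h => by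
    simp only [Cert.fwd, Option.some.injEq, Prod.mk.injEq] at h
    obtain ⟨rfl, rfl⟩ := h
    exact ⟨[], rfl, by simpa [Sys.wv] using hw⟩
  | _ :: _, [], f, w, hw, g, rest, h => by simp [Cert.fwd] at h
  | l :: ls, z :: zs, f, w, hw, g, rest, h => by
    simp only [Cert.fwd] at h
    cases hl : c.look mu lim l with
    | none => simp [hl] at h
    | some t =>
      obtain ⟨i, a, j, b⟩ := t
      rw [hl] at h
      simp only at h
      cases hc : (Nat.beq i f.1 && Nat.beq a (mu f.2 (c.ev mu z.1))) with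
      | false => simp [hc] at h
      | true =>
        rw [hc] at h
        simp only [cond_true] at h
        simp only [Bool.and_eq_true, Nat.beq_eq] at hc
        obtain ⟨rfl, hc2⟩ := hc
        obtain ⟨y, α, hy, hα⟩ := hw
        obtain ⟨x, x', hx, hx', β, hβ⟩ := S.look_sound hprev hl
        simp only at hx hx' hβ
        obtain rfl : x = y * R.wel z.1 := R.eq_of_cd (by rw [R.cd_mul, hy, R.cd_wel, hx, hc2])
        have hw' : S.Reach i0 x0 (w * (S.φ (R.wel z.1) * S.σ)) (j, b) := by
          refine ⟨x', α * β, hx', ?_⟩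
          rw [← mul_assoc, hα]
          calc S.φ α * (S.g f.1 * S.φ y) * (S.φ (R.wel z.1) * S.σ)
              = S.φ α * (S.g f.1 * S.φ (y * R.wel z.1) * S.σ) := by rw [map_mul]; group
            _ = _ := by rw [hβ, map_mul]; group
        obtain ⟨pre, rfl, hpre⟩ := Sys.fwd_sound hprev ls zs (j, b) _ hw' g rest h
        exact ⟨z :: pre, rfl, by simpa [Sys.wv, mul_assoc] using hpre⟩

theorem Sys.bwd_sound {lim i0 : ℕ} {x0 : A} (hinv : c.invOK mu = true) {zz : List (List ℕ × List ℕ)}
    (hzz : zz ∈ c.rels) (hprev : ∀ k < lim, S.Holds (c.fact k)) :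
    ∀ (ls : List Look) (zs : List (List ℕ × List ℕ)) (f : ℕ × ℕ) (w : Γ),
      (∀ z ∈ zs, z ∈ zz) → S.Reach i0 x0 (w * S.wv zs.reverse) f →
      ∀ g, c.bwd mu lim ls zs f = some g → S.Reach i0 x0 w g
  | [], [], f, w, _, hw, g, h => by
    simp only [Cert.bwd, Option.some.injEq] at h
    subst h
    simpa [Sys.wv] using hw
  | [], _ :: _, f, w, _, hw, g, h => by simp [Cert.bwd] at h
  | _ :: _, [], f, w, _, hw, g, h => by simp [Cert.bwd] at h
  | l :: ls, z :: zs, f, w, hsub, hw, g, h => by
    simp only [Cert.bwd] at h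
    cases hl : c.look mu lim l with
    | none => simp [hl] at h
    | some t =>
      obtain ⟨i, a, j, b⟩ := t
      rw [hl] at h
      simp only at h
      cases hc : (Nat.beq i f.1 && Nat.beq a f.2) with
      | false => simp [hc] at h
      | true =>
        rw [hc] at h
        simp only [cond_true] at h
        simp only [Bool.and_eq_true, Nat.beq_eq] at hc
        obtain ⟨rfl, hc2⟩ := hc
        obtain ⟨y, α, hy, hα⟩ := hw
        obtain ⟨x, x', hx, hx', he⟩ := S.look_sound hprev hl
        simp only at hx hx' he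
        obtain rfl : x = y := R.eq_of_cd (by rw [hy, hx, hc2])
        obtain ⟨β, hβ⟩ := he
        have hzi := R.invol_inv hinv hzz (hsub z (List.mem_cons_self))
        refine Sys.bwd_sound hinv hzz hprev ls zs (j, mu b (c.ev mu z.2)) w
          (fun v hv => hsub v (List.mem_cons_of_mem _ hv))
          ⟨x' * R.wel z.2, α * β, by rw [R.cd_mul, hx', R.cd_wel], ?_⟩ g h
        have e : S.wv (z :: zs).reverse = S.wv zs.reverse * (S.φ (R.wel z.1) * S.σ) := by
          simp [Sys.wv, List.map_reverse]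
        rw [e] at hα
        have hα' : S.g i0 * S.φ x0 * (w * S.wv zs.reverse) =
            S.φ α * (S.g f.1 * S.φ x) * S.σ * (S.φ (R.wel z.1))⁻¹ := by
          rw [← hα]
          simp only [mul_assoc, S.sq, mul_one, mul_inv_cancel]
        rw [hα', hzi, map_mul, map_mul, map_inv]
        calc S.φ α * (S.g f.1 * S.φ x) * S.σ * (S.φ (R.wel z.1))⁻¹
            = S.φ α * (S.g f.1 * S.φ x * S.σ) * (S.φ (R.wel z.1))⁻¹ := by group
          _ = _ := by rw [hβ]; group

theorem Sys.facts_hold (hinv : c.invOK mu = true) (hok : ∀ k < c.facts.length, c.factOK mu k = true) :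
    ∀ k < c.facts.length, S.Holds (c.fact k) := by
  intro k
  induction k using Nat.strong_induction_on with
  | _ k ih =>
    intro hk
    have hprev : ∀ m < k, S.Holds (c.fact m) := fun m hm => ih m hm (hm.trans hk)
    have h := hok k hk
    unfold Cert.factOK at h
    rw [Cert.fact]
    revert h
    generalize c.facts.getD k (Why.base [], Fact.H 0 0) = F
    obtain ⟨why, fct⟩ := F
    intro h
    rcases why with w | q | ⟨r, i0, a0, looks, backs⟩ | ⟨r, i0, a0, looks, hw⟩ | ⟨l1, l2, hw⟩ <;>
      rcases fct with ⟨i, a, j, b⟩ | ⟨i, a⟩ <;> simp only [Bool.false_eq_true] at h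
    · -- base
      simp only [Bool.and_eq_true, Nat.beq_eq] at h
      obtain ⟨rfl, rfl⟩ := h
      exact ⟨R.wel w, R.cd_wel w, by rw [S.stab_zero]; trivial⟩
    · -- tree
      simp only [Bool.and_eq_true, Nat.beq_eq, Nat.blt_eq, Nat.ble_eq] at h
      obtain ⟨⟨⟨⟨⟨-, h1⟩, rfl⟩, rfl⟩, rfl⟩, rfl⟩ := h
      refine ⟨R.wel (c.tree.getD q (0, [])).2, 1, R.cd_wel _, R.cd_one, 1, ?_⟩
      rw [map_one, one_mul, mul_one]
      exact (S.g_succ h1).symm
    · -- cycle to an edge
      rw [Bool.and_eq_true, Nat.blt_eq] at h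
      obtain ⟨hr, h⟩ := h
      have hrm : c.rels.getD r [] ∈ c.rels := by rw [List.getD_eq_getElem _ _ hr]; exact List.getElem_mem hr
      cases hf : c.fwd mu k looks (c.rels.getD r []) (i0, c.ev mu a0) with
      | none => rw [hf] at h; exact absurd h Bool.false_ne_true
      | some p =>
        obtain ⟨f, rest⟩ := p
        rw [hf] at h
        cases rest with
        | nil => simp at h
        | cons z rest =>
          simp only at h
          cases hb : c.bwd mu k backs rest.reverse (i0, c.ev mu a0) with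
          | none => simp [hb] at h
          | some g =>
            rw [hb] at h
            simp only [Bool.and_eq_true, Nat.beq_eq] at h
            obtain ⟨⟨⟨rfl, rfl⟩, rfl⟩, rfl⟩ := h
            obtain ⟨pre, hsplit, y, α, hy, hα⟩ := S.fwd_sound (i0 := i0) (x0 := R.wel a0) hprev looks (c.rels.getD r []) (i0, c.ev mu a0) 1
              ⟨R.wel a0, 1, R.cd_wel a0, by simp⟩ f (z :: rest) hf
            have hfull : S.Reach i0 (R.wel a0) ((S.wv pre * (S.φ (R.wel z.1) * S.σ)) * S.wv rest.reverse.reverse)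
                (i0, c.ev mu a0) := by
              refine ⟨R.wel a0, 1, R.cd_wel a0, ?_⟩
              have e := S.rel _ hrm
              rw [hsplit] at e
              rw [List.reverse_reverse]
              have e' : S.wv pre * (S.φ (R.wel z.1) * S.σ) * S.wv rest = 1 := by
                simpa [Sys.wv, mul_assoc] using e
              rw [e']
              simp
            obtain ⟨v, β, hv, hβ⟩ := S.bwd_sound hinv hrm hprev backs rest.reverse _ _
              (fun v hv => by rw [hsplit]; simp at hv ⊢; exact Or.inr (Or.inr hv)) hfull g hb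
            refine ⟨y * R.wel z.1, v, by rw [R.cd_mul, hy, R.cd_wel], hv, α⁻¹ * β, ?_⟩
            simp only at hα hβ ⊢
            rw [one_mul] at hα
            have e : S.φ α * (S.g f.1 * S.φ (y * R.wel z.1) * S.σ) = S.φ β * (S.g g.1 * S.φ v) := by
              rw [← hβ, ← mul_assoc (S.g i0 * S.φ (R.wel a0)), hα, map_mul]
              group
            rw [map_mul S.φ α⁻¹, map_inv, mul_assoc (S.φ α)⁻¹, ← e]
            group
    · -- cycle to a stabilizer
      rw [Bool.and_eq_true, Nat.blt_eq] at h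
      obtain ⟨hr, h⟩ := h
      have hrm : c.rels.getD r [] ∈ c.rels := by rw [List.getD_eq_getElem _ _ hr]; exact List.getElem_mem hr
      cases hf : c.fwd mu k looks (c.rels.getD r []) (i0, c.ev mu a0) with
      | none => rw [hf] at h; exact absurd h Bool.false_ne_true
      | some p =>
        obtain ⟨f, rest⟩ := p
        rw [hf] at h
        cases rest with
        | cons z rest => simp at h
        | nil =>
          simp only [Bool.and_eq_true, Nat.beq_eq] at h
          obtain ⟨⟨⟨hfi, hii⟩, rfl⟩, h4⟩ := h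
          subst hii
          obtain ⟨pre, hsplit, y, α, hy, hα⟩ := S.fwd_sound (i0 := i) (x0 := R.wel a0) hprev looks (c.rels.getD r []) (i, c.ev mu a0) 1
            ⟨R.wel a0, 1, R.cd_wel a0, by simp⟩ f [] hf
          rw [List.append_nil] at hsplit
          have e : S.wv pre = 1 := by rw [← hsplit]; exact S.rel _ hrm
          rw [one_mul, e, mul_one] at hα

          rw [hfi] at hα
          refine ⟨R.wel hw, R.cd_wel _, α⁻¹, ?_⟩
          obtain rfl : y = R.wel hw * R.wel a0 := R.eq_of_cd (by rw [R.cd_mul, R.cd_wel, R.cd_wel, hy, ← h4])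
          rw [map_mul, ← mul_assoc, ← mul_assoc] at hα
          have e2 : S.g i = S.φ α * S.g i * S.φ (R.wel hw) := mul_right_cancel (b := S.φ (R.wel a0)) hα
          rw [map_inv, eq_inv_mul_iff_mul_eq, ← mul_assoc]
          exact e2.symm
    · -- two edges
      cases h1 : c.look mu k l1 with
      | none => simp [h1] at h
      | some t1 =>
        cases h2 : c.look mu k l2 with
        | none => simp [h1, h2] at h
        | some t2 =>
          obtain ⟨i1, a1, j1, b1⟩ := t1
          obtain ⟨i2, a2, j2, b2⟩ := t2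
          simp only [h1, h2, Bool.and_eq_true, Nat.beq_eq] at h
          obtain ⟨⟨⟨⟨⟨rfl, rfl⟩, rfl⟩, rfl⟩, rfl⟩, h6⟩ := h
          obtain ⟨x, y, hx, hy, α, hα⟩ := S.look_sound hprev h1
          obtain ⟨x', y', hx', hy', β, hβ⟩ := S.look_sound hprev h2
          simp only at hx hy hx' hy' hα hβ
          obtain rfl : x' = x := R.eq_of_cd (hx'.trans hx.symm)
          obtain rfl : y' = R.wel hw * y := R.eq_of_cd (by rw [R.cd_mul, R.cd_wel, hy, hy', h6])
          refine ⟨R.wel hw, R.cd_wel _, β⁻¹ * α, ?_⟩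
          rw [hα, map_mul] at hβ
          have e2 : S.φ α * S.g j2 = S.φ β * S.g j2 * S.φ (R.wel hw) :=
            mul_right_cancel (b := S.φ y) (by simpa [mul_assoc] using hβ)
          rw [map_mul, map_inv, mul_assoc, e2]
          group

end Cfsg.Agent.Spor.DCoset
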