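import Cfsg.Agent.Lib.Spor.MclCent.DCent
import Cfsg.Agent.Lib.Spor.M23CohGaschuetz

/-!
An element normalizing one of the groups of order 16 with a known action splits as an involution in a complement
times an element of the group, and the relations of the normalizer hold for that involution.
-/

set_option autoImplicit false
set_option maxRecDepth 100000
set_option linter.style.haveILetI false
set_option linter.unusedSectionVars false

namespace Cfsg.Agent.Spor.MclCent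

open DCoset
open Local.FS.McLSmall (K idC)
open Local.FS.McLSmall.Cent (Cz tC tz)

attribute [local irreducible] mu idC mclCert sLit tLit cdK Nat.beq

variable {D : Side}

/-- the elements of the group of order 16 -/
noncomputable def vA (D : Side) (i : ℕ) : ↥Cz := wA (D.vw.getD i [])

/-- the generators of the complement -/
noncomputable def xA (D : Side) (k : ℕ) : ↥Cz := wA (D.gen k)

/-- the element of a word in the complement -/
noncomputable def lA (D : Side) (l : List ℕ) : ↥Cz := l.foldl (fun r k => r * xA D k) 1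

/-- the element of a segment -/
noncomputable def segA (D : Side) (sg : List ℕ × ℕ) : ↥Cz := lA D sg.1 * vA D sg.2

theorem cdA_lA (D : Side) (l : List ℕ) : cdA (lA D l) = D.evL mu mclCert l := by
  suffices ∀ r : ↥Cz, cdA (l.foldl (fun r k => r * xA D k) r) =
      l.foldl (fun r k => mu r (mclCert.ev mu (D.gen k))) (cdA r) by
    rw [lA, this, cdA_one]; rfl
  induction l with
  | nil => intro r; rfl
  | cons k l ih => intro r; rw [List.foldl_cons, List.foldl_cons, ih, cdA_mul, xA, cdA_wA, evC]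

section
variable (h : D.OK mu mclCert tLit)
include h

theorem v_facts : (∀ i < 16, cdA (vA D i) = D.vs.getD i 0) ∧ vA D 0 = 1 ∧ vA D 1 = tC ∧
    (∀ i < 16, ∀ j < 16, vA D i = vA D j → i = j) ∧
    ∀ i < 16, ∀ j < 16, D.mt i j < 16 ∧ vA D i * vA D j = vA D (D.mt i j) ∧ D.mt i j = D.mt j i := by
  have hv := h.v
  simp only [Side.vOK, Bool.and_eq_true, List.all_eq_true, List.mem_range, Nat.beq_eq, Nat.blt_eq, beq_iff_eq] at hv
  obtain ⟨⟨⟨⟨⟨hlen, hw⟩, h0⟩, h1⟩, hnd⟩, hmt⟩ := hv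
  have hc : ∀ i < 16, cdA (vA D i) = D.vs.getD i 0 := fun i hi => by
    rw [vA, cdA_wA]; exact hw i hi
  refine ⟨hc, eqA ?_, eqA ?_, fun i hi j hj e => ?_, fun i hi j hj => ?_⟩
  · rw [hc 0 (by norm_num), h0, cdA_one]
  · rw [hc 1 (by norm_num), h1, cdA_tC]
  · have e' := congrArg cdA e
    rw [hc i hi, hc j hj, List.getD_eq_getElem _ _ (hlen.symm ▸ hi), List.getD_eq_getElem _ _ (hlen.symm ▸ hj)] at e'
    have hn : D.vs.Nodup := (List.dedup_sublist _).eq_of_length (by rw [hnd, hlen]) ▸ List.nodup_dedup _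
    exact (hn.getElem_inj_iff).1 e'
  · obtain ⟨⟨h3, h4⟩, h5⟩ := hmt i hi j hj
    exact ⟨h3, eqA (by rw [cdA_mul, hc i hi, hc j hj, hc _ h3, h4]), h5⟩

theorem vA_sq {i : ℕ} (hi : i < 16) (hz : D.mt i i = 0) : vA D i * vA D i = 1 := by
  obtain ⟨-, h0, -, -, hm⟩ := v_facts h
  rw [(hm i hi i hi).2.1, hz, h0]

theorem vA_comm {i j : ℕ} (hi : i < 16) (hj : j < 16) : vA D i * vA D j = vA D j * vA D i := by
  obtain ⟨-, -, -, -, hm⟩ := v_facts h
  rw [(hm i hi j hj).2.1, (hm j hj i hi).2.1, (hm i hi j hj).2.2]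

/-- the group of order 16 -/
noncomputable def vSub : Subgroup ↥Cz where
  carrier := {a | ∃ i < 16, vA D i = a}
  one_mem' := ⟨0, by norm_num, (v_facts h).2.1⟩
  mul_mem' := fun {a b} ⟨i, hi, ha⟩ ⟨j, hj, hb⟩ => by
    obtain ⟨h3, h4, -⟩ := (v_facts h).2.2.2.2 i hi j hj
    exact ⟨_, h3, by rw [← ha, ← hb, h4]⟩
  inv_mem' := fun {a} ⟨i, hi, ha⟩ => by
    classical
    obtain ⟨hc, h0, -, hinj, hm⟩ := v_facts h
    let f : Fin 16 → Fin 16 := fun j => ⟨D.mt i j, (hm i hi j j.2).1⟩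
    have hf : Function.Injective f := fun j k e => by
      have e' : D.mt i j = D.mt i k := congrArg Fin.val e
      have := (hm i hi j j.2).2.1.trans ((congrArg (vA D) e').trans (hm i hi k k.2).2.1.symm)
      exact Fin.ext (hinj j j.2 k k.2 (mul_left_cancel this))
    obtain ⟨j, hj⟩ := Finite.surjective_of_injective hf ⟨0, by norm_num⟩
    refine ⟨j, j.2, (inv_eq_of_mul_eq_one_right ?_).symm⟩
    rw [← ha, (hm i hi j j.2).2.1, show D.mt i j = 0 from congrArg Fin.val hj, h0]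

theorem card_vSub : Nat.card ↥(vSub h) = 16 := by
  refine (Nat.card_eq_of_bijective (fun i : Fin 16 => (⟨vA D i, i, i.2, rfl⟩ : ↥(vSub h))) ⟨?_, ?_⟩).symm.trans
    (Nat.card_fin 16)
  · intro i j e
    exact Fin.ext ((v_facts h).2.2.2.1 i i.2 j j.2 (congrArg Subtype.val e))
  · rintro ⟨a, i, hi, rfl⟩
    exact ⟨⟨i, hi⟩, rfl⟩

theorem comp_facts : (∀ k < 2, ∀ i < 16, Side.ap (D.pg k) i < 16 ∧ Side.ap (D.qg k) i < 16 ∧
      Side.ap (D.pg k) (Side.ap (D.qg k) i) = i ∧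
      xA D k * vA D i = vA D (Side.ap (D.pg k) i) * xA D k) ∧ (∀ k < 2, (D.pg k).length = 16) ∧
    D.beta.length = 16 ∧ (∀ i < 16, Side.ap D.beta i < 16 ∧ Side.ap D.beta (Side.ap D.beta i) = i) ∧
    xA D 0 * xA D 0 = 1 ∧ xA D 1 * xA D 1 * xA D 1 = 1 ∧
    lA D [0, 1, 0, 1, 0, 1, 0, 1, 0, 1, 0, 1, 0, 1] = 1 ∧
    ∀ i < 16, ∀ j < 16,
      xA D 0 * vA D i * (xA D 0 * vA D i) = 1 → xA D 1 * vA D j * (xA D 1 * vA D j) * (xA D 1 * vA D j) = 1 →
      ([0, 1, 0, 1, 0, 1, 0, 1, 0, 1, 0, 1, 0, 1] : List ℕ).foldl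
          (fun r k => r * (bif Nat.beq k 0 then xA D 0 * vA D i else xA D 1 * vA D j)) 1 = 1 →
        ∃ w < 16, xA D 0 * vA D i * vA D w = vA D w * xA D 0 ∧ xA D 1 * vA D j * vA D w = vA D w * xA D 1 := by
  obtain ⟨hc, -⟩ := v_facts h
  have hv := h.comp
  simp only [Side.compOK, Side.actOK, Bool.and_eq_true, List.all_eq_true, List.mem_range, Nat.beq_eq, Nat.blt_eq,
    Bool.or_eq_true, List.any_eq_true, Bool.not_eq_eq_eq_not, Bool.not_true, Nat.ble_eq] at hv
  obtain ⟨⟨⟨⟨⟨⟨hp0, -⟩, hx⟩, ⟨⟨hp1, -⟩, hy⟩⟩, hb⟩, hbb⟩, ⟨⟨hxx, hyy⟩, h7⟩, hpairs⟩ := hv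
  have hg0 : D.gen 0 = D.xw := by rw [Side.gen, Nat.beq_refl]; rfl
  have hb10 : Nat.beq 1 0 = false := Bool.eq_false_iff.2 fun e => by simpa using Nat.eq_of_beq_eq_true e
  have hg1 : D.gen 1 = D.yw := by rw [Side.gen, hb10]; rfl
  have hX : cdA (xA D 0) = mclCert.ev mu D.xw := by rw [xA, cdA_wA, evC, hg0]
  have hY : cdA (xA D 1) = mclCert.ev mu D.yw := by rw [xA, cdA_wA, evC, hg1]
  have hpg0 : D.pg 0 = D.px ∧ D.qg 0 = D.qx := by
    rw [Side.pg, Side.qg, Nat.beq_refl]; exact ⟨rfl, rfl⟩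
  have hpg1 : D.pg 1 = D.py ∧ D.qg 1 = D.qy := by
    rw [Side.pg, Side.qg, hb10]; exact ⟨rfl, rfl⟩
  refine ⟨fun k hk i hi => ?_, fun k hk => ?_, hb, hbb, eqA ?_, eqA ?_, eqA ?_, fun i hi j hj e1 e2 e3 => ?_⟩
  · interval_cases k
    · obtain ⟨⟨⟨⟨h1, h2⟩, h3⟩, -⟩, h5⟩ := hx i hi
      rw [hpg0.1, hpg0.2]
      exact ⟨h1, h2, h3, eqA (by rw [cdA_mul, cdA_mul, hX, hc i hi, hc _ h1]; exact h5)⟩
    · obtain ⟨⟨⟨⟨h1, h2⟩, h3⟩, -⟩, h5⟩ := hy i hi
      rw [hpg1.1, hpg1.2]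
      exact ⟨h1, h2, h3, eqA (by rw [cdA_mul, cdA_mul, hY, hc i hi, hc _ h1]; exact h5)⟩
  · interval_cases k
    · rw [hpg0.1]; exact hp0
    · rw [hpg1.1]; exact hp1
  · rw [cdA_mul, hX, cdA_one]; exact hxx
  · rw [cdA_mul, cdA_mul, hY, cdA_one]; exact hyy
  · rw [cdA_lA, cdA_one]; exact h7
  · have c1 := congrArg cdA e1
    have c2 := congrArg cdA e2
    simp only [cdA_mul, hX, hY, hc i hi, hc j hj, cdA_one] at c1 c2
    have c3 : ([0, 1, 0, 1, 0, 1, 0, 1, 0, 1, 0, 1, 0, 1] : List ℕ).foldl (fun r k => mu r (bif Nat.beq k 0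
        then mu (mclCert.ev mu D.xw) (D.vs.getD i 0) else mu (mclCert.ev mu D.yw) (D.vs.getD j 0))) mclCert.one =
        mclCert.one := by
      rw [← hX, ← hY, ← hc i hi, ← hc j hj, ← cdA_mul, ← cdA_mul]
      have e : ∀ (l : List ℕ) (r : ↥Cz), cdA (l.foldl (fun r k => r * (bif Nat.beq k 0 then xA D 0 * vA D i
          else xA D 1 * vA D j)) r) = l.foldl (fun r k => mu r (bif Nat.beq k 0 then cdA (xA D 0 * vA D i)
          else cdA (xA D 1 * vA D j))) (cdA r) := by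
        intro l
        induction l with
        | nil => intro r; rfl
        | cons k l ih =>
          intro r
          rw [List.foldl_cons, List.foldl_cons, ih, cdA_mul r]
          rcases Bool.eq_false_or_eq_true (Nat.beq k 0) with hk | hk <;> rw [hk] <;> rfl
      have := (e _ 1).symm.trans ((congrArg cdA e3).trans cdA_one)
      rwa [cdA_one] at this
    rcases hpairs i hi j hj with ((hh | hh) | hh) | ⟨w, hw, hw1, hw2⟩
    · rw [Bool.eq_false_iff, Ne, Nat.beq_eq] at hh; exact absurd c1 hh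
    · rw [Bool.eq_false_iff, Ne, Nat.beq_eq] at hh; exact absurd c2 hh
    · rw [Bool.eq_false_iff, Ne, Nat.beq_eq] at hh; exact absurd c3 hh
    · refine ⟨w, hw, eqA ?_, eqA ?_⟩
      · simp only [cdA_mul, hX, hc i hi, hc w hw]; exact hw1
      · simp only [cdA_mul, hY, hc j hj, hc w hw]; exact hw2

/-- the complement -/
noncomputable def lSub (D : Side) : Subgroup ↥Cz := Subgroup.closure {a | ∃ k < 2, xA D k = a}

theorem tree_spec : Nat.card ↥(lSub D) = 168 ∧ lSub D ⊓ vSub h = ⊥ := by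
  classical
  haveI := Fintype.ofFinite ↥(lSub D)
  obtain ⟨hc, -⟩ := v_facts h
  have hv := h.tree
  simp only [Side.treeOK, Bool.and_eq_true, beq_iff_eq, List.all_eq_true, List.mem_range, List.elem_iff,
    Bool.or_eq_true, Nat.beq_eq, Bool.not_eq_eq_eq_not, Bool.not_true, List.mem_map] at hv
  obtain ⟨⟨⟨⟨hlen, hnd⟩, htree⟩, hcl⟩, hvv⟩ := hv
  have hin : ∀ k < 168, ∃ z ∈ lSub D, cdA z = (D.lTree.getD k (0, 0, 0)).2.2 := by
    intro k
    induction k using Nat.strong_induction_on with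
    | _ k ih =>
      intro hk
      have e := htree k hk
      rcases Nat.eq_zero_or_pos k with rfl | hk0
      · simp only [Nat.beq_refl, cond_true, Nat.beq_eq] at e
        exact ⟨1, one_mem _, by rw [cdA_one]; exact e.symm⟩
      · rw [show Nat.beq k 0 = false from Bool.eq_false_iff.2 fun e => hk0.ne' (Nat.eq_of_beq_eq_true e)] at e
        simp only [cond_false, Bool.and_eq_true, Nat.blt_eq, Nat.beq_eq] at e
        obtain ⟨⟨h1, h2⟩, h3⟩ := e
        obtain ⟨z, hz, hzc⟩ := ih _ h1 (h1.trans hk)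
        exact ⟨z * xA D (D.lTree.getD k (0, 0, 0)).2.1, mul_mem hz (Subgroup.subset_closure ⟨_, h2, rfl⟩),
          by rw [cdA_mul, hzc, xA, cdA_wA, evC, h3]⟩
  have hall : ∀ x ∈ lSub D, ∃ e ∈ D.lTree, e.2.2 = cdA x := by
    intro x hx
    rw [lSub, ← Subgroup.mem_toSubmonoid, Subgroup.closure_toSubmonoid_of_finite] at hx
    induction hx using Submonoid.closure_induction_right with
    | one =>
      have h0 : 0 < D.lTree.length := by omega
      have e := htree 0 (by norm_num)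
      simp only [Nat.beq_refl, cond_true, Nat.beq_eq] at e
      exact ⟨_, List.getElem_mem h0, by rw [← List.getD_eq_getElem _ (0, 0, 0) h0, e, cdA_one]⟩
    | mul_right x _ y hy ih =>
      obtain ⟨g, hg, rfl⟩ := hy
      obtain ⟨e, he, hev⟩ := ih
      obtain ⟨k, hk, rfl⟩ := List.mem_iff_getElem.1 he
      obtain ⟨e', he', hev'⟩ := hcl k (hlen ▸ hk) g hg
      exact ⟨e', he', by rw [hev', List.getD_eq_getElem _ _ hk, hev, cdA_mul, xA, cdA_wA, evC]⟩
  constructor
  · have himg : (Finset.univ : Finset ↥(lSub D)).image (fun x : ↥(lSub D) => cdA (x : ↥Cz)) =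
        (D.lTree.map fun e => e.2.2).toFinset := by
      ext v
      simp only [Finset.mem_image, Finset.mem_univ, true_and, List.mem_toFinset, List.mem_map]
      constructor
      · rintro ⟨x, rfl⟩
        obtain ⟨e, he, hev⟩ := hall x x.2
        exact ⟨e, he, hev⟩
      · rintro ⟨e, he, rfl⟩
        obtain ⟨k, hk, rfl⟩ := List.mem_iff_getElem.1 he
        obtain ⟨z, hz, hzv⟩ := hin k (hlen ▸ hk)
        exact ⟨⟨z, hz⟩, by rw [hzv, List.getD_eq_getElem _ _ hk]⟩
    have h' := congrArg Finset.card himg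
    rw [Finset.card_image_of_injective _ (fun a b h => Subtype.ext (eqA h)), List.card_toFinset, hnd] at h'
    rw [Nat.card_eq_fintype_card, ← Finset.card_univ, h']
  · rw [eq_bot_iff]
    rintro a ⟨hl, i, hi, rfl⟩
    obtain ⟨e, he, hev⟩ := hall _ hl
    rcases hvv _ ⟨e, he, rfl⟩ with h1 | h1
    · exact Subgroup.mem_bot.2 (eqA (by rw [← hev, h1, cdA_one]))
    · exfalso
      rw [hev, hc i hi, List.getD_eq_getElem _ _ (show i < D.vs.length by
        have hv := h.v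
        simp only [Side.vOK, Bool.and_eq_true, Nat.beq_eq] at hv
        rw [hv.1.1.1.1.1]; exact hi)] at h1
      rw [List.elem_eq_mem] at h1
      simp at h1

theorem self_cent {a : ↥Cz} (ha : ∀ i < 16, a * vA D i = vA D i * a) : a ∈ vSub h := by
  obtain ⟨hc, -⟩ := v_facts h
  have hv := h.self
  simp only [Side.selfOK, Bool.and_eq_true, Bool.or_eq_true, List.all_eq_true, List.any_eq_true, List.mem_range,
    Nat.beq_eq, Bool.not_eq_eq_eq_not, Bool.not_true] at hv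
  obtain ⟨⟨⟨hh, hw⟩, h2⟩, hall⟩ := hv
  set b := wA D.hw with hb
  have hq : ∀ i < 16, b * vA D i = wA (D.hvw.getD i []) * b := fun i hi => eqA (by
    rw [cdA_mul, cdA_mul, hb, cdA_wA, cdA_wA, hc i hi, evC, evC, hw i hi]
    exact hh i hi)
  have hq' : ∀ i < 16, b * a * b⁻¹ * wA (D.hvw.getD i []) = wA (D.hvw.getD i []) * (b * a * b⁻¹) := fun i hi => by
    have e1 : wA (D.hvw.getD i []) = b * vA D i * b⁻¹ := eq_mul_inv_of_mul_eq (hq i hi).symm
    rw [e1]
    calc b * a * b⁻¹ * (b * vA D i * b⁻¹) = b * (a * vA D i) * b⁻¹ := by group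
      _ = b * (vA D i * a) * b⁻¹ := by rw [ha i hi]
      _ = _ := by group
  have hu : wA (D.hvw.getD 2 []) = uA := eqA (by
    rw [cdA_wA, uA, cdA_wA, evC, evC, hw 2 (by norm_num)]; exact h2)
  obtain ⟨e, he, hev⟩ := mem_dList (c := b * a * b⁻¹) (by
    show b * a * b⁻¹ * uA = uA * (b * a * b⁻¹)
    rw [← hu]; exact hq' 2 (by norm_num))
  rcases hall e he with ⟨i, hi, hne⟩ | ⟨i, hi, heq⟩
  · rw [Bool.eq_false_iff, Ne, Nat.beq_eq] at hne
    refine absurd ?_ hne
    rw [hev, ← hw i hi, ← evC, ← cdA_wA, ← cdA_mul, ← cdA_mul, hq' i hi]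
  · have e1 : b * a * b⁻¹ = wA (D.hvw.getD i []) := eqA (by rw [← hev, cdA_wA, evC, hw i hi, heq])
    refine ⟨i, hi, ?_⟩
    have e2 : b * a = wA (D.hvw.getD i []) * b := mul_inv_eq_iff_eq_mul.1 e1
    exact (mul_left_cancel (e2.trans (hq i hi).symm)).symm

end

end Cfsg.Agent.Spor.MclCent
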